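import Cfsg.Agent.Lib.A4Stab.Sixteen
import Mathlib

/-!
# The affine group of degree `16`
-/

set_option autoImplicit false
set_option linter.style.haveILetI false
set_option linter.unusedSectionVars false

namespace Cfsg.Lib.A4Stab

open Subgroup MulAction Polynomial

universe u w

/-- The polynomial `X² + X + 1` over the field with two elements. -/
noncomputable def quadPoly : (ZMod 2)[X] := X ^ 2 + X + 1

theorem natDegree_quadPoly : quadPoly.natDegree = 2 := by
  unfold quadPoly
  compute_degree!

theorem quadPoly_irreducible : Irreducible quadPoly := by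
  refine Polynomial.irreducible_of_degree_le_three_of_not_isRoot ?_ ?_
  · rw [natDegree_quadPoly]; decide
  · intro x hx
    rw [IsRoot, quadPoly, eval_add, eval_add, eval_pow, eval_X, eval_one] at hx
    revert hx
    revert x
    decide

/-- A module over the field with four elements from an endomorphism satisfying `o² + o + 1 = 0`. -/
theorem exists_field_four {V : Type*} [AddCommGroup V] (h2 : ∀ x : V, (2 : ℕ) • x = 0) (o : AddMonoid.End V)
    (ho : o * o + o + 1 = 0) :
    ∃ (F : Type) (_ : Field F) (_ : Fintype F) (_ : Module F V), Fintype.card F = 4 ∧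
      ∀ c : AddMonoid.End V, Commute c o → ∀ (r : F) (x : V), c (r • x) = r • c x := by
  letI := AddCommGroup.zmodModule h2
  haveI : Fact (Irreducible quadPoly) := ⟨quadPoly_irreducible⟩
  set i : ZMod 2 →+* AddMonoid.End V := Module.toAddMonoidEnd (ZMod 2) V
  have hi : ∀ (c : AddMonoid.End V) (r : ZMod 2), Commute c (i r) := by
    intro c r
    rcases (by decide : ∀ r : ZMod 2, r = 0 ∨ r = 1) r with rfl | rfl
    · rw [map_zero]; exact Commute.zero_right c
    · rw [map_one]; exact Commute.one_right c
  set φ₀ := Polynomial.eval₂RingHom' i o fun r => (hi o r).symm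
  have hC : ∀ r, φ₀ (C r) = i r := fun r => Polynomial.eval₂_C i o
  have hX : φ₀ X = o := Polynomial.eval₂_X i o
  have hp : φ₀ quadPoly = 0 := by
    rw [quadPoly, map_add, map_add, map_pow, hX, map_one, pow_two]
    exact ho
  let φ : AdjoinRoot quadPoly →+* AddMonoid.End V := Ideal.Quotient.lift (Ideal.span {quadPoly}) φ₀ fun q hq => by
    obtain ⟨r, rfl⟩ := Ideal.mem_span_singleton'.1 hq
    rw [map_mul, hp, mul_zero]
  haveI : Module.Finite (ZMod 2) (AdjoinRoot quadPoly) :=
    (AdjoinRoot.powerBasis quadPoly_irreducible.ne_zero).finite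
  haveI : Finite (AdjoinRoot quadPoly) := Module.finite_of_finite (ZMod 2)
  letI := Fintype.ofFinite (AdjoinRoot quadPoly)
  refine ⟨AdjoinRoot quadPoly, inferInstance, inferInstance, Module.compHom V φ, ?_, fun c hc r x => ?_⟩
  · rw [Module.card_eq_pow_finrank (K := ZMod 2), ZMod.card,
      (AdjoinRoot.powerBasis quadPoly_irreducible.ne_zero).finrank, AdjoinRoot.powerBasis_dim, natDegree_quadPoly]
    rfl
  · have hr : Commute c (φ r) := by
      obtain ⟨q, rfl⟩ := AdjoinRoot.mk_surjective r
      show Commute c (φ₀ q)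
      induction q using Polynomial.induction_on' with
      | add p q hp hq => rw [map_add]; exact hp.add_right hq
      | monomial n s =>
        rw [← Polynomial.C_mul_X_pow_eq_monomial, map_mul, map_pow, hC, hX]
        exact (hi c s).mul_right (hc.pow_right n)
    exact congrArg (fun g : AddMonoid.End V => g x) hr.eq

variable {G : Type u} [Group G] [Finite G] {Ω : Type w} [Finite Ω] [MulAction G Ω] [FaithfulSMul G Ω]

theorem card_linearEquiv_two (F : Type) [Field F] [Fintype F] :
    Nat.card ((Fin 2 → F) ≃ₗ[F] (Fin 2 → F)) = (Fintype.card F ^ 2 - 1) * (Fintype.card F ^ 2 - Fintype.card F) := by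
  classical
  rw [← Nat.card_congr (Matrix.GeneralLinearGroup.toLin.trans
    (LinearMap.GeneralLinearGroup.generalLinearEquiv F (Fin 2 → F))).toEquiv, Matrix.card_GL_field, Fin.prod_univ_two]
  simp

theorem affine_of_deg16 (D : Deg16 G Ω) {a b : Ω} {t v : G} (B : Base G a b t v) :
    ∃ (F : Type) (_ : Field F) (_ : Fintype F), Fintype.card F = 4 ∧
      Nonempty (G ≃* ((Fin 2 → F) ≃ᵃ[F] (Fin 2 → F))) := by
  classical
  haveI := D.translations_normal
  set E := D.translations with hE
  letI : CommGroup E := { (inferInstance : Group E) with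
    mul_comm := fun x y => Subtype.ext (commute_of_sq D.translations_sq x.2 y.2).eq }
  obtain ⟨o, hoa, -, ho3, hofix, hocen⟩ := D.exists_central_three B
  let cj : G → AddMonoid.End (Additive E) := fun g =>
    MonoidHom.toAdditive (MulAut.conjNormal g : MulAut E).toMonoidHom
  have hcj : ∀ (g : G) (e : Additive E), ((Additive.toMul (cj g e) : E) : G) = g * (Additive.toMul e : E) * g⁻¹ :=
    fun g e => MulAut.conjNormal_apply g (Additive.toMul e)
  have hext : ∀ {x y : Additive E}, ((Additive.toMul x : E) : G) = (Additive.toMul y : E) → x = y :=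
    fun h => Additive.toMul.injective (Subtype.ext h)
  have h2 : ∀ x : Additive E, (2 : ℕ) • x = 0 := fun x => by
    rw [two_nsmul]
    exact hext (D.translations_sq _ (Additive.toMul x).2)
  have ho : cj o * cj o + cj o + 1 = 0 := by
    refine AddMonoidHom.ext fun x => hext ?_
    show ((Additive.toMul (cj o (cj o x)) : E) : G) * (Additive.toMul (cj o x) : E) * (Additive.toMul x : E) = 1
    set e : G := ((Additive.toMul x : E) : G)
    have he : e ∈ E := (Additive.toMul x).2
    rw [hcj, hcj]
    set e1 := o * e * o⁻¹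
    set e2 := o * e1 * o⁻¹
    have he1 : e1 ∈ E := (inferInstance : E.Normal).conj_mem e he o
    have he2 : e2 ∈ E := (inferInstance : E.Normal).conj_mem e1 he1 o
    have hc := fun {x y : G} (hx : x ∈ E) (hy : y ∈ E) => (commute_of_sq D.translations_sq hx hy).eq
    have hw : e2 * e1 * e ∈ E := mul_mem (mul_mem he2 he1) he
    have hconj : o * (e2 * e1 * e) * o⁻¹ = e2 * e1 * e := by
      calc o * (e2 * e1 * e) * o⁻¹ = (o * (o * o)) * e * (o * (o * o))⁻¹ * e2 * e1 := by
            simp only [e1, e2]; group
        _ = e * e2 * e1 := by rw [ho3]; group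
        _ = e2 * e1 * e := by rw [mul_assoc, hc he (mul_mem he2 he1)]
    have hfix : o • (e2 * e1 * e) • a = (e2 * e1 * e) • a := by
      rw [← mul_smul, mul_inv_eq_iff_eq_mul.1 hconj, mul_smul _ o, hoa]
    obtain ⟨g, -, -, huniq⟩ := D.translations_regular a a
    exact (huniq _ hw (hofix _ hfix)).trans (huniq 1 (one_mem _) (one_smul G a)).symm
  obtain ⟨F, iF, iF', iM, hF4, hlin⟩ := exists_field_four h2 (cj o) ho
  refine ⟨F, iF, iF', hF4, ?_⟩
  -- the points as translations
  have hbij : Function.Bijective fun e : E => (e : G) • a := by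
    constructor
    · intro e e' h
      obtain ⟨g, -, -, huniq⟩ := D.translations_regular a ((e : G) • a)
      exact Subtype.ext ((huniq _ e.2 rfl).trans (huniq _ e'.2 h.symm).symm)
    · intro p
      obtain ⟨g, hg, hga, -⟩ := D.translations_regular a p
      exact ⟨⟨g, hg⟩, hga⟩
  have hEcard : Nat.card E = 16 := by rw [Nat.card_eq_of_bijective _ hbij, D.card]
  haveI : Finite (Additive E) := Finite.of_equiv E Additive.ofMul
  haveI : Module.Finite F (Additive E) := Module.Finite.of_finite
  have hrank : Module.finrank F (Additive E) = 2 := by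
    have h := Module.natCard_eq_pow_finrank (K := F) (V := Additive E)
    rw [Nat.card_congr Additive.toMul, hEcard, Nat.card_eq_fintype_card, hF4, show 16 = 4 ^ 2 from rfl] at h
    exact (Nat.pow_right_injective (by norm_num) h).symm
  let L : Additive E ≃ₗ[F] (Fin 2 → F) := (Module.finBasisOfFinrankEq F (Additive E) hrank).equivFun
  -- every element normalizes the translations semilinearly
  have hcomm : ∀ g : G, Commute (cj g) (cj o) := by
    intro g
    refine AddMonoidHom.ext fun x => hext ?_
    show ((Additive.toMul (cj g (cj o x)) : E) : G) = (Additive.toMul (cj o (cj g x)) : E)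
    rw [hcj, hcj, hcj, hcj]
    set e : G := ((Additive.toMul x : E) : G)
    have he : e ∈ E := (Additive.toMul x).2
    obtain ⟨d, hd, hda, -⟩ := D.translations_regular a (g • a)
    have hh : Commute (d⁻¹ * g) o := hocen _ (by rw [mul_smul, ← hda, inv_smul_smul])
    have hw : (o * g)⁻¹ * (g * o) ∈ E := by
      have e1 : (o * g)⁻¹ * (g * o) = g⁻¹ * (o⁻¹ * d * o * d⁻¹) * g := by
        calc (o * g)⁻¹ * (g * o) = g⁻¹ * (o⁻¹ * (d * ((d⁻¹ * g) * o) * g⁻¹)) * g := by group
          _ = g⁻¹ * (o⁻¹ * (d * (o * (d⁻¹ * g)) * g⁻¹)) * g := by rw [hh.eq]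
          _ = _ := by group
      rw [e1]
      have h3 : o⁻¹ * d * o * d⁻¹ ∈ E := mul_mem (by
        have := (inferInstance : E.Normal).conj_mem d hd o⁻¹
        rwa [inv_inv] at this) (inv_mem hd)
      have := (inferInstance : E.Normal).conj_mem _ h3 g⁻¹
      rwa [inv_inv] at this
    set w := (o * g)⁻¹ * (g * o)
    have hgo : g * o = o * g * w := by simp only [w]; group
    calc g * (o * e * o⁻¹) * g⁻¹ = (g * o) * e * (g * o)⁻¹ := by group
      _ = o * g * (w * e * w⁻¹) * (o * g)⁻¹ := by rw [hgo]; group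
      _ = o * g * e * (o * g)⁻¹ := by
        rw [(commute_of_sq D.translations_sq hw he).eq, mul_inv_cancel_right]
      _ = o * (g * e * g⁻¹) * o⁻¹ := by group
  let C : G → (Additive E ≃ₗ[F] Additive E) := fun g =>
    { toFun := fun x => cj g x
      map_add' := fun x y => map_add (cj g) x y
      map_smul' := fun r x => hlin (cj g) (hcomm g) r x
      invFun := fun x => cj g⁻¹ x
      left_inv := fun x => hext (by rw [hcj, hcj]; group)
      right_inv := fun x => hext (by rw [hcj, hcj]; group) }
  let pt : Ω ≃ (Fin 2 → F) := (Equiv.ofBijective _ hbij).symm.trans (Additive.ofMul.trans L.toEquiv)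
  have hpt : ∀ x : Fin 2 → F, pt.symm x = ((Additive.toMul (L.symm x) : E) : G) • a := fun _ => rfl
  have hmap : ∀ (g : G) (x w : Fin 2 → F),
      pt (g • pt.symm (w +ᵥ x)) = L (C g (L.symm w)) +ᵥ pt (g • pt.symm x) := by
    intro g x w
    refine pt.symm.injective ?_
    rw [Equiv.symm_apply_apply, vadd_eq_add, vadd_eq_add, hpt, hpt, map_add L.symm, map_add L.symm,
      LinearEquiv.symm_apply_apply]
    set q := g • pt.symm x with hq
    have hqe : ((Additive.toMul (L.symm (pt q)) : E) : G) • a = q := by rw [← hpt, Equiv.symm_apply_apply]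
    set e : G := ((Additive.toMul (L.symm w) : E) : G)
    set f : G := ((Additive.toMul (L.symm x) : E) : G)
    show g • (e * f) • a = (((Additive.toMul (cj g (L.symm w)) : E) : G) * (Additive.toMul (L.symm (pt q)) : E)) • a
    rw [mul_smul, mul_smul, hqe, hcj, hq, hpt, mul_smul, mul_smul, inv_smul_smul]
  let Ψ : G →* ((Fin 2 → F) ≃ᵃ[F] (Fin 2 → F)) :=
    { toFun := fun g => ⟨pt.symm.trans ((MulAction.toPerm g : Equiv.Perm Ω).trans pt),
        L.symm.trans ((C g).trans L), fun x w => hmap g x w⟩
      map_one' := AffineEquiv.ext fun x => by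
        show pt ((1 : G) • pt.symm x) = x
        rw [one_smul, Equiv.apply_symm_apply]
      map_mul' := fun g h => AffineEquiv.ext fun x => by
        show pt ((g * h) • pt.symm x) = pt (g • pt.symm (pt (h • pt.symm x)))
        rw [Equiv.symm_apply_apply, mul_smul] }
  have hinj : Function.Injective Ψ := fun g h e => FaithfulSMul.eq_of_smul_eq_smul (α := Ω) fun p => by
    have := congrArg (fun f : (Fin 2 → F) ≃ᵃ[F] (Fin 2 → F) => f (pt p)) e
    have h' : pt (g • pt.symm (pt p)) = pt (h • pt.symm (pt p)) := this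
    rwa [Equiv.symm_apply_apply, pt.injective.eq_iff] at h'
  obtain ⟨hG, -⟩ := B.cards
  rw [D.card, show 12 * (16 * (16 - 1)) = 2880 by norm_num] at hG
  let Φ : ((Fin 2 → F) ≃ᵃ[F] (Fin 2 → F)) → (Fin 2 → F) × ((Fin 2 → F) ≃ₗ[F] (Fin 2 → F)) :=
    fun f => (f 0, f.linear)
  have hΦ : Function.Injective Φ := fun f f' e => AffineEquiv.ext fun x => by
    have h1 := f.map_vadd 0 x
    have h2 := f'.map_vadd 0 x
    simp only [vadd_eq_add, add_zero] at h1 h2
    rw [h1, h2, show f.linear = f'.linear from congrArg Prod.snd e, show f 0 = f' 0 from congrArg Prod.fst e]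
  haveI : Finite ((Fin 2 → F) ≃ₗ[F] (Fin 2 → F)) :=
    Nat.finite_of_card_ne_zero (by rw [card_linearEquiv_two, hF4]; norm_num)
  haveI : Finite ((Fin 2 → F) ≃ᵃ[F] (Fin 2 → F)) := Finite.of_injective Φ hΦ
  have hle : Nat.card ((Fin 2 → F) ≃ᵃ[F] (Fin 2 → F)) ≤ Nat.card G := by
    refine (Nat.card_le_card_of_injective Φ hΦ).trans (le_of_eq ?_)
    rw [Nat.card_prod, card_linearEquiv_two, hF4, hG, Nat.card_fun, Nat.card_eq_fintype_card, Nat.card_fin, hF4]
    norm_num
  exact ⟨MulEquiv.ofBijective Ψ ((Nat.bijective_iff_injective_and_card Ψ).2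
    ⟨hinj, le_antisymm (Nat.card_le_card_of_injective Ψ hinj) hle⟩)⟩

end Cfsg.Lib.A4Stab
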