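import Mathlib

/-!
# The two inequalities
-/

set_option autoImplicit false

namespace Cfsg.Lib.A4Stab

/-- The equation for an even degree. -/
theorem arith_even {μ s D i j β : ℕ} (hμ : 0 < μ) (hs : Odd s) (hD : Odd D) (hβ : β = 1 ∨ β = 3 ∨ β = 4 ∨ β = 6)
    (hj : j = D + 1) (hi : i = μ * s * D + 1) (hij : i = j ∨ i = j * j ∨ i + j = 2 * (j * j))
    (hm : 3 + β * i = s * s * ((4 * μ + 1) * (2 * μ + 1)) ∨ 3 + β * i = s * s * ((4 * μ - 1) * (2 * μ - 1))) :
    (i = j ∧ s = 1 ∧ μ = 1 ∧ ((β = 1 ∧ j = 12) ∨ (β = 3 ∧ j = 4) ∨ (β = 6 ∧ j = 2))) ∨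
      (β = 4 ∧ j = 6 ∧ i = 36) ∨ (β = 6 ∧ j = 2 ∧ i = 4) := by
  obtain ⟨a, rfl⟩ : ∃ a, μ = a + 1 := ⟨μ - 1, by omega⟩
  have hs0 : 0 < s := hs.pos
  have hD0 : 0 < D := hD.pos
  have hsub : (4 * (a + 1) - 1) * (2 * (a + 1) - 1) = (4 * a + 3) * (2 * a + 1) := by
    rw [show 4 * (a + 1) - 1 = 4 * a + 3 by omega, show 2 * (a + 1) - 1 = 2 * a + 1 by omega]
  rw [hsub] at hm
  rcases hij with hij | hij | hij
  · -- `i = j`
    have h1 : (a + 1) * s = 1 := by
      have : (a + 1) * s * D = 1 * D := by rw [one_mul]; omega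
      exact Nat.eq_of_mul_eq_mul_right hD0 this
    obtain ⟨ha, rfl⟩ : a + 1 = 1 ∧ s = 1 := ⟨(mul_eq_one.1 h1).1, (mul_eq_one.1 h1).2⟩
    obtain rfl : a = 0 := by omega
    left
    refine ⟨hij, rfl, rfl, ?_⟩
    obtain ⟨c, rfl⟩ := hD
    rcases hβ with rfl | rfl | rfl | rfl <;> rcases hm with h | h <;> norm_num at h <;> omega
  · -- `i = j²`
    have h1 : (a + 1) * s = D + 2 := by
      refine Nat.eq_of_mul_eq_mul_right hD0 ?_
      have : (D + 1) * (D + 1) = (D + 2) * D + 1 := by ring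
      rw [hj] at hij
      omega
    have hi' : i = (D + 1) * (D + 1) := by rw [hij, hj]
    -- eliminate large values
    by_cases ha : 2 ≤ a
    · exfalso
      have hD2 : D + 1 ≤ (a + 1) * s := by omega
      have hle : 3 + β * i + 1 ≤ s * s * ((4 * a + 3) * (2 * a + 1)) := by
        have hb : β * i ≤ 6 * ((D + 1) * (D + 1)) := by rw [hi']; exact Nat.mul_le_mul_right _ (by omega)
        have h2 : (D + 1) * (D + 1) ≤ (a + 1) * s * ((a + 1) * s) := Nat.mul_le_mul hD2 hD2
        nlinarith [Nat.mul_le_mul hs0 hs0, Nat.mul_le_mul ha ha, Nat.mul_le_mul (Nat.mul_le_mul hs0 hs0) ha]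
      rcases hm with h | h <;> nlinarith
    rcases (show a = 0 ∨ a = 1 by omega) with rfl | rfl
    · obtain rfl : s = D + 2 := by omega
      rcases hm with h | h
      · exfalso; rw [hi'] at h
        rcases hβ with rfl | rfl | rfl | rfl <;> nlinarith
      · rw [hi'] at h
        norm_num at h
        rcases hβ with rfl | rfl | rfl | rfl
        · exfalso; nlinarith
        · exfalso; nlinarith
        · have hD8 : D ≤ 8 := by nlinarith
          interval_cases D <;> first | omega | exact Or.inr (Or.inl ⟨rfl, by omega, by omega⟩)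
        · have hD8 : D ≤ 8 := by nlinarith
          interval_cases D <;> first | omega | exact Or.inr (Or.inr ⟨rfl, by omega, by omega⟩)
    · exfalso
      obtain ⟨c, rfl⟩ := hD
      omega
  · -- `i = 2j² - j`
    exfalso
    have h1 : (a + 1) * s = 2 * D + 3 := by
      refine Nat.eq_of_mul_eq_mul_right hD0 ?_
      have : 2 * ((D + 1) * (D + 1)) = (2 * D + 3) * D + 1 + (D + 1) := by ring
      rw [hj] at hij
      omega
    have hi2 : i = (D + 1) * (2 * D + 1) := by
      have : 2 * ((D + 1) * (D + 1)) = (D + 1) * (2 * D + 1) + (D + 1) := by ring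
      rw [hj] at hij
      omega
    have hb : β * i ≤ 6 * ((D + 1) * (2 * D + 1)) := by rw [hi2]; exact Nat.mul_le_mul_right _ (by omega)
    have hsq : (2 * D + 3) * (2 * D + 3) = (a + 1) * s * ((a + 1) * s) := by rw [h1]
    rcases Nat.eq_zero_or_pos a with rfl | ha
    · obtain rfl : s = 2 * D + 3 := by omega
      rcases hm with h | h <;> nlinarith
    · have h2 : 6 * ((D + 1) * (2 * D + 1)) ≤ 3 * ((2 * D + 3) * (2 * D + 3)) := by nlinarith
      have h3 : s * s * ((4 * a + 3) * (2 * a + 1)) =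
          3 * ((a + 1) * s * ((a + 1) * s)) + s * s * (5 * (a * a) + 4 * a) := by ring
      have h4 : 9 ≤ s * s * (5 * (a * a) + 4 * a) :=
        (show 9 ≤ 1 * 1 * (5 * (1 * 1) + 4 * 1) by norm_num).trans
          (Nat.mul_le_mul (Nat.mul_le_mul hs0 hs0) (Nat.add_le_add (Nat.mul_le_mul_left 5 (Nat.mul_le_mul ha ha)) (Nat.mul_le_mul_left 4 ha)))
      have h5 : s * s * ((4 * a + 3) * (2 * a + 1)) ≤ s * s * ((4 * (a + 1) + 1) * (2 * (a + 1) + 1)) :=
        Nat.mul_le_mul_left _ (Nat.mul_le_mul (by omega) (by omega))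
      rcases hm with h | h <;> omega

end Cfsg.Lib.A4Stab
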