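import Cfsg.Agent.Lib.A4Stab.Local
import Mathlib.GroupTheory.GroupAction.MultipleTransitivity

/-!
# Doubly transitive groups with two-point stabilizer `A₄`: first properties
-/

set_option autoImplicit false
set_option linter.style.haveILetI false
set_option linter.unusedSectionVars false

namespace Cfsg.Lib.A4Stab

open Subgroup MulAction

universe u w

variable {G : Type u} [Group G] [Finite G] {Ω : Type w} [Finite Ω] [MulAction G Ω] [FaithfulSMul G Ω]

/-- The stabilizer of two points. -/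
abbrev pairStab (G : Type u) [Group G] {Ω : Type w} [MulAction G Ω] (a b : Ω) : Subgroup G :=
  stabilizer G a ⊓ stabilizer G b

/-- A doubly transitive group with two-point stabilizer `A₄`. -/
structure Ctx (G : Type u) [Group G] {Ω : Type w} [MulAction G Ω] (a b : Ω) : Prop where
  two : ∀ {p q r s : Ω}, p ≠ q → r ≠ s → ∃ g : G, g • p = r ∧ g • q = s
  ne : a ≠ b
  iso : Nonempty (↥(pairStab G a b) ≃* alternatingGroup (Fin 4))

theorem mem_pairStab {a b : Ω} {g : G} : g ∈ pairStab G a b ↔ g • a = a ∧ g • b = b := Iff.rfl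

theorem conj_smul (k u : G) (p : Ω) : (k * u * k⁻¹) • (k • p) = k • (u • p) := by
  simp [mul_smul]

namespace Ctx

variable {a b : Ω}

theorem change (c : Ctx G a b) {p q : Ω} (h : p ≠ q) : Ctx G p q := by
  obtain ⟨g, hga, hgb⟩ := c.two c.ne h
  refine ⟨c.two, h, ⟨?_⟩⟩
  have e : pairStab G p q = (pairStab G a b).map (MulAut.conj g).toMonoidHom := by
    ext x
    rw [mem_map_equiv, MulAut.conj_symm_apply, mem_pairStab, mem_pairStab]
    simp only [mul_smul, inv_smul_eq_iff, hga, hgb]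
  exact (MulEquiv.subgroupCongr e).trans (((MulAut.conj g).subgroupMap (pairStab G a b)).symm.trans c.iso.some)

/-- Transfer of a statement about `A₄` to the pair stabilizer. -/
theorem card_pairStab (c : Ctx G a b) : Nat.card ↥(pairStab G a b) = 12 := by
  rw [Nat.card_congr c.iso.some.toEquiv, nat_card_alternatingGroup, Nat.card_fin]
  rfl

theorem sq_mul (c : Ctx G a b) {x y : G} (hx : x ∈ pairStab G a b) (hy : y ∈ pairStab G a b)
    (hx2 : x * x = 1) (hy2 : y * y = 1) : x * y * (x * y) = 1 := by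
  obtain ⟨e⟩ := c.iso
  have key : ∀ x y : alternatingGroup (Fin 4), x * x = 1 → y * y = 1 → x * y * (x * y) = 1 := by decide
  have h := key (e ⟨x, hx⟩) (e ⟨y, hy⟩) (by rw [← map_mul, ← map_one e]; exact congrArg e (Subtype.ext hx2))
    (by rw [← map_mul, ← map_one e]; exact congrArg e (Subtype.ext hy2))
  rw [← map_mul, ← map_mul, ← map_one e] at h
  exact congrArg Subtype.val (e.injective h)

theorem exists_conj (c : Ctx G a b) {x y : G} (hx : x ∈ pairStab G a b) (hy : y ∈ pairStab G a b)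
    (hxo : orderOf x = 2) (hyo : orderOf y = 2) : ∃ h ∈ pairStab G a b, h * x * h⁻¹ = y := by
  obtain ⟨e⟩ := c.iso
  have key : ∀ x y : alternatingGroup (Fin 4), x * x = 1 → x ≠ 1 → y * y = 1 → y ≠ 1 →
      ∃ g, g * x * g⁻¹ = y := by decide
  obtain ⟨g, hg⟩ := key (e ⟨x, hx⟩) (e ⟨y, hy⟩)
    (by rw [← map_mul, ← map_one e]; exact congrArg e (Subtype.ext (Invol.inv_mul_self hxo)))
    (fun h => Invol.ne_one hxo (congrArg Subtype.val (e.injective (h.trans (map_one e).symm))))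
    (by rw [← map_mul, ← map_one e]; exact congrArg e (Subtype.ext (Invol.inv_mul_self hyo)))
    (fun h => Invol.ne_one hyo (congrArg Subtype.val (e.injective (h.trans (map_one e).symm))))
  refine ⟨_, (e.symm g).2, ?_⟩
  have h2 := congrArg e.symm hg
  simp only [map_mul, map_inv, MulEquiv.symm_apply_apply] at h2
  exact congrArg Subtype.val h2

theorem sq_of_commute (c : Ctx G a b) {x y : G} (hx : x ∈ pairStab G a b) (hy : y ∈ pairStab G a b)
    (hxo : orderOf x = 2) (h : y * x = x * y) : y * y = 1 := by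
  obtain ⟨e⟩ := c.iso
  have key : ∀ x y : alternatingGroup (Fin 4), ¬ (x * x = 1 ∧ x ≠ 1 ∧ y * x = x * y ∧ y * y ≠ 1) := by decide
  have h2 : e ⟨y, hy⟩ * e ⟨y, hy⟩ = 1 := by_contra fun hne => key (e ⟨x, hx⟩) (e ⟨y, hy⟩) ⟨by rw [← map_mul, ← map_one e]; exact congrArg e (Subtype.ext (Invol.inv_mul_self hxo)),
    fun h => Invol.ne_one hxo (congrArg Subtype.val (e.injective (h.trans (map_one e).symm))),
    by rw [← map_mul, ← map_mul]; exact congrArg e (Subtype.ext h), hne⟩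
  rw [← map_mul, ← map_one e] at h2
  exact congrArg Subtype.val (e.injective h2)

/-- The four group of the pair stabilizer. -/
def four (c : Ctx G a b) : Subgroup G where
  carrier := {x | x ∈ pairStab G a b ∧ x * x = 1}
  one_mem' := ⟨one_mem _, one_mul 1⟩
  mul_mem' := fun hx hy => ⟨mul_mem hx.1 hy.1, c.sq_mul hx.1 hy.1 hx.2 hy.2⟩
  inv_mem' := fun {x} hx => ⟨inv_mem hx.1, by rw [← mul_inv_rev, hx.2, inv_one]⟩

theorem mem_four (c : Ctx G a b) {x : G} : x ∈ c.four ↔ x ∈ pairStab G a b ∧ x * x = 1 := Iff.rfl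

theorem four_le (c : Ctx G a b) : c.four ≤ pairStab G a b := fun _ h => h.1

theorem four_mem_of_orderOf (c : Ctx G a b) {x : G} (hx : x ∈ pairStab G a b) (h : orderOf x = 2) :
    x ∈ c.four := ⟨hx, Invol.inv_mul_self h⟩

theorem orderOf_of_mem_four (c : Ctx G a b) {x : G} (hx : x ∈ c.four) (h1 : x ≠ 1) : orderOf x = 2 :=
  Invol.orderOf_eq_two_of h1 hx.2

theorem card_four (c : Ctx G a b) : Nat.card c.four = 4 := by
  obtain ⟨e⟩ := c.iso
  classical
  have h : Nat.card c.four = Nat.card {z : alternatingGroup (Fin 4) // z * z = 1} := Nat.card_congr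
    { toFun := fun x => ⟨e ⟨x.1, x.2.1⟩, by rw [← map_mul, ← map_one e]; exact congrArg e (Subtype.ext x.2.2)⟩
      invFun := fun z => ⟨(e.symm z.1 : G), (e.symm z.1).2, by
        rw [← Subgroup.coe_mul, ← map_mul, z.2, map_one, Subgroup.coe_one]⟩
      left_inv := fun x => by simp
      right_inv := fun z => by simp }
  rw [h, Nat.card_eq_fintype_card]
  decide

theorem commute_four (c : Ctx G a b) {x y : G} (hx : x ∈ c.four) (hy : y ∈ c.four) : Commute x y := by
  have h := (mul_mem hx hy : x * y ∈ c.four).2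
  have hxi : x⁻¹ = x := inv_eq_of_mul_eq_one_right hx.2
  have hyi : y⁻¹ = y := inv_eq_of_mul_eq_one_right hy.2
  have h' : (x * y)⁻¹ = x * y := inv_eq_of_mul_eq_one_right h
  rw [mul_inv_rev, hxi, hyi] at h'
  exact h'.symm

theorem isKleinFour_four (c : Ctx G a b) : IsKleinFour c.four := by
  haveI : Nontrivial c.four := Finite.one_lt_card_iff_nontrivial.1 (by rw [c.card_four]; norm_num)
  exact ⟨c.card_four, (Monoid.exponent_eq_prime_iff Nat.prime_two).2 fun x hx =>
    orderOf_eq_prime (Subtype.ext (by rw [SubmonoidClass.coe_pow, sq]; exact x.2.2)) hx⟩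

end Ctx

/-- The base data: two commuting involutions of the pair stabilizer. -/
structure Base (G : Type u) [Group G] {Ω : Type w} [MulAction G Ω] (a b : Ω) (t v : G) : Prop extends Ctx G a b where
  htH : t ∈ pairStab G a b
  ht : orderOf t = 2
  hvH : v ∈ pairStab G a b
  hv : orderOf v = 2
  htv : t ≠ v

theorem exists_base {a b : Ω} (c : Ctx G a b) : ∃ t v : G, Base G a b t v := by
  classical
  haveI := c.isKleinFour_four
  letI := Fintype.ofFinite c.four
  have h4 : Fintype.card c.four = 4 := IsKleinFour.card_four'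
  obtain ⟨x, hx⟩ := Fintype.exists_ne_of_one_lt_card (by omega) (1 : c.four)
  obtain ⟨y, hy1, hyx⟩ : ∃ y : c.four, y ≠ 1 ∧ y ≠ x := by
    by_contra hcon
    push Not at hcon
    have hsub : (Finset.univ : Finset c.four) ⊆ {1, x} := fun y _ => by
      rcases eq_or_ne y 1 with h | h
      · simp [h]
      · simp [hcon y h]
    have := (Finset.card_le_card hsub).trans Finset.card_le_two
    rw [Finset.card_univ, h4] at this
    omega
  exact ⟨x, y, c, x.2.1, c.orderOf_of_mem_four x.2 fun h => hx (Subtype.ext h), y.2.1,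
    c.orderOf_of_mem_four y.2 fun h => hy1 (Subtype.ext h), fun h => hyx (Subtype.ext h.symm)⟩

/-- Fixed points of a set of group elements. -/
def fix (A : Set G) : Set Ω := {p | ∀ g ∈ A, g • p = p}

theorem mem_fix_singleton {t : G} {p : Ω} : p ∈ (fix {t} : Set Ω) ↔ t • p = p := by simp [fix]

theorem mem_fix_pair {t v : G} {p : Ω} : p ∈ (fix {t, v} : Set Ω) ↔ t • p = p ∧ v • p = p := by simp [fix]

/-- Orders of groups transitive on the ordered pairs of an invariant set. -/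
theorem card_of_pairs {a b : Ω} (hab : a ≠ b) (K : Subgroup G) (S : Set Ω) (ha : a ∈ S) (hb : b ∈ S)
    (hinv : ∀ k ∈ K, ∀ p ∈ S, k • p ∈ S)
    (htr : ∀ p ∈ S, ∀ q ∈ S, p ≠ q → ∃ k ∈ K, k • p = a ∧ k • q = b) :
    Nat.card K = Nat.card ↥(K ⊓ pairStab G a b) * (S.ncard * (S.ncard - 1)) ∧
      Nat.card ↥(K ⊓ stabilizer G a) = Nat.card ↥(K ⊓ pairStab G a b) * (S.ncard - 1) := by
  classical
  constructor
  · have hor : MulAction.orbit K (a, b) = {x : Ω × Ω | x.1 ∈ S ∧ x.2 ∈ S ∧ x.1 ≠ x.2} := by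
      ext ⟨p, q⟩
      constructor
      · rintro ⟨k, hk⟩
        obtain ⟨rfl, rfl⟩ := Prod.ext_iff.1 hk.symm
        exact ⟨hinv _ k.2 _ ha, hinv _ k.2 _ hb, fun h => hab (MulAction.injective (k : G) h)⟩
      · rintro ⟨hp, hq, hne⟩
        obtain ⟨k, hk, hka, hkb⟩ := htr p hp q hq hne
        refine ⟨⟨k⁻¹, inv_mem hk⟩, ?_⟩
        show (k⁻¹ • a, k⁻¹ • b) = (p, q)
        rw [← hka, ← hkb, inv_smul_smul, inv_smul_smul]
    have h := (stabilizer K (a, b)).card_mul_index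
    rw [index_stabilizer, hor] at h
    have e : Nat.card (stabilizer K (a, b)) = Nat.card ↥(K ⊓ pairStab G a b) := Nat.card_congr
      { toFun := fun x => ⟨x.1.1, mem_inf.2 ⟨x.1.2, mem_pairStab.2 (Prod.ext_iff.1 (mem_stabilizer_iff.1 x.2))⟩⟩
        invFun := fun x => ⟨⟨x.1, (mem_inf.1 x.2).1⟩,
          mem_stabilizer_iff.2 (Prod.ext_iff.2 (mem_pairStab.1 (mem_inf.1 x.2).2))⟩
        left_inv := fun x => rfl
        right_inv := fun x => rfl }
    have e2 : {x : Ω × Ω | x.1 ∈ S ∧ x.2 ∈ S ∧ x.1 ≠ x.2}.ncard = S.ncard * (S.ncard - 1) := by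
      letI := Fintype.ofFinite Ω
      rw [Set.ncard_eq_toFinset_card' S, Set.ncard_eq_toFinset_card',
        show Set.toFinset {x : Ω × Ω | x.1 ∈ S ∧ x.2 ∈ S ∧ x.1 ≠ x.2} = S.toFinset.offDiag by ext x; simp,
        Finset.offDiag_card, Nat.mul_sub_one]
    rw [← e, ← e2]
    exact h.symm
  · have hor : MulAction.orbit ↥(K ⊓ stabilizer G a) b = S \ {a} := by
      ext q
      constructor
      · rintro ⟨k, rfl⟩
        refine ⟨hinv _ (mem_inf.1 k.2).1 _ hb, fun h => hab ?_⟩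
        exact MulAction.injective (k : G) ((mem_stabilizer_iff.1 (mem_inf.1 k.2).2).trans
          (Set.mem_singleton_iff.1 h).symm)
      · rintro ⟨hq, hne⟩
        obtain ⟨k, hk, hka, hkb⟩ := htr a ha q hq (Ne.symm hne)
        refine ⟨⟨k⁻¹, inv_mem (mem_inf.2 ⟨hk, mem_stabilizer_iff.2 hka⟩)⟩, ?_⟩
        show k⁻¹ • b = q
        rw [← hkb, inv_smul_smul]
    have h := (stabilizer ↥(K ⊓ stabilizer G a) b).card_mul_index
    rw [index_stabilizer, hor, Set.ncard_diff_singleton_of_mem ha] at h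
    have e : Nat.card (stabilizer ↥(K ⊓ stabilizer G a) b) = Nat.card ↥(K ⊓ pairStab G a b) := Nat.card_congr
      { toFun := fun x => ⟨x.1.1, mem_inf.2 ⟨(mem_inf.1 x.1.2).1,
          mem_pairStab.2 ⟨mem_stabilizer_iff.1 (mem_inf.1 x.1.2).2, mem_stabilizer_iff.1 x.2⟩⟩⟩
        invFun := fun x => ⟨⟨x.1, mem_inf.2 ⟨(mem_inf.1 x.2).1, mem_stabilizer_iff.2 (mem_pairStab.1 (mem_inf.1 x.2).2).1⟩⟩,
          mem_stabilizer_iff.2 (mem_pairStab.1 (mem_inf.1 x.2).2).2⟩
        left_inv := fun x => rfl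
        right_inv := fun x => rfl }
    rw [← e]
    exact h.symm

/-- Counting elements against ordered pairs. -/
theorem pair_count {a b : Ω} (hab : a ≠ b) (K : Subgroup G) (S : Set Ω) (ha : a ∈ S) (hb : b ∈ S)
    (hinv : ∀ k ∈ K, ∀ p ∈ S, k • p ∈ S)
    (htr : ∀ p ∈ S, ∀ q ∈ S, p ≠ q → ∃ k ∈ K, k • p = a ∧ k • q = b)
    (T : Set G) (hT : ∀ k ∈ K, ∀ u ∈ T, k * u * k⁻¹ ∈ T)
    (R : G → Ω → Ω → Prop) (hR : ∀ k u p q, R u p q → R (k * u * k⁻¹) (k • p) (k • q)) (m : ℕ)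
    (hm : ∀ u ∈ T, {x : Ω × Ω | x.1 ∈ S ∧ x.2 ∈ S ∧ x.1 ≠ x.2 ∧ R u x.1 x.2}.ncard = m) :
    T.ncard * m = S.ncard * (S.ncard - 1) * {u | u ∈ T ∧ R u a b}.ncard := by
  classical
  letI := Fintype.ofFinite Ω
  letI := Fintype.ofFinite G
  have h1 := Finset.sum_card_bipartiteAbove_eq_sum_card_bipartiteBelow
    (fun (u : G) (x : Ω × Ω) => R u x.1 x.2) (s := T.toFinset) (t := S.toFinset.offDiag)
  rw [Finset.sum_const_nat (m := m) ?_, Finset.sum_const_nat (m := {u | u ∈ T ∧ R u a b}.ncard) ?_,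
    Finset.offDiag_card, ← Nat.mul_sub_one, ← Set.ncard_eq_toFinset_card', ← Set.ncard_eq_toFinset_card'] at h1
  · exact h1
  · rintro ⟨p, q⟩ hx
    rw [Finset.mem_offDiag, Set.mem_toFinset, Set.mem_toFinset] at hx
    obtain ⟨k, hk, hka, hkb⟩ := htr p hx.1 q hx.2.1 hx.2.2
    rw [Set.ncard_eq_toFinset_card']
    refine Finset.card_nbij' (fun u => k * u * k⁻¹) (fun u => k⁻¹ * u * k) ?_ ?_
      (fun u _ => by group) (fun u _ => by group)
    · intro u hu
      simp only [Finset.mem_coe, Finset.mem_bipartiteBelow, Set.mem_toFinset] at hu ⊢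
      exact ⟨hT k hk u hu.1, hka ▸ hkb ▸ hR k u p q hu.2⟩
    · intro u hu
      simp only [Finset.mem_coe, Finset.mem_bipartiteBelow, Set.mem_toFinset] at hu ⊢
      obtain ⟨hu1, hu2⟩ := hu
      have := hR k⁻¹ u a b hu2
      rw [inv_inv] at this
      refine ⟨by simpa [mul_assoc] using hT k⁻¹ (inv_mem hk) u hu1, ?_⟩
      rwa [← hka, ← hkb, inv_smul_smul, inv_smul_smul] at this
  · intro u hu
    rw [← hm u (Set.mem_toFinset.1 hu), Set.ncard_eq_toFinset_card']
    congr 1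
    ext x
    simp [and_assoc]

theorem card_fix_pairs (S : Set Ω) (u : G) :
    {x : Ω × Ω | x.1 ∈ S ∧ x.2 ∈ S ∧ x.1 ≠ x.2 ∧ (u • x.1 = x.1 ∧ u • x.2 = x.2)}.ncard =
      (S ∩ fix {u}).ncard * ((S ∩ fix {u}).ncard - 1) := by
  classical
  letI := Fintype.ofFinite Ω
  rw [Set.ncard_eq_toFinset_card' (S ∩ fix {u}), Set.ncard_eq_toFinset_card', Nat.mul_sub_one,
    ← Finset.offDiag_card]
  congr 1
  ext x
  simp [mem_fix_singleton]
  tauto

theorem card_swap_pairs (S : Set Ω) {u : G} (hu : ∀ p : Ω, u • u • p = p) (hS : ∀ p ∈ S, u • p ∈ S) :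
    {x : Ω × Ω | x.1 ∈ S ∧ x.2 ∈ S ∧ x.1 ≠ x.2 ∧ (u • x.1 = x.2 ∧ u • x.2 = x.1)}.ncard =
      S.ncard - (S ∩ fix {u}).ncard := by
  rw [← Set.ncard_diff Set.inter_subset_left, ← Set.ncard_image_of_injective (S \ (S ∩ fix {u}))
    (f := fun p => (p, u • p)) fun p q h => congrArg Prod.fst h]
  congr 1
  ext ⟨p, q⟩
  constructor
  · rintro ⟨hp, hq, hne, h1, h2⟩
    exact ⟨p, ⟨hp, fun h => hne ((mem_fix_singleton.1 h.2).symm.trans h1)⟩, Prod.ext rfl h1⟩
  · rintro ⟨p', ⟨hp, hnf⟩, h⟩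
    obtain ⟨rfl, rfl⟩ := Prod.ext_iff.1 h
    exact ⟨hp, hS _ hp, fun e => hnf ⟨hp, mem_fix_singleton.2 e.symm⟩, rfl, hu _⟩

end Cfsg.Lib.A4Stab
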