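import Cfsg.Agent.Lib.A4Stab.Swap

/-!
# The possible values of the counts
-/

set_option autoImplicit false
set_option linter.style.haveILetI false
set_option linter.unusedSectionVars false

namespace Cfsg.Lib.A4Stab

open Subgroup MulAction

universe u w

variable {G : Type u} [Group G] [Finite G] {Ω : Type w} [Finite Ω] [MulAction G Ω] [FaithfulSMul G Ω]

theorem Partner.mul_self' {t u : G} (ht : t * t = 1) (hu : Base.Partner G Ω t u) : Base.Partner G Ω t (u * t) := by
  obtain ⟨ho, hc, hne, p, q, hpq, ⟨h1, h2⟩, h3, h4⟩ := hu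
  refine ⟨Invol.orderOf_eq_two_of (fun h => hne ?_) ?_, hc.mul_right (Commute.refl t), fun h => ?_, p, q, hpq,
    ⟨h1, h2⟩, by rw [mul_smul, h1, h3], by rw [mul_smul, h2, h4]⟩
  · rw [mul_eq_one_iff_eq_inv.1 h, inv_eq_of_mul_eq_one_right ht]
  · rw [hc.mul_mul_mul_comm, Invol.inv_mul_self ho, ht, one_mul]
  · exact Invol.ne_one ho (mul_eq_right.1 h)

namespace Base

variable {a b : Ω} {t v z u : G}

theorem central_swap_invol (B : Base G a b t v) (hz : CentralSwap G a b z) {g : G} :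
    (Swaps g a b ∧ g * g = 1) ↔ ∃ y ∈ B.toCtx.four, g = z * y := by
  constructor
  · rintro ⟨hg, hgg⟩
    refine ⟨z⁻¹ * g, ⟨hz.swaps.inv.mul_mem hg, ?_⟩, (mul_inv_cancel_left z g).symm⟩
    have hc : Commute z (z⁻¹ * g) := hz.comm _ (hz.swaps.inv.mul_mem hg)
    calc z⁻¹ * g * (z⁻¹ * g) = z⁻¹ * (g * (z⁻¹ * g)) := mul_assoc _ _ _
      _ = z⁻¹ * (z * (z⁻¹ * g) * (z⁻¹ * g)) := by rw [mul_inv_cancel_left]
      _ = z⁻¹ * (z⁻¹ * g * z * (z⁻¹ * g)) := by rw [hc.eq]
      _ = z⁻¹ * z⁻¹ * (g * g) := by group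
      _ = 1 := by rw [hgg, mul_one, ← mul_inv_rev, Invol.inv_mul_self hz.ord, inv_one]
  · rintro ⟨y, hy, rfl⟩
    exact ⟨hz.swaps.mul_pairStab hy.1, by
      rw [(hz.comm y hy.1).symm.mul_mul_mul_comm, Invol.inv_mul_self hz.ord, hy.2, one_mul]⟩

theorem isT_mul_four (B : Base G a b t v) (hz : CentralSwap G a b z) {y : G} (hy : y ∈ B.toCtx.four) (hy1 : y ≠ 1) :
    IsT G Ω (z * y) ↔ IsT G Ω (z * v) := by
  obtain ⟨h, hh, hconj⟩ := B.toCtx.exists_conj hy.1 B.hvH (B.toCtx.orderOf_of_mem_four hy hy1) B.hv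
  have e : h * (z * y) * h⁻¹ = z * v := by
    rw [← hconj, ← mul_assoc h z y, ← (hz.comm h hh).eq]; group
  constructor
  · intro hT; exact e ▸ hT.conj h
  · intro hT
    have := hT.conj h⁻¹
    rw [← e, show h⁻¹ * (h * (z * y) * h⁻¹) * h⁻¹⁻¹ = z * y by group] at this
    exact this

theorem central_beta (B : Base G a b t v) (hz : CentralSwap G a b z) :
    (IsT G Ω z ∧ IsT G Ω (z * v) ∧ {g | IsT G Ω g ∧ Swaps g a b}.ncard = 4) ∨
    (IsT G Ω z ∧ ¬ IsT G Ω (z * v) ∧ {g | IsT G Ω g ∧ Swaps g a b}.ncard = 1) ∨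
    (¬ IsT G Ω z ∧ IsT G Ω (z * v) ∧ {g | IsT G Ω g ∧ Swaps g a b}.ncard = 3) := by
  have hset : {g | IsT G Ω g ∧ Swaps g a b} = {g | ∃ y ∈ B.toCtx.four, g = z * y ∧ IsT G Ω (z * y)} := by
    ext g
    constructor
    · rintro ⟨hT, hs⟩
      obtain ⟨y, hy, rfl⟩ := (B.central_swap_invol hz).1 ⟨hs, Invol.inv_mul_self hT.1⟩
      exact ⟨y, hy, rfl, hT⟩
    · rintro ⟨y, hy, rfl, hT⟩
      exact ⟨hT, hz.swaps.mul_pairStab hy.1⟩
  have h3 : ({z * t, z * v, z * (t * v)} : Set G).ncard = 3 := by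
    rw [show ({z * t, z * v, z * (t * v)} : Set G) = (z * ·) '' {t, v, t * v} by
      simp [Set.image_insert_eq], Set.ncard_image_of_injective _ (mul_right_injective z), B.ncard_three]
  have hnot : z ∉ ({z * t, z * v, z * (t * v)} : Set G) := by
    rintro (h | h | h)
    · exact Invol.ne_one B.ht (mul_eq_left.1 h.symm)
    · exact Invol.ne_one B.hv (mul_eq_left.1 h.symm)
    · exact B.tv_ne_one (mul_eq_left.1 (Set.mem_singleton_iff.1 h).symm)
  have htvm : t * v ∈ B.toCtx.four := mul_mem B.t_mem_four B.v_mem_four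
  by_cases hz' : IsT G Ω z <;> by_cases hzv : IsT G Ω (z * v)
  · refine Or.inl ⟨hz', hzv, ?_⟩
    have e : {g | IsT G Ω g ∧ Swaps g a b} = insert z {z * t, z * v, z * (t * v)} := by
      rw [hset]; ext g
      constructor
      · rintro ⟨y, hy, rfl, -⟩
        rcases B.four_cases hy with rfl | rfl | rfl | rfl <;> simp
      · rintro (rfl | rfl | rfl | rfl)
        · exact ⟨1, one_mem _, (mul_one g).symm, by rwa [mul_one]⟩
        · exact ⟨t, B.t_mem_four, rfl, (B.isT_mul_four hz B.t_mem_four (Invol.ne_one B.ht)).2 hzv⟩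
        · exact ⟨v, B.v_mem_four, rfl, hzv⟩
        · exact ⟨t * v, htvm, rfl, (B.isT_mul_four hz htvm B.tv_ne_one).2 hzv⟩
    rw [e, Set.ncard_insert_of_notMem hnot, h3]
  · refine Or.inr (Or.inl ⟨hz', hzv, ?_⟩)
    have e : {g | IsT G Ω g ∧ Swaps g a b} = {z} := by
      rw [hset]; ext g
      constructor
      · rintro ⟨y, hy, rfl, hT⟩
        by_cases hy1 : y = 1
        · simp [hy1]
        · exact absurd ((B.isT_mul_four hz hy hy1).1 hT) hzv
      · rintro rfl
        exact ⟨1, one_mem _, (mul_one g).symm, by rwa [mul_one]⟩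
    rw [e, Set.ncard_singleton]
  · refine Or.inr (Or.inr ⟨hz', hzv, ?_⟩)
    have e : {g | IsT G Ω g ∧ Swaps g a b} = {z * t, z * v, z * (t * v)} := by
      rw [hset]; ext g
      constructor
      · rintro ⟨y, hy, rfl, hT⟩
        rcases B.four_cases hy with rfl | rfl | rfl | rfl
        · exact absurd (mul_one z ▸ hT) hz'
        all_goals simp
      · rintro (rfl | rfl | rfl)
        · exact ⟨t, B.t_mem_four, rfl, (B.isT_mul_four hz B.t_mem_four (Invol.ne_one B.ht)).2 hzv⟩
        · exact ⟨v, B.v_mem_four, rfl, hzv⟩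
        · exact ⟨t * v, htvm, rfl, (B.isT_mul_four hz htvm B.tv_ne_one).2 hzv⟩
    rw [e, h3]
  · exfalso
    have e : {g | IsT G Ω g ∧ Swaps g a b} = ∅ := by
      rw [hset]; ext g
      simp only [Set.mem_setOf_eq, Set.mem_empty_iff_false, iff_false, not_exists, not_and]
      intro y hy _ hT
      by_cases hy1 : y = 1
      · exact hz' (by rwa [hy1, mul_one] at hT)
      · exact hzv ((B.isT_mul_four hz hy hy1).1 hT)
    have h := B.count_eq
    rw [e, Set.ncard_empty, zero_mul] at h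
    have := B.fix_lt
    omega

theorem outer_no_commute (B : Base G a b t v) (hu : OuterSwap G a b t v u) {y : G} (hy : y ∈ B.toCtx.four)
    (hc : Commute u y) : y = 1 ∨ y = t := by
  have hvne : ¬ Commute u v := fun h => Invol.ne_one B.ht (mul_eq_right.1 ((hu.moves).symm.trans
    (mul_inv_eq_iff_eq_mul.2 h.eq)))
  rcases B.four_cases hy with rfl | rfl | rfl | rfl
  · exact Or.inl rfl
  · exact Or.inr rfl
  · exact absurd hc hvne
  · refine absurd ?_ hvne
    have := hu.comm.inv_right.mul_right hc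
    rwa [inv_mul_cancel_left] at this

/-- The centralizer of `u` in the pair stabilizer. -/
theorem outer_centralizer (B : Base G a b t v) (hu : OuterSwap G a b t v u) {h : G} (hh : h ∈ pairStab G a b)
    (hc : Commute u h) : h = 1 ∨ h = t := by
  refine B.outer_no_commute hu (B.mem_four_of_commute hh ?_) hc
  have hm : h * t * h⁻¹ ∈ B.toCtx.four := B.conj_mem_four hh B.t_mem_four
  have hcm : Commute u (h * t * h⁻¹) := (hc.mul_right hu.comm).mul_right hc.inv_right
  rcases B.outer_no_commute hu hm hcm with e | e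
  · exact absurd (conj_eq_one_iff.1 e) (Invol.ne_one B.ht)
  · exact mul_inv_eq_iff_eq_mul.1 e

theorem outer_swap_centralizer (B : Base G a b t v) (hu : OuterSwap G a b t v u) {g : G} (hs : Swaps g a b)
    (hgg : g * g = 1) (hc : Commute g t) : g = u ∨ g = u * t := by
  have hh : u⁻¹ * g ∈ pairStab G a b := hu.swaps.inv.mul_mem hs
  have h4 : u⁻¹ * g ∈ B.toCtx.four := B.mem_four_of_commute hh ((hu.comm.inv_left).mul_left hc)
  have hcu : Commute u (u⁻¹ * g) := by
    have h1 := h4.2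
    have hui : u⁻¹ = u := Invol.inv_eq_self hu.ord
    rw [hui] at h1 ⊢
    have h2 : u * g * u = g := by
      have h2' : u * g * u = (u * g * (u * g)) * g⁻¹ := by group
      rw [h2', h1, one_mul]
      exact inv_eq_of_mul_eq_one_right hgg
    calc u * (u * g) = g := by rw [← mul_assoc, Invol.inv_mul_self hu.ord, one_mul]
      _ = u * g * u := h2.symm
  rcases B.outer_no_commute hu h4 hcu with e | e
  · exact Or.inl (inv_mul_eq_one.1 e).symm
  · exact Or.inr (inv_mul_eq_iff_eq_mul.1 e)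

/-- The involutions exchanging the points are conjugate under the pair stabilizer. -/
theorem outer_swap_conj (B : Base G a b t v) (hu : OuterSwap G a b t v u) {g : G} (hgg : g * g = 1)
    (hs : Swaps g a b) : ∃ h ∈ pairStab G a b, h * u * h⁻¹ = g := by
  -- a fixed involution of the four group
  obtain ⟨x0, hx0, hx01, hc0⟩ : ∃ x0 ∈ B.toCtx.four, x0 ≠ 1 ∧ Commute g x0 := by
    by_cases hc : Commute g v
    · exact ⟨v, B.v_mem_four, Invol.ne_one B.hv, hc⟩
    have hv' := B.swaps_conj_four hs B.v_mem_four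
    refine ⟨v * (g * v * g⁻¹), mul_mem B.v_mem_four hv', fun e => hc ?_, ?_⟩
    · have : g * v * g⁻¹ = v := by rw [← mul_right_inj v, e, B.hvv]
      exact mul_inv_eq_iff_eq_mul.1 this
    · refine mul_inv_eq_iff_eq_mul.1 (show g * (v * (g * v * g⁻¹)) * g⁻¹ = v * (g * v * g⁻¹) from ?_)
      calc g * (v * (g * v * g⁻¹)) * g⁻¹ = (g * v * g⁻¹) * ((g * g) * v * (g⁻¹ * g⁻¹)) := by group
        _ = (g * v * g⁻¹) * v := by rw [← mul_inv_rev, hgg, inv_one, one_mul, mul_one]
        _ = v * (g * v * g⁻¹) := (B.toCtx.commute_four hv' B.v_mem_four).eq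
  obtain ⟨h, hh, hconj⟩ := B.toCtx.exists_conj hx0.1 B.htH (B.toCtx.orderOf_of_mem_four hx0 hx01) B.ht
  have hg'c : Commute (h * g * h⁻¹) t := by
    have := hc0.map (MulAut.conj h)
    simpa [hconj] using this
  rcases B.outer_swap_centralizer hu (hs.conj_pairStab hh) (by
      rw [show h * g * h⁻¹ * (h * g * h⁻¹) = h * (g * g) * h⁻¹ by group, hgg, mul_one, mul_inv_cancel]) hg'c with
    e | e
  · exact ⟨h⁻¹, inv_mem hh, by rw [← e]; group⟩
  · refine ⟨h⁻¹ * v, mul_mem (inv_mem hh) B.hvH, ?_⟩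
    have hvu : v * u * v⁻¹ = u * t := by
      have hui : u⁻¹ = u := Invol.inv_eq_self hu.ord
      calc v * u * v⁻¹ = u * (u⁻¹ * v * u) * v⁻¹ := by group
        _ = u * (u * v * u⁻¹) * v⁻¹ := by rw [hui]
        _ = u * t := by rw [hu.moves]; group
    show h⁻¹ * v * u * (h⁻¹ * v)⁻¹ = g
    rw [show h⁻¹ * v * u * (h⁻¹ * v)⁻¹ = h⁻¹ * (v * u * v⁻¹) * h by group, hvu, ← e]
    group

theorem outer_beta (B : Base G a b t v) (hu : OuterSwap G a b t v u) :
    {g | IsT G Ω g ∧ Swaps g a b}.ncard = 6 := by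
  classical
  have hsub : {g | g * g = 1 ∧ Swaps g a b} ⊆ (fun h => h * u * h⁻¹) '' (pairStab G a b : Set G) :=
    fun g hg => B.outer_swap_conj hu hg.1 hg.2
  have hne : {g | IsT G Ω g ∧ Swaps g a b}.Nonempty := by
    refine Set.nonempty_iff_ne_empty.2 fun e => ?_
    have h := B.count_eq
    rw [e, Set.ncard_empty, zero_mul] at h
    have := B.fix_lt
    omega
  obtain ⟨g0, hg0, hg0s⟩ := hne
  obtain ⟨h0, hh0, he0⟩ := hsub ⟨Invol.inv_mul_self hg0.1, hg0s⟩
  have hTu : IsT G Ω u := by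
    have := hg0.conj h0⁻¹
    rwa [← he0, show h0⁻¹ * (h0 * u * h0⁻¹) * h0⁻¹⁻¹ = u by group] at this
  have e : {g | IsT G Ω g ∧ Swaps g a b} = (fun h => h * u * h⁻¹) '' (pairStab G a b : Set G) := by
    refine Set.Subset.antisymm (fun g hg => hsub ⟨Invol.inv_mul_self hg.1.1, hg.2⟩) ?_
    rintro _ ⟨h, hh, rfl⟩
    exact ⟨hTu.conj h, hu.swaps.conj_pairStab hh⟩
  rw [e]
  set K := centralizer ({u} : Set G) ⊓ pairStab G a b
  have hK : Nat.card K = 2 := by
    refine le_antisymm ?_ ?_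
    · have : (K : Set G) ⊆ {1, t} := fun h hh => B.outer_centralizer hu (mem_inf.1 hh).2
        (mem_centralizer_singleton_iff.1 (mem_inf.1 hh).1 : Commute h u).symm
      calc Nat.card K = (K : Set G).ncard := (Nat.card_coe_set_eq (K : Set G))
        _ ≤ ({1, t} : Set G).ncard := Set.ncard_le_ncard this
        _ ≤ 2 := (Set.ncard_insert_le _ _).trans (by rw [Set.ncard_singleton])
    · rw [show 2 = orderOf t from B.ht.symm]
      exact Nat.le_of_dvd Nat.card_pos (Subgroup.orderOf_dvd_natCard _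
        (mem_inf.2 ⟨mem_centralizer_singleton_iff.2 hu.comm.symm.eq, B.htH⟩))
  have hidx : (K.subgroupOf (pairStab G a b)).index = 6 := by
    have := (K.subgroupOf (pairStab G a b)).card_mul_index
    rw [Nat.card_congr (subgroupOfEquivOfLe inf_le_right).toEquiv, hK, B.toCtx.card_pairStab] at this
    omega
  rw [← hidx, index_eq_card, ← Nat.card_coe_set_eq]
  refine (Nat.card_eq_of_bijective (fun q => Quotient.liftOn' q (fun h : pairStab G a b =>
    (⟨(h : G) * u * (h : G)⁻¹, h, h.2, rfl⟩ : ↥((fun h => h * u * h⁻¹) '' (pairStab G a b : Set G)))) ?_) ⟨?_, ?_⟩).symm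
  · intro p q hpq
    rw [QuotientGroup.leftRel_apply, mem_subgroupOf] at hpq
    exact Subtype.ext (Invol.coset_iff_conj.1 (mem_inf.1 hpq).1).symm
  · rintro ⟨p⟩ ⟨q⟩ hpq
    exact QuotientGroup.eq.2 (mem_subgroupOf.2 (mem_inf.2
      ⟨Invol.coset_iff_conj.2 (congrArg Subtype.val hpq).symm, (p⁻¹ * q).2⟩))
  · rintro ⟨_, h, hh, rfl⟩
    exact ⟨QuotientGroup.mk (⟨h, hh⟩ : pairStab G a b), rfl⟩

/-- Every involution exchanging the points fixes two points. -/
theorem outer_isT (B : Base G a b t v) (hu : OuterSwap G a b t v u) {g : G} (hg : orderOf g = 2)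
    (hs : Swaps g a b) : IsT G Ω g := by
  have hne : {g | IsT G Ω g ∧ Swaps g a b}.Nonempty :=
    Set.nonempty_of_ncard_ne_zero (by rw [B.outer_beta hu]; norm_num)
  obtain ⟨g0, hg0, hg0s⟩ := hne
  obtain ⟨h0, -, he0⟩ := B.outer_swap_conj hu (Invol.inv_mul_self hg0.1) hg0s
  obtain ⟨h, -, he⟩ := B.outer_swap_conj hu (Invol.inv_mul_self hg) hs
  have := hg0.conj (h * h0⁻¹)
  rwa [← he0, show h * h0⁻¹ * (h0 * u * h0⁻¹) * (h * h0⁻¹)⁻¹ = h * u * h⁻¹ by group, he] at this

/-- The three shapes of the fixed point numbers. -/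
theorem fix_cases (B : Base G a b t v) :
    (fix {t} : Set Ω).ncard = (fix {t, v} : Set Ω).ncard ∨
    (fix {t} : Set Ω).ncard = (fix {t, v} : Set Ω).ncard * (fix {t, v} : Set Ω).ncard ∨
    ((fix {t} : Set Ω).ncard + (fix {t, v} : Set Ω).ncard =
        2 * ((fix {t, v} : Set Ω).ncard * (fix {t, v} : Set Ω).ncard) ∧ ∃ z, CentralSwap G a b z) := by
  classical
  have h := B.count₂_eq
  have hji := B.fix₂_le
  have hj2 := B.two_le_fix₂
  set i := (fix {t} : Set Ω).ncard
  set j := (fix {t, v} : Set Ω).ncard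
  set S := {g | Partner G Ω t g ∧ Swaps g a b}
  have harith : S.ncard = 0 → i = j := fun e => by rw [e, zero_mul] at h; omega
  have harith2 : S.ncard = 2 → i = j * j := fun e => by
    rw [e] at h
    obtain ⟨j', hj'⟩ : ∃ j', j = j' + 1 := ⟨j - 1, by omega⟩
    rw [hj'] at h hji ⊢
    simp only [Nat.add_sub_cancel] at h
    have e2 : (j' + 1) * (j' + 1) = (j' + 1) * j' + (j' + 1) := by ring
    omega
  have hpair : ∀ g ∈ S, g * t ∈ S := fun g hg => ⟨Partner.mul_self' B.htt hg.1, hg.2.mul_pairStab B.htH⟩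
  rcases B.dichotomy with ⟨z, hz⟩ | ⟨u', hu⟩
  · have hsub : ∀ g ∈ S, g = z ∨ g = z * t ∨ g = z * v ∨ g = z * (t * v) := by
      intro g hg
      obtain ⟨y, hy, rfl⟩ := (B.central_swap_invol hz).1 ⟨hg.2, Invol.inv_mul_self hg.1.1⟩
      rcases B.four_cases hy with rfl | rfl | rfl | rfl
      · exact Or.inl (mul_one z)
      · exact Or.inr (Or.inl rfl)
      · exact Or.inr (Or.inr (Or.inl rfl))
      · exact Or.inr (Or.inr (Or.inr rfl))
    have h1 : z * t ∈ S → z ∈ S := fun h => by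
      have := hpair _ h; rwa [mul_assoc, B.htt, mul_one] at this
    have h2 : z * (t * v) ∈ S → z * v ∈ S := fun h => by
      have := hpair _ h
      rwa [mul_assoc, mul_assoc, B.commute_tv.symm.eq, ← mul_assoc t, B.htt, one_mul] at this
    have h3 : z * v ∈ S → z * (t * v) ∈ S := fun h => by
      have := hpair _ h; rwa [mul_assoc, B.commute_tv.symm.eq] at this
    have hd : z ≠ z * t := fun e => Invol.ne_one B.ht (mul_eq_left.1 e.symm)
    have hd' : z * v ≠ z * (t * v) := fun e => Invol.ne_one B.ht (mul_eq_right.1 (mul_left_cancel e).symm)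
    have hd2 : z ≠ z * v := fun e => Invol.ne_one B.hv (mul_eq_left.1 e.symm)
    have hd3 : z ≠ z * (t * v) := fun e => B.tv_ne_one (mul_eq_left.1 e.symm)
    have hd4 : z * t ≠ z * v := fun e => B.htv (mul_left_cancel e)
    have hd5 : z * t ≠ z * (t * v) := fun e => Invol.ne_one B.hv (mul_eq_left.1 (mul_left_cancel e).symm)
    by_cases hzS : z ∈ S <;> by_cases hzvS : z * v ∈ S
    · refine Or.inr (Or.inr ⟨?_, z, hz⟩)
      have e : S = {z, z * t, z * v, z * (t * v)} := by
        refine Set.Subset.antisymm (fun g hg => hsub g hg) ?_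
        rintro g (rfl | rfl | rfl | rfl)
        exacts [hzS, hpair _ hzS, hzvS, h3 hzvS]
      have e4 : S.ncard = 4 := by
        rw [e, Set.ncard_insert_of_notMem (by simp [hd, hd2, hd3]),
          Set.ncard_insert_of_notMem (by simp [hd4, hd5]), Set.ncard_pair hd']
      rw [e4] at h
      obtain ⟨j', hj'⟩ : ∃ j', j = j' + 1 := ⟨j - 1, by omega⟩
      rw [hj'] at h hji ⊢
      simp only [Nat.add_sub_cancel] at h
      have e2 : (j' + 1) * (j' + 1) = (j' + 1) * j' + (j' + 1) := by ring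
      omega
    · refine Or.inr (Or.inl (harith2 ?_))
      have e : S = {z, z * t} := by
        refine Set.Subset.antisymm (fun g hg => ?_) ?_
        · rcases hsub g hg with rfl | rfl | rfl | rfl
          exacts [Or.inl rfl, Or.inr rfl, absurd hg hzvS, absurd (h2 hg) hzvS]
        · rintro g (rfl | rfl)
          exacts [hzS, hpair _ hzS]
      rw [e, Set.ncard_pair hd]
    · refine Or.inr (Or.inl (harith2 ?_))
      have e : S = {z * v, z * (t * v)} := by
        refine Set.Subset.antisymm (fun g hg => ?_) ?_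
        · rcases hsub g hg with rfl | rfl | rfl | rfl
          exacts [absurd hg hzS, absurd (h1 hg) hzS, Or.inl rfl, Or.inr rfl]
        · rintro g (rfl | rfl)
          exacts [hzvS, h3 hzvS]
      rw [e, Set.ncard_pair hd']
    · refine Or.inl (harith ?_)
      rw [Set.ncard_eq_zero]
      ext g
      refine iff_of_false (fun hg => ?_) (Set.notMem_empty g)
      rcases hsub g hg with rfl | rfl | rfl | rfl
      exacts [hzS hg, hzS (h1 hg), hzvS hg, hzvS (h2 hg)]
  · have hsub : ∀ g ∈ S, g = u' ∨ g = u' * t := fun g hg =>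
      B.outer_swap_centralizer hu hg.2 (Invol.inv_mul_self hg.1.1) hg.1.2.1.symm
    by_cases huS : u' ∈ S
    · refine Or.inr (Or.inl (harith2 ?_))
      have e : S = {u', u' * t} := by
        refine Set.Subset.antisymm (fun g hg => hsub g hg) ?_
        rintro g (rfl | rfl)
        exacts [huS, hpair _ huS]
      rw [e, Set.ncard_pair fun e' => Invol.ne_one B.ht (mul_eq_left.1 e'.symm)]
    · refine Or.inl (harith ?_)
      rw [Set.ncard_eq_zero]
      ext g
      refine iff_of_false (fun hg => ?_) (Set.notMem_empty g)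
      rcases hsub g hg with rfl | rfl
      · exact huS hg
      · have := hpair _ hg
        rw [mul_assoc, B.htt, mul_one] at this
        exact huS this

end Base

end Cfsg.Lib.A4Stab
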