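import Cfsg.Agent.Lib.A4Stab.Eight

/-!
# Odd degree: a central swap
-/

set_option autoImplicit false
set_option linter.style.haveILetI false
set_option linter.unusedSectionVars false

namespace Cfsg.Lib.A4Stab

open Subgroup MulAction

universe u w

variable {G : Type u} [Group G] [Finite G] {Ω : Type w} [Finite Ω] [MulAction G Ω] [FaithfulSMul G Ω]

theorem twoCycDih_of_klein {X : Type*} [Group X] [Finite X] (P : Subgroup X) [IsKleinFour P]
    (h8 : ¬ 8 ∣ Nat.card X) : GW.TwoCycDih X := by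
  haveI : Fact (Nat.Prime 2) := ⟨Nat.prime_two⟩
  have hP4 : Nat.card P = 4 := IsKleinFour.card_four
  have hfac : Nat.card P = 2 ^ (Nat.card X).factorization 2 := by
    rw [hP4, show 4 = 2 ^ 2 from rfl]
    congr 1
    refine le_antisymm ?_ ?_
    · rw [← Nat.Prime.pow_dvd_iff_le_factorization Nat.prime_two Nat.card_pos.ne']
      exact (show 2 ^ 2 = Nat.card P by rw [hP4]; rfl) ▸ card_subgroup_dvd_card P
    · by_contra hlt
      refine h8 ?_
      rw [show 8 = 2 ^ 3 from rfl, Nat.Prime.pow_dvd_iff_le_factorization Nat.prime_two Nat.card_pos.ne']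
      omega
  exact GW.TwoCycDih.of_dihedral_sylow (Sylow.ofCard P hfac) le_rfl (IsKleinFour.nonempty_mulEquiv (G₁ := ↥P))

theorem eq_or_eq_of_mem_zpowers {X : Type*} [Group X] {t x : X} (ht : t * t = 1) (hx : x ∈ zpowers t) :
    x = 1 ∨ x = t := by
  obtain ⟨i, rfl⟩ := mem_zpowers_iff.1 hx
  rcases Int.even_or_odd' i with ⟨k, rfl | rfl⟩
  · exact Or.inl (by rw [zpow_mul, zpow_two, ht, one_zpow])
  · exact Or.inr (by rw [zpow_add_one, zpow_mul, zpow_two, ht, one_zpow, one_mul])

namespace Base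

variable {a b : Ω} {t v : G}

/-- The number of involutions exchanging a pair does not depend on the base. -/
theorem beta_const (B : Base G a b t v) {p q : Ω} {t' v' : G} (B' : Base G p q t' v') :
    {g | IsT G Ω g ∧ Swaps g p q}.ncard = {g | IsT G Ω g ∧ Swaps g a b}.ncard := by
  have h := B.count_eq
  have h' := B'.count_eq
  rw [B.fix_isT B'.isT_t] at h'
  have := B.two_le_fix₂.trans B.fix₂_le
  exact Nat.eq_of_mul_eq_mul_right (Nat.mul_pos (by omega) (by omega)) (h'.symm.trans h)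

theorem central_all (B : Base G a b t v) {z : G} (hz : CentralSwap G a b z)
    (h : IsT G Ω z ∧ IsT G Ω (z * v)) {g : G} (hg : orderOf g = 2) : IsT G Ω g := by
  refine B.all_isT (fun z' hz' => ?_) hg
  have hy : ∀ y ∈ B.toCtx.four, IsT G Ω (z * y) := fun y hy => by
    by_cases hy1 : y = 1
    · rw [hy1, mul_one]; exact h.1
    · exact (B.isT_mul_four hz hy hy1).2 h.2
  obtain ⟨y, hy4, rfl⟩ := (B.central_swap_invol hz).1 ⟨hz'.swaps, Invol.inv_mul_self hz'.ord⟩
  exact ⟨hy y hy4, by rw [mul_assoc]; exact hy _ (mul_mem hy4 B.v_mem_four)⟩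

theorem central_everywhere (B : Base G a b t v) {z : G} (hz : CentralSwap G a b z)
    (h : IsT G Ω z ∧ IsT G Ω (z * v)) {p q : Ω} {t' v' : G} (B' : Base G p q t' v') :
    ∃ z', CentralSwap G p q z' := by
  rcases B'.dichotomy with h' | ⟨u, hu⟩
  · exact h'
  · exfalso
    have e := B.beta_const B'
    rw [B'.outer_beta hu] at e
    rcases B.central_beta hz with ⟨-, -, h4⟩ | ⟨-, h2, -⟩ | ⟨h1, -, -⟩
    · omega
    · exact h2 h.2
    · exact h1 h.1

theorem central_swap_sq (B : Base G a b t v) {z : G} (hz : CentralSwap G a b z) {g : G} (hs : Swaps g a b)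
    (hc : Commute g t) : g * g = 1 :=
  ((B.central_swap_invol hz).2 ⟨z⁻¹ * g, B.mem_four_of_commute (hz.swaps.inv.mul_mem hs)
    (((hz.comm t B.htH).inv_left).mul_left hc), (mul_inv_cancel_left z g).symm⟩).2

/-- A new base at which the point stabilizer contains an elementary group of order eight. -/
theorem exists_eight (B : Base G a b t v) (hn : Nat.card Ω % 2 = 1) {z : G} (hz : CentralSwap G a b z) :
    ∃ c q : Ω, Base G c q t v ∧ ∃ E : Subgroup G, EightAt G c E ∧ t ∈ E ∧ v ∈ E := by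
  have hzz : z * z = 1 := Invol.inv_mul_self hz.ord
  have hzN := B.mem_normalizer_of_commute (hz.comm t B.htH) (hz.comm v B.hvH)
  obtain ⟨c, hc, hzc⟩ := exists_fixed_of_odd (fix {t, v}) (by rw [B.fix₂_mod_two]; exact hn)
    (fun p hp => B.fix_smul_normalizer hzN hp) (fun p _ => smul_smul_of_sq hzz p)
  obtain ⟨q, hq, hcq⟩ : ∃ q ∈ (fix {t, v} : Set Ω), c ≠ q := by
    rcases eq_or_ne c a with e | e
    · exact ⟨b, B.b_mem_fix₂, e ▸ B.toCtx.ne⟩
    · exact ⟨a, B.a_mem_fix₂, e⟩
  have hcom : ∀ y ∈ B.toCtx.four, Commute z y := fun y hy => hz.comm y hy.1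
  have hsq : ∀ g : G, (g ∈ B.toCtx.four ∨ z * g ∈ B.toCtx.four) → g * g = 1 := by
    rintro g (h | h)
    · exact h.2
    · have e : g = z * (z * g) := by rw [← mul_assoc, hzz, one_mul]
      rw [e, (hcom _ h).symm.mul_mul_mul_comm, hzz, h.2, one_mul]
  let E : Subgroup G :=
    { carrier := {g | g ∈ B.toCtx.four ∨ z * g ∈ B.toCtx.four}
      one_mem' := Or.inl (one_mem _)
      mul_mem' := by
        rintro g h (hg | hg) (hh | hh)
        · exact Or.inl (mul_mem hg hh)
        · refine Or.inr ?_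
          rw [← mul_assoc, (hcom g hg).eq, mul_assoc]
          exact mul_mem hg hh
        · refine Or.inr ?_
          rw [← mul_assoc]
          exact mul_mem hg hh
        · refine Or.inl ?_
          have e : g * h = (z * g) * (z * h) := by
            calc g * h = (z * (z * g)) * h := by rw [← mul_assoc z z g, hzz, one_mul]
              _ = (z * g * z) * h := by rw [(hcom _ hg).eq]
              _ = (z * g) * (z * h) := by rw [mul_assoc (z * g) z h]
          rw [e]
          exact mul_mem hg hh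
      inv_mem' := fun {g} hg => by
        show g⁻¹ ∈ B.toCtx.four ∨ z * g⁻¹ ∈ B.toCtx.four
        rw [inv_eq_of_mul_eq_one_right (hsq g hg)]
        exact hg }
  have hE : (E : Set G) = (B.toCtx.four : Set G) ∪ (z * ·) '' (B.toCtx.four : Set G) := by
    ext g
    constructor
    · rintro (h | h)
      · exact Or.inl h
      · exact Or.inr ⟨z * g, h, by show z * (z * g) = g; rw [← mul_assoc, hzz, one_mul]⟩
    · rintro (h | ⟨y, hy, rfl⟩)
      · exact Or.inl h
      · refine Or.inr ?_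
        show z * (z * y) ∈ B.toCtx.four
        rw [← mul_assoc, hzz, one_mul]
        exact hy
  refine ⟨c, q, B.change hcq hc hq, E, ⟨?_, fun x hx => hsq x hx, ?_⟩, Or.inl B.t_mem_four, Or.inl B.v_mem_four⟩
  · show Nat.card (E : Set G) = 8
    have h4 : (B.toCtx.four : Set G).ncard = 4 := (Nat.card_coe_set_eq _).symm.trans B.toCtx.card_four
    rw [Nat.card_coe_set_eq, hE, Set.ncard_union_eq, Set.ncard_image_of_injective _ (mul_right_injective z), h4]
    rw [Set.disjoint_left]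
    rintro _ h ⟨y, hy, rfl⟩
    exact B.not_swaps_of_mem (B.toCtx.four_le h) (hz.swaps.mul_pairStab hy.1)
  · rintro x (hx | hx)
    · exact B.four_fix hc hx
    · rw [show x = z * (z * x) by rw [← mul_assoc, hzz, one_mul], mul_smul, B.four_fix hc hx, hzc]

/-- Square roots of `t` in `C(t)`: as many fixing a point as exchanging a pair. -/
theorem root_count (B : Base G a b t v) (hn : Nat.card Ω % 2 = 1) :
    {g | g ∈ {g : G | g ∈ centralizer ({t} : Set G) ∧ g * g = t} ∧ g • a = a}.ncard =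
      {g | g ∈ {g : G | g ∈ centralizer ({t} : Set G) ∧ g * g = t} ∧ Swaps g a b}.ncard := by
  refine single_count B.toCtx.ne (centralizer ({t} : Set G)) (fix {t}) B.a_mem_fix B.b_mem_fix
    (fun _ hk _ hp => fix_smul_centralizer hk hp)
    (fun _ hp _ hq hne => B.exists_centralizer_map hne (mem_fix_singleton.1 hp) (mem_fix_singleton.1 hq))
    {g : G | g ∈ centralizer ({t} : Set G) ∧ g * g = t} (fun _ h => h.1) (fun k hk u hu => ⟨mul_mem (mul_mem hk hu.1) (inv_mem hk), by
      rw [show k * u * k⁻¹ * (k * u * k⁻¹) = k * (u * u) * k⁻¹ by group, hu.2, mem_centralizer_singleton_iff.1 hk,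
        mul_inv_cancel_right]⟩)
    fun u hu => by
      have huu : ∀ p ∈ (fix {t} : Set Ω), u • u • p = p := fun p hp => by
        rw [← mul_smul, hu.2, mem_fix_singleton.1 hp]
      refine ⟨huu, ?_⟩
      obtain ⟨p, hp, hup⟩ := exists_fixed_of_odd (fix {t}) (by rw [card_fix_mod_two B.ht]; exact hn)
        (fun p hp => fix_smul_centralizer hu.1 hp) huu
      refine Set.ncard_eq_one.2 ⟨p, ?_⟩
      ext q
      simp only [Set.mem_inter_iff, mem_fix_singleton, Set.mem_singleton_iff]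
      refine ⟨fun ⟨h1, h2⟩ => by_contra fun hne => Invol.ne_one B.ht ?_, fun e => e ▸ ⟨mem_fix_singleton.1 hp, hup⟩⟩
      obtain ⟨k, hk, hka, hkb⟩ := B.exists_centralizer_map hne h1 (mem_fix_singleton.1 hp)
      have hm : k * u * k⁻¹ ∈ B.toCtx.four := B.mem_four_of_commute
        (mem_pairStab.2 ⟨by rw [← hka, conj_smul, h2], by rw [← hkb, conj_smul, hup]⟩)
        (mem_centralizer_singleton_iff.1 (mul_mem (mul_mem hk hu.1) (inv_mem hk)))
      have h1' := hm.2
      rw [show k * u * k⁻¹ * (k * u * k⁻¹) = k * (u * u) * k⁻¹ by group, hu.2, mem_centralizer_singleton_iff.1 hk,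
        mul_inv_cancel_right] at h1'
      exact h1'

/-- No element of order four of a point stabilizer squares to `t`. -/
theorem no_root (B : Base G a b t v) (hn : Nat.card Ω % 2 = 1) {z : G} (hz : CentralSwap G a b z) {y : G}
    (hya : y • a = a) (hy : y * y = t) : False := by
  set T := {g : G | g ∈ centralizer ({t} : Set G) ∧ g * g = t}
  have hyT : y ∈ T := ⟨mem_centralizer_singleton_iff.2 (by rw [← hy, mul_assoc]), hy⟩
  have h := B.root_count hn
  have h0 : {g | g ∈ T ∧ Swaps g a b} = ∅ := by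
    ext g
    refine iff_of_false (fun hg => Invol.ne_one B.ht ?_) (Set.notMem_empty g)
    rw [← hg.1.2]
    exact B.central_swap_sq hz hg.2 (mem_centralizer_singleton_iff.1 hg.1.1)
  rw [h0, Set.ncard_empty, Set.ncard_eq_zero] at h
  exact Set.eq_empty_iff_forall_notMem.1 h y ⟨hyT, hya⟩

theorem exponent_two (B : Base G a b t v) (hn : Nat.card Ω % 2 = 1) {z : G} (hz : CentralSwap G a b z)
    (hall : ∀ g : G, orderOf g = 2 → IsT G Ω g) :
    ∀ (k : ℕ) (x : G), x • a = a → x ^ 2 ^ k = 1 → x * x = 1 := by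
  intro k
  induction k with
  | zero => intro x _ hx; rw [pow_zero, pow_one] at hx; rw [hx, one_mul]
  | succ k ih =>
    intro x hxa hx
    have h2 : x * x * (x * x) = 1 := by
      refine ih (x * x) (by rw [mul_smul, hxa, hxa]) ?_
      rwa [← pow_two, ← pow_mul, ← pow_succ']
    by_contra hne
    have hxx : (x * x) • a = a := by rw [mul_smul, hxa, hxa]
    obtain ⟨g, hg, hgt⟩ := B.exists_stab_conj (hall _ (Invol.orderOf_eq_two_of hne h2)) hxx
    have hga : g⁻¹ • a = a := by rw [inv_smul_eq_iff]; exact (mem_stabilizer_iff.1 hg).symm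
    refine B.no_root hn hz (y := g⁻¹ * x * g) ?_ ?_
    · rw [mul_smul, mul_smul, mem_stabilizer_iff.1 hg, hxa, hga]
    · rw [show g⁻¹ * x * g * (g⁻¹ * x * g) = g⁻¹ * (x * x) * g by group, ← hgt]
      group

theorem not_sixteen (B : Base G a b t v) (hn : Nat.card Ω % 2 = 1) {z : G} (hz : CentralSwap G a b z)
    (hall : ∀ g : G, orderOf g = 2 → IsT G Ω g) {E : Subgroup G} (hE : EightAt G a E) (ht : t ∈ E) (hv : v ∈ E) :
    ¬ 16 ∣ Nat.card (stabilizer G a) := by
  intro h16
  haveI : Fact (Nat.Prime 2) := ⟨Nat.prime_two⟩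
  have hEle : E ≤ stabilizer G a := fun x hx => hE.fix x hx
  have hEp : IsPGroup 2 ↥(E.subgroupOf (stabilizer G a)) := fun x => ⟨1, by
    rw [pow_one, pow_two]; exact Subtype.ext (Subtype.ext (hE.sq _ x.2))⟩
  obtain ⟨S, hS⟩ := hEp.exists_le_sylow
  set P := (S : Subgroup (stabilizer G a)).map (stabilizer G a).subtype with hPdef
  have hPfix : ∀ x ∈ P, x • a = a := by
    rintro _ ⟨x, -, rfl⟩
    exact x.2
  have hPsq : ∀ x ∈ P, x * x = 1 := by
    rintro _ ⟨x, hx, rfl⟩
    obtain ⟨k, hk⟩ := S.2 ⟨x, hx⟩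
    refine B.exponent_two hn hz hall k _ x.2 ?_
    exact congrArg (fun s : (S : Subgroup (stabilizer G a)) => ((s : stabilizer G a) : G)) hk
  have hPc : ∀ x ∈ P, ∀ y ∈ P, Commute x y := fun x hx y hy => by
    have h1 := hPsq _ (mul_mem hx hy)
    have h' : (x * y)⁻¹ = x * y := inv_eq_of_mul_eq_one_right h1
    rw [mul_inv_rev, inv_eq_of_mul_eq_one_right (hPsq x hx), inv_eq_of_mul_eq_one_right (hPsq y hy)] at h'
    exact h'.symm
  have htP : t ∈ P := ⟨⟨t, hEle ht⟩, hS (mem_subgroupOf.2 ht), rfl⟩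
  have hvP : v ∈ P := ⟨⟨v, hEle hv⟩, hS (mem_subgroupOf.2 hv), rfl⟩
  obtain ⟨hsub, hU⟩ := B.subset_four_single hz hPsq hPfix fun x hx => mem_inf.2
    ⟨mem_centralizer_singleton_iff.2 (hPc x hx t htP).eq,
      B.mem_normalizer_of_commute (hPc x hx t htP) (hPc x hx v hvP)⟩
  have h8 := (Set.ncard_le_ncard hsub).trans hU
  have hc : 16 ∣ Nat.card (S : Subgroup (stabilizer G a)) :=
    S.pow_dvd_card_of_pow_dvd_card (n := 4) (by simpa using h16)
  have hcP : Nat.card P = Nat.card (S : Subgroup (stabilizer G a)) := by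
    rw [hPdef, card_map_of_injective (subtype_injective _)]
  rw [← Nat.card_coe_set_eq, show Nat.card (P : Set G) = Nat.card P from rfl, hcP] at h8
  have := Nat.le_of_dvd Nat.card_pos hc
  omega

theorem mem_normalizer_of_conj (B : Base G a b t v) {g : G} (hgt : Commute g t)
    (hgv : g * v * g⁻¹ ∈ B.toCtx.four) : g ∈ normalizer (B.toCtx.four : Set G) := by
  have he : g * t * g⁻¹ = t := by rw [hgt.eq, mul_inv_cancel_right]
  have hsub : B.toCtx.four.map (MulAut.conj g).toMonoidHom ≤ B.toCtx.four := by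
    rintro _ ⟨x, hx, rfl⟩
    show g * x * g⁻¹ ∈ B.toCtx.four
    rcases B.four_cases hx with rfl | rfl | rfl | rfl
    · rw [mul_one, mul_inv_cancel]; exact one_mem _
    · rw [he]; exact B.t_mem_four
    · exact hgv
    · rw [show g * (t * v) * g⁻¹ = g * t * g⁻¹ * (g * v * g⁻¹) by group, he]
      exact mul_mem B.t_mem_four hgv
  have heq := eq_of_le_of_card_ge hsub (by rw [card_map_of_injective (MulAut.conj g).injective])
  refine mem_normalizer_iff.2 fun x => ⟨fun hx => hsub ⟨x, hx, rfl⟩, fun hx => ?_⟩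
  rw [← heq] at hx
  obtain ⟨y, hy, hye⟩ := hx
  rwa [(MulAut.conj g).injective hye] at hy

/-- With four partners exchanging a pair, every involution of `C(t)` at `a` is conjugate to `v` or `t v`. -/
theorem partner_fuse (B : Base G a b t v) {z : G} (hz : CentralSwap G a b z)
    (hij : (fix {t} : Set Ω).ncard + (fix {t, v} : Set Ω).ncard =
      2 * ((fix {t, v} : Set Ω).ncard * (fix {t, v} : Set Ω).ncard))
    {x : G} (hx : orderOf x = 2) (hxt : Commute x t) (hxa : x • a = a) (hne : x ≠ t) :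
    ∃ k : G, k ∈ centralizer ({t} : Set G) ∧ k • a = a ∧ (k * x * k⁻¹ = v ∨ k * x * k⁻¹ = t * v) := by
  have hxx : x * x = 1 := Invol.inv_mul_self hx
  obtain ⟨q, hqa, hqt, hxq⟩ : ∃ q, q ≠ a ∧ t • q = q ∧ x • q = q := by
    by_contra hc
    push Not at hc
    set j := (fix {t, v} : Set Ω).ncard with hj
    have hj2 := B.two_le_fix₂
    have h2 := B.count₂_eq
    rw [← hj] at h2 hj2
    have hS4 : {u | Partner G Ω t u ∧ Swaps u a b}.ncard = 4 := by
      refine Nat.eq_of_mul_eq_mul_right (Nat.mul_pos (show 0 < j by omega) (show 0 < j - 1 by omega)) ?_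
      rw [← h2]
      have e : j * (j - 1) = j * j - j := Nat.mul_sub_one j j
      rw [e]
      omega
    have hsub : {u | Partner G Ω t u ∧ Swaps u a b} ⊆ (z * ·) '' (B.toCtx.four : Set G) := fun g hg => by
      obtain ⟨y, hy, rfl⟩ := (B.central_swap_invol hz).1 ⟨hg.2, Invol.inv_mul_self hg.1.1⟩
      exact ⟨y, hy, rfl⟩
    have heq := Set.eq_of_subset_of_ncard_le hsub (by
      rw [hS4, Set.ncard_image_of_injective _ (mul_right_injective z), ← Nat.card_coe_set_eq]
      exact le_of_eq B.toCtx.card_four)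
    have hL : {g | g ∈ Lone G Ω t ∧ Swaps g a b} = ∅ := by
      ext g
      refine iff_of_false (fun ⟨hg, hs⟩ => ?_) (Set.notMem_empty g)
      obtain ⟨y, hy, rfl⟩ := (B.central_swap_invol hz).1 ⟨hs, hg.2.1⟩
      obtain ⟨⟨-, -, -, p, r, hpr, ⟨h1, h1'⟩, h3, h4⟩, -⟩ := heq.ge ⟨y, hy, rfl⟩
      exact hpr ((Set.ncard_le_one (Set.toFinite _)).1 hg.2.2.le p ⟨mem_fix_singleton.2 h1, mem_fix_singleton.2 h3⟩
        r ⟨mem_fix_singleton.2 h1', mem_fix_singleton.2 h4⟩)
    have h0 := B.lone_card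
    rw [hL, Set.ncard_empty, Set.ncard_eq_zero] at h0
    refine Set.eq_empty_iff_forall_notMem.1 h0 x ⟨⟨mem_centralizer_singleton_iff.2 hxt.eq, hxx,
      Set.ncard_eq_one.2 ⟨a, ?_⟩⟩, hxa⟩
    ext p
    simp only [Set.mem_inter_iff, mem_fix_singleton, Set.mem_singleton_iff]
    exact ⟨fun ⟨h1, h3⟩ => by_contra fun h => hc p h h1 h3, fun e => e ▸ ⟨mem_fix_singleton.1 B.a_mem_fix, hxa⟩⟩
  obtain ⟨k, hk, hka, hkb⟩ := B.exists_centralizer_map (Ne.symm hqa) (mem_fix_singleton.1 B.a_mem_fix) hqt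
  refine ⟨k, hk, hka, ?_⟩
  have hkt : k * t * k⁻¹ = t := by rw [mem_centralizer_singleton_iff.1 hk, mul_inv_cancel_right]
  have hm : k * x * k⁻¹ ∈ B.toCtx.four := B.toCtx.four_mem_of_orderOf
    (mem_pairStab.2 ⟨by conv_lhs => rw [← hka]
                        rw [conj_smul, hxa, hka], by rw [← hkb, conj_smul, hxq]⟩)
    (by rw [Invol.orderOf_conj_eq, hx])
  rcases B.four_cases hm with e | e | e | e
  · exact absurd (conj_eq_one_iff.1 e) (Invol.ne_one hx)
  · exact absurd (mul_left_cancel (mul_right_cancel (e.trans hkt.symm))) hne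
  · exact Or.inl e
  · exact Or.inr e

/-- A prime `367` in a point stabilizer of order `132120`. -/
theorem false_367 (B : Base G a b t v) (hn : Nat.card Ω = 11011) (hi : (fix {t} : Set Ω).ncard = 91) : False := by
  haveI : Fact (Nat.Prime 367) := ⟨by norm_num⟩
  obtain ⟨-, hH, -, hC, -⟩ := B.cards
  rw [hn, show 12 * (11011 - 1) = 132120 by norm_num] at hH
  obtain ⟨P⟩ : Nonempty (Sylow 367 (stabilizer G a)) := inferInstance
  obtain ⟨n, hPn⟩ := IsPGroup.iff_card.1 P.2
  have hPd : Nat.card (P : Subgroup (stabilizer G a)) ∣ 132120 := hH ▸ card_subgroup_dvd_card _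
  have h1 : 367 ∣ Nat.card (P : Subgroup (stabilizer G a)) := by
    simpa using P.pow_dvd_card_of_pow_dvd_card (n := 1) (by rw [hH]; norm_num)
  have hP : Nat.card (P : Subgroup (stabilizer G a)) = 367 := by
    rw [hPn] at hPd h1 ⊢
    rcases n with - | - | n
    · norm_num at h1
    · norm_num
    · exact absurd ((pow_dvd_pow 367 (show 2 ≤ n + 1 + 1 by omega)).trans hPd) (by norm_num)
  have hidx : (P : Subgroup (stabilizer G a)).index = 360 := by
    have := (P : Subgroup (stabilizer G a)).card_mul_index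
    rw [hP, hH] at this
    omega
  have hone : Nat.card (Sylow 367 (stabilizer G a)) = 1 := by
    have h2 := card_sylow_modEq_one 367 (stabilizer G a)
    have h3 := Nat.le_of_dvd (by norm_num) (hidx ▸ P.card_dvd_index)
    have : Nat.card (Sylow 367 (stabilizer G a)) % 367 = 1 := h2
    omega
  haveI : Subsingleton (Sylow 367 (stabilizer G a)) := (Nat.card_eq_one_iff_unique.1 hone).1
  obtain ⟨g, hg⟩ := exists_prime_orderOf_dvd_card' (G := (P : Subgroup (stabilizer G a))) 367 (by rw [hP])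
  have hgP : zpowers (g : stabilizer G a) = (P : Subgroup (stabilizer G a)) := by
    refine eq_of_le_of_card_ge (zpowers_le.2 g.2) ?_
    rw [Nat.card_zpowers, Subgroup.orderOf_coe, hg, hP]
  have hgo : orderOf ((g : stabilizer G a) : G) = 367 := by rw [Subgroup.orderOf_coe, Subgroup.orderOf_coe, hg]
  set γ : G := ((g : stabilizer G a) : G)
  have hinv : ∀ x : G, orderOf x = 2 → x • a = a → x * γ * x⁻¹ = γ ∨ x * γ * x⁻¹ = γ⁻¹ := by
    intro x hx hxa
    have hN : (⟨x, hxa⟩ : stabilizer G a) ∈ normalizer ((P : Subgroup (stabilizer G a)) : Set (stabilizer G a)) :=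
      Sylow.smul_eq_iff_mem_normalizer.1 (Subsingleton.elim _ _)
    have hm : (⟨x, hxa⟩ : stabilizer G a) * (g : stabilizer G a) * (⟨x, hxa⟩ : stabilizer G a)⁻¹ ∈
        zpowers (g : stabilizer G a) := by
      rw [hgP]
      exact (mem_normalizer_iff.1 hN _).1 g.2
    obtain ⟨r, hr⟩ := mem_zpowers_iff.1 hm
    have hr' : γ ^ r = x * γ * x⁻¹ := congrArg Subtype.val hr
    have h2 : γ = γ ^ (r * r) := by
      calc γ = (x * x) * γ * (x * x)⁻¹ := by rw [Invol.inv_mul_self hx]; group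
        _ = x * (x * γ * x⁻¹) * x⁻¹ := by group
        _ = x * γ ^ r * x⁻¹ := by rw [hr']
        _ = (x * γ * x⁻¹) ^ r := conj_zpow.symm
        _ = γ ^ (r * r) := by rw [← hr', ← zpow_mul]
    have h3 : ((367 : ℕ) : ℤ) ∣ (r - 1) * (r + 1) := by
      rw [← hgo, orderOf_dvd_iff_zpow_eq_one, show (r - 1) * (r + 1) = r * r + (-1) by ring, zpow_add, ← h2,
        zpow_neg_one, mul_inv_cancel]
    rcases (Int.Prime.dvd_mul' (show Nat.Prime 367 by norm_num) h3) with h | h
    · left
      rw [← hgo, orderOf_dvd_iff_zpow_eq_one, zpow_sub_one, mul_inv_eq_one] at h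
      rw [← hr', h]
    · right
      rw [← hgo, orderOf_dvd_iff_zpow_eq_one, zpow_add_one] at h
      rw [← hr', eq_inv_of_mul_eq_one_left h]
  have hcen : ∀ {s s' : G}, Base G a b s s' → ¬ Commute γ s := by
    intro s s' B' hcm
    obtain ⟨-, -, -, hC', -⟩ := B'.cards
    rw [B.fix_isT B'.isT_t, hi, show 4 * (91 - 1) = 360 by norm_num] at hC'
    have hd : orderOf γ ∣ Nat.card ↥(centralizer ({s} : Set G) ⊓ stabilizer G a) :=
      Subgroup.orderOf_dvd_natCard _ (mem_inf.2 ⟨mem_centralizer_singleton_iff.2 hcm.eq, (g : stabilizer G a).2⟩)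
    rw [hgo, hC'] at hd
    norm_num at hd
  have hnt : ∀ {s s' : G}, Base G a b s s' → s * γ * s⁻¹ = γ⁻¹ := by
    intro s s' B'
    rcases hinv s B'.ht (mem_pairStab.1 B'.htH).1 with e | e
    · exact absurd (mul_inv_eq_iff_eq_mul.1 e).symm (hcen B')
    · exact e
  have e1 := hnt B
  have e2 := hnt (⟨B.toCtx, B.hvH, B.hv, B.htH, B.ht, B.htv.symm⟩ : Base G a b v t)
  refine hcen (⟨B.toCtx, mul_mem B.htH B.hvH, B.orderOf_tv, B.htH, B.ht,
    fun e => Invol.ne_one B.hv (mul_eq_left.1 e)⟩ : Base G a b (t * v) t) ?_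
  refine (mul_inv_eq_iff_eq_mul.1 ?_ : (t * v) * γ = γ * (t * v)).symm
  calc (t * v) * γ * (t * v)⁻¹ = t * (v * γ * v⁻¹) * t⁻¹ := by group
    _ = (t * γ * t⁻¹)⁻¹ := by rw [e2]; group
    _ = γ := by rw [e1, inv_inv]

/-- The case `|Fix t| + |Fix V| = 2 |Fix V|²`. -/
theorem false_eight_third (B : Base G a b t v) (hn : Nat.card Ω % 2 = 1) {z : G} (hz : CentralSwap G a b z)
    (hT : IsT G Ω z ∧ IsT G Ω (z * v))
    (hij : (fix {t} : Set Ω).ncard + (fix {t, v} : Set Ω).ncard =
      2 * ((fix {t, v} : Set Ω).ncard * (fix {t, v} : Set Ω).ncard))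
    {E : Subgroup G} (hE : EightAt G a E) (htE : t ∈ E) (hvE : v ∈ E) : False := by
  classical
  have hall : ∀ g : G, orderOf g = 2 → IsT G Ω g := fun g hg => B.central_all hz hT hg
  obtain ⟨-, hH, -, hC, -, -, hK⟩ := B.cards
  have h16 := B.not_sixteen hn hz hall hE htE hvE
  set i := (fix {t} : Set Ω).ncard with hi
  set j := (fix {t, v} : Set Ω).ncard with hj
  have hj2 : 2 ≤ j := B.two_le_fix₂
  set C := centralizer ({t} : Set G) ⊓ stabilizer G a with hCdef
  have htC : t ∈ C := mem_inf.2 ⟨mem_centralizer_singleton_iff.2 rfl, B.t_mem_stab⟩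
  set N := zpowers (⟨t, htC⟩ : C) with hN
  haveI : N.Normal := ⟨fun x hx g => by
    have hcm : Commute g (⟨t, htC⟩ : C) := Subtype.ext (mem_centralizer_singleton_iff.1 (mem_inf.1 g.2).1)
    obtain ⟨m, rfl⟩ := mem_zpowers_iff.1 hx
    rw [(hcm.zpow_right m).eq, mul_inv_cancel_right]
    exact zpow_mem (mem_zpowers _) m⟩
  set π := QuotientGroup.mk' N with hπ
  have hN2 : Nat.card N = 2 := by rw [hN, Nat.card_zpowers, Subgroup.orderOf_mk, B.ht]
  have hmemN : ∀ {x : C}, x ∈ N → (x : G) = 1 ∨ (x : G) = t := fun {x} hx => by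
    rcases eq_or_eq_of_mem_zpowers (Subtype.ext B.htt) hx with e | e <;> rw [e] <;> simp
  have hone : ∀ x : C, π x = 1 ↔ x ∈ N := fun x => QuotientGroup.eq_one_iff x
  -- the image of `v`
  have hvC : v ∈ C := mem_inf.2 ⟨mem_centralizer_singleton_iff.2 B.commute_tv.symm.eq, B.v_mem_stab⟩
  set vC : C := ⟨v, hvC⟩
  have hvN : vC ∉ N := fun h => by
    rcases hmemN h with e | e
    · exact Invol.ne_one B.hv e
    · exact B.htv e.symm
  have hv2 : orderOf (π vC) = 2 := Invol.orderOf_eq_two_of (fun h => hvN ((hone _).1 h))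
    (by rw [← map_mul, show vC * vC = 1 from Subtype.ext B.hvv, map_one])
  have hπt : π ⟨t, htC⟩ = 1 := (hone _).2 (mem_zpowers _)
  have hlift : ∀ q : ↥C ⧸ N, orderOf q = 2 → ∃ k : C, π k * q * (π k)⁻¹ = π vC := by
    intro q hq
    obtain ⟨x, rfl⟩ := QuotientGroup.mk'_surjective N q
    have hxx : (x : G) * x = 1 := by
      rcases hmemN ((hone (x * x)).1 (by rw [map_mul]; exact Invol.inv_mul_self hq)) with e | e
      · exact e
      · exact (B.no_root hn hz (mem_inf.1 x.2).2 e).elim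
    have hxN : x ∉ N := fun h => Invol.ne_one hq ((hone x).2 h)
    obtain ⟨k, hk, hka, he⟩ := B.partner_fuse hz hij
      (Invol.orderOf_eq_two_of (fun e => hxN (by rw [show x = 1 from Subtype.ext e]; exact one_mem _)) hxx)
      (mem_centralizer_singleton_iff.1 (mem_inf.1 x.2).1) (mem_inf.1 x.2).2
      (fun e => hxN (by rw [show x = ⟨t, htC⟩ from Subtype.ext e]; exact mem_zpowers _))
    refine ⟨⟨k, mem_inf.2 ⟨hk, hka⟩⟩, ?_⟩
    rcases he with e | e
    · rw [← map_inv, ← map_mul, ← map_mul]; exact congrArg π (Subtype.ext e)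
    · rw [← map_inv, ← map_mul, ← map_mul,
        show (⟨k, mem_inf.2 ⟨hk, hka⟩⟩ : C) * x * (⟨k, mem_inf.2 ⟨hk, hka⟩⟩ : C)⁻¹ = ⟨t, htC⟩ * vC from Subtype.ext e,
        map_mul, hπt, one_mul]
  have h1 : OneClass (↥C ⧸ N) := fun p q hp hq => by
    obtain ⟨k, hk⟩ := hlift p hp
    obtain ⟨l, hl⟩ := hlift q hq
    refine ⟨(π l)⁻¹ * π k, ?_⟩
    calc (π l)⁻¹ * π k * p * ((π l)⁻¹ * π k)⁻¹ = (π l)⁻¹ * (π k * p * (π k)⁻¹) * π l := by group
      _ = (π l)⁻¹ * (π l * q * (π l)⁻¹) * π l := by rw [hk, hl]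
      _ = q := by group
  -- orders
  have hQ : Nat.card C = Nat.card (↥C ⧸ N) * 2 := by rw [← hN2]; exact card_eq_card_quotient_mul_card_subgroup N
  have h8 : ¬ 8 ∣ Nat.card (↥C ⧸ N) := fun h => h16 (dvd_trans (by rw [hQ]; exact Nat.mul_dvd_mul_right h 2)
    (card_dvd_of_le (inf_le_right : C ≤ stabilizer G a)))
  -- the centralizer of `v` in the quotient
  set K := centralizer ({t} : Set G) ⊓ normalizer (B.toCtx.four : Set G) ⊓ stabilizer G a with hKdef
  have hKC : K ≤ C := inf_le_inf_right _ inf_le_left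
  have hKconj : ∀ g : C, (g : G) ∈ K ↔ (g : G) * v * (g : G)⁻¹ = v ∨ (g : G) * v * (g : G)⁻¹ = t * v := by
    intro g
    constructor
    · intro hg
      have hgt : (g : G) * t * (g : G)⁻¹ = t := by
        rw [mem_centralizer_singleton_iff.1 (mem_inf.1 g.2).1, mul_inv_cancel_right]
      rcases B.four_cases ((mem_normalizer_iff.1 (mem_inf.1 (mem_inf.1 hg).1).2 v).1 B.v_mem_four) with e | e | e | e
      · exact absurd (conj_eq_one_iff.1 e) (Invol.ne_one B.hv)
      · exact absurd (mul_left_cancel (mul_right_cancel (e.trans hgt.symm))) (Ne.symm B.htv)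
      · exact Or.inl e
      · exact Or.inr e
    · intro h
      refine mem_inf.2 ⟨mem_inf.2 ⟨(mem_inf.1 g.2).1, B.mem_normalizer_of_conj
        (mem_centralizer_singleton_iff.1 (mem_inf.1 g.2).1) ?_⟩, (mem_inf.1 g.2).2⟩
      rcases h with e | e <;> rw [e]
      exacts [B.v_mem_four, mul_mem B.t_mem_four B.v_mem_four]
  have hKmap : (K.subgroupOf C).map π = centralizer ({π vC} : Set (↥C ⧸ N)) := by
    ext q
    constructor
    · rintro ⟨g, hg, rfl⟩
      rw [mem_centralizer_singleton_iff, ← mul_inv_eq_iff_eq_mul, ← map_inv, ← map_mul, ← map_mul]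
      rcases (hKconj g).1 hg with e | e
      · exact congrArg π (Subtype.ext e)
      · rw [show g * vC * g⁻¹ = ⟨t, htC⟩ * vC from Subtype.ext e, map_mul, hπt, one_mul]
    · intro hq
      obtain ⟨g, rfl⟩ := QuotientGroup.mk'_surjective N q
      rw [mem_centralizer_singleton_iff, ← mul_inv_eq_iff_eq_mul, ← map_inv, ← map_mul, ← map_mul] at hq
      refine ⟨g, (hKconj g).2 ?_, rfl⟩
      have hm : π (g * vC * g⁻¹ * vC⁻¹) = 1 := by rw [map_mul, hq, map_inv, mul_inv_cancel]
      rcases hmemN ((hone _).1 hm) with e | e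
      · exact Or.inl (mul_inv_eq_one.1 e)
      · exact Or.inr (mul_inv_eq_iff_eq_mul.1 e)
  have htK : t ∈ K := mem_inf.2 ⟨mem_inf.2 ⟨mem_centralizer_singleton_iff.2 rfl,
    B.mem_normalizer_of_commute (Commute.refl t) B.commute_tv⟩, B.t_mem_stab⟩
  have hNK : N ≤ K.subgroupOf C := zpowers_le.2 (mem_subgroupOf.2 htK)
  have hCv : Nat.card (centralizer ({π vC} : Set (↥C ⧸ N))) = 2 * (j - 1) := by
    have h := card_eq_card_map_mul π (K.subgroupOf C)
    rw [hKmap, hπ, QuotientGroup.ker_mk', inf_eq_right.2 hNK, hN2,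
      Nat.card_congr (subgroupOfEquivOfLe hKC).toEquiv, hK] at h
    rw [← hπ] at h
    omega
  -- a single involution
  obtain ⟨hsub, -⟩ := B.subset_four_single hz hE.sq hE.fix fun x hx => mem_inf.2
    ⟨mem_centralizer_singleton_iff.2 (hE.commute hx htE).eq,
      B.mem_normalizer_of_commute (hE.commute hx htE) (hE.commute hx hvE)⟩
  have hEK : E ≤ centralizer ({t} : Set G) ⊓ normalizer (B.toCtx.four : Set G) := fun x hx => mem_inf.2
    ⟨mem_centralizer_singleton_iff.2 (hE.commute hx htE).eq,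
      B.mem_normalizer_of_commute (hE.commute hx htE) (hE.commute hx hvE)⟩
  obtain ⟨h4E, hsingE⟩ := B.eight_eq hz hE hEK
  obtain ⟨z0, hz0, hz04⟩ : ∃ z0 ∈ E, z0 ∉ B.toCtx.four := by
    by_contra h
    push Not at h
    have := card_le_of_le (show E ≤ B.toCtx.four from h)
    rw [hE.card, B.toCtx.card_four] at this
    omega
  have hz0S : z0 ∈ B.Single := ((hsub hz0).resolve_left hz04).1
  have hEeq : (E : Set G) = (B.toCtx.four : Set G) ∪ (z0 * ·) '' (B.toCtx.four : Set G) := by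
    refine (Set.eq_of_subset_of_ncard_le ?_ ?_).symm
    · rintro _ (h | ⟨y, hy, rfl⟩)
      · exact h4E h
      · exact mul_mem hz0 (h4E hy)
    · have h4 : (B.toCtx.four : Set G).ncard = 4 := (Nat.card_coe_set_eq _).symm.trans B.toCtx.card_four
      rw [Set.ncard_union_eq, Set.ncard_image_of_injective _ (mul_right_injective z0), h4, ← Nat.card_coe_set_eq]
      · exact le_of_eq hE.card
      · rw [Set.disjoint_left]
        rintro _ h ⟨y, hy, rfl⟩
        exact hz04 ((mul_mem_cancel_right hy).1 h)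
  have hEC : E ≤ C := fun x hx => mem_inf.2 ⟨(mem_inf.1 (hEK hx)).1, hE.fix x hx⟩
  set zC : C := ⟨z0, hEC hz0⟩
  have hzN : zC ∉ N := fun h => hz04 (by
    rcases hmemN h with e | e
    · exact (show z0 = 1 from e) ▸ one_mem _
    · exact (show z0 = t from e) ▸ B.t_mem_four)
  have hz2 : orderOf (π zC) = 2 := Invol.orderOf_eq_two_of (fun h => hzN ((hone _).1 h))
    (by rw [← map_mul, show zC * zC = 1 from Subtype.ext (hE.sq _ hz0), map_one])
  have hvz : Commute (π vC) (π zC) := (show Commute vC zC from Subtype.ext (hE.commute hvE hz0).eq).map π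
  have hvzne : π vC ≠ π zC := fun h => hz04 (by
    rcases hmemN ((hone (vC⁻¹ * zC)).1 (by rw [map_mul, map_inv, h, inv_mul_cancel])) with e | e
    · exact (inv_mul_eq_one.1 (show v⁻¹ * z0 = 1 from e)) ▸ B.v_mem_four
    · exact (inv_mul_eq_iff_eq_mul.1 (show v⁻¹ * z0 = t from e)) ▸ mul_mem B.v_mem_four B.t_mem_four)
  set Cv := centralizer ({π vC} : Set (↥C ⧸ N))
  set Cvz := centralizer ({π vC, π zC} : Set (↥C ⧸ N)) with hCvz
  have hle : Cvz ≤ Cv := centralizer_le (by simp)
  have hidx : (Cvz.subgroupOf Cv).index ≤ 2 := by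
    rw [index_eq_card]
    refine (Nat.card_le_card_of_injective (α := ↥Cv ⧸ Cvz.subgroupOf Cv) (β := ↥({π zC, π zC * π vC} : Set (↥C ⧸ N)))
      (fun q => Quotient.liftOn' q (fun g : Cv =>
        (⟨(g : ↥C ⧸ N) * π zC * (g : ↥C ⧸ N)⁻¹, ?_⟩ : ↥({π zC, π zC * π vC} : Set (↥C ⧸ N)))) ?_) ?_).trans ?_
    · have hg : (g : ↥C ⧸ N) ∈ (K.subgroupOf C).map π := hKmap.ge g.2
      obtain ⟨k, hk, hke⟩ := hg
      rw [← hke]
      have hkN : (k : G) ∈ centralizer ({t} : Set G) ⊓ normalizer (B.toCtx.four : Set G) := (mem_inf.1 hk).1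
      have hm : (k : G) * z0 * (k : G)⁻¹ ∈ E := hsingE _ (B.single_conj hkN hz0S) (by
        rw [mul_smul, mul_smul, inv_smul_eq_iff.2 (mem_inf.1 k.2).2.symm, hE.fix _ hz0]
        exact (mem_inf.1 k.2).2)
      have hm' : (k : G) * z0 * (k : G)⁻¹ ∈ (B.toCtx.four : Set G) ∪ (z0 * ·) '' (B.toCtx.four : Set G) := hEeq ▸ hm
      rcases hm' with h | ⟨y, hy, hye⟩
      · exact absurd ((mem_normalizer_iff.1 (mem_inf.1 hkN).2 z0).2 h) hz04
      · have e : k * zC * k⁻¹ = zC * ⟨y, hEC (h4E hy)⟩ := Subtype.ext hye.symm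
        have e2 : π k * π zC * (π k)⁻¹ = π zC * π ⟨y, hEC (h4E hy)⟩ := by
          rw [← map_inv, ← map_mul, ← map_mul, e, map_mul]
        rw [e2]
        rcases B.four_cases hy with h | h | h | h
        · left; rw [show (⟨y, hEC (h4E hy)⟩ : C) = 1 from Subtype.ext h, map_one, mul_one]
        · left; rw [show (⟨y, hEC (h4E hy)⟩ : C) = ⟨t, htC⟩ from Subtype.ext h, hπt, mul_one]
        · right; rw [show (⟨y, hEC (h4E hy)⟩ : C) = vC from Subtype.ext h]; rfl
        · right
          rw [show (⟨y, hEC (h4E hy)⟩ : C) = ⟨t, htC⟩ * vC from Subtype.ext h, map_mul π ⟨t, htC⟩ vC, hπt, one_mul]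
          rfl
    · intro p q hpq
      rw [QuotientGroup.leftRel_apply, mem_subgroupOf, hCvz, centralizer_pair] at hpq
      exact Subtype.ext (Invol.coset_iff_conj.1 (mem_inf.1 hpq).2).symm
    · rintro ⟨p⟩ ⟨q⟩ hpq
      refine QuotientGroup.eq.2 ?_
      rw [mem_subgroupOf, hCvz, centralizer_pair]
      exact mem_inf.2 ⟨(p⁻¹ * q).2, Invol.coset_iff_conj.2 (congrArg Subtype.val hpq).symm⟩
    · rw [Nat.card_coe_set_eq]
      exact (Set.ncard_insert_le _ _).trans (by rw [Set.ncard_singleton])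
  -- the four group of the quotient
  set V := (E.subgroupOf C).map π with hV
  have hV4 : Nat.card V = 4 := by
    have h := card_eq_card_map_mul π (E.subgroupOf C)
    rw [hπ, QuotientGroup.ker_mk', inf_eq_right.2 (zpowers_le.2 (mem_subgroupOf.2 htE) : N ≤ E.subgroupOf C), hN2,
      Nat.card_congr (subgroupOfEquivOfLe hEC).toEquiv, hE.card] at h
    rw [hV, hπ]
    omega
  haveI hVK : IsKleinFour V := by
    haveI : Nontrivial V := Finite.one_lt_card_iff_nontrivial.1 (by rw [hV4]; norm_num)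
    refine ⟨hV4, (Monoid.exponent_eq_prime_iff Nat.prime_two).2 fun x hx => orderOf_eq_prime ?_ hx⟩
    obtain ⟨_, y, hy, rfl⟩ := x
    refine Subtype.ext ?_
    rw [SubmonoidClass.coe_pow, pow_two]
    show π y * π y = 1
    rw [← map_mul, show y * y = 1 from Subtype.ext (hE.sq _ hy), map_one]
  have h4 : 4 ∣ Nat.card Cvz := by
    rw [← hV4]
    refine card_dvd_of_le ?_
    rintro _ ⟨y, hy, rfl⟩
    refine mem_centralizer_iff.2 ?_
    rintro _ (rfl | rfl)
    · exact ((show Commute vC y from Subtype.ext (hE.commute hvE hy).eq).map π).eq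
    · exact ((show Commute zC y from Subtype.ext (hE.commute hz0 hy).eq).map π).eq
  have hmul := (Cvz.subgroupOf Cv).card_mul_index
  rw [Nat.card_congr (subgroupOfEquivOfLe hle).toEquiv] at hmul
  have hi0 : (Cvz.subgroupOf Cv).index ≠ 0 := index_ne_zero_of_finite
  have hidx1 : (Cvz.subgroupOf Cv).index = 1 := by
    by_contra hne
    refine h8 (dvd_trans ?_ (card_subgroup_dvd_card Cv))
    rw [← hmul, show (Cvz.subgroupOf Cv).index = 2 by omega]
    exact Nat.mul_dvd_mul_right h4 2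
  rw [hidx1, mul_one] at hmul
  have hnum := card_eq_centralizer_mul_numInv h1 hv2
  rw [hCv] at hnum
  rw [hC] at hQ
  have hnI : numInv (↥C ⧸ N) = 2 * j + 1 := by
    obtain ⟨j', hj'⟩ : ∃ j', j = j' + 1 := ⟨j - 1, by omega⟩
    rw [hj'] at hnum hij ⊢
    simp only [Nat.add_sub_cancel] at hnum
    refine Nat.eq_of_mul_eq_mul_left (show 0 < 2 * j' by omega) ?_
    rw [← hnum]
    have e : 2 * j' * (2 * (j' + 1) + 1) = 4 * (j' * j') + 6 * j' := by ring
    have e' : (j' + 1) * (j' + 1) = j' * j' + 2 * j' + 1 := by ring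
    omega
  rcases local_data (twoCycDih_of_klein V h8) h1 hv2 hz2 hvz hvzne with
    ⟨μ, s, D, -, -, hμ, h5, h6, h7⟩ | ⟨h5, -⟩
  swap
  · exact h8 h5
  have hD : 0 < D := by
    rcases Nat.eq_zero_or_pos D with h | h
    · rw [h, mul_zero] at h5; exact absurd h5 Nat.card_pos.ne'
    · exact h
  have hμs : μ * s = 1 := by
    refine Nat.eq_of_mul_eq_mul_right hD ?_
    change Nat.card Cvz = _ at h5
    change Nat.card Cv = _ at h6
    omega
  obtain ⟨rfl, rfl⟩ := mul_eq_one.1 hμs
  rw [hnI] at h7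
  have hj7 : j = 7 := by omega
  have hi91 : i = 91 := by rw [hj7] at hij; omega
  refine B.false_367 ?_ hi91
  have h := B.count_eq
  rcases B.central_beta hz with ⟨-, -, hb⟩ | ⟨-, hf, -⟩ | ⟨hf, -, -⟩
  · rw [hb, ← hi, hi91] at h
    have := B.fix_lt
    omega
  · exact absurd hT.2 hf
  · exact absurd hT.1 hf

/-- A central swap in odd degree gives an isolated involution. -/
theorem central_odd (B : Base G a b t v) (hn : Nat.card Ω % 2 = 1) {z : G} (hz : CentralSwap G a b z) :
    ∃ J : G, orderOf J = 2 ∧ centralizer ({J} : Set G) ⊔ Cfsg.oddCore G = ⊤ := by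
  by_cases hT : IsT G Ω z ∧ IsT G Ω (z * v)
  swap
  · exact B.central_small hn hz hT
  exfalso
  have hall : ∀ g : G, orderOf g = 2 → IsT G Ω g := fun g hg => B.central_all hz hT hg
  obtain ⟨c, q, B1, E, hE, htE, hvE⟩ := B.exists_eight hn hz
  have hcen : ∀ {p r : Ω} {t' v' : G}, Base G p r t' v' → ∃ z', CentralSwap G p r z' :=
    fun B' => B.central_everywhere hz hT B'
  obtain ⟨z1, hz1⟩ := hcen B1
  rcases B.fix_cases with h | h | ⟨h, -⟩
  · exact B1.false_eight_eq hz1 hall h hE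
  · exact B1.false_eight_square hn hcen hall h hE
  · refine B1.false_eight_third hn hz1 ⟨hall _ hz1.ord, hall _ ?_⟩ h hE htE hvE
    exact Invol.orderOf_eq_two_of
      (fun e => B1.not_swaps_of_mem (show z1 ∈ pairStab G c q by rw [mul_eq_one_iff_eq_inv.1 e]; exact inv_mem B1.hvH)
        hz1.swaps) ((B1.central_swap_invol hz1).2 ⟨v, B1.v_mem_four, rfl⟩).2

end Base

end Cfsg.Lib.A4Stab
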