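import Cfsg.Agent.Lib.Invol.OrderFormula
import Cfsg.Agent.Lib.Invol.KleinFour

/-!
# The order of an odd group under a four group with equal centralizers
-/

set_option autoImplicit false
set_option linter.style.haveILetI false
set_option linter.unusedSectionVars false

namespace Cfsg.Lib.A4Stab

open Subgroup

variable {G : Type*} [Group G] [Finite G]

/-- In the product of an odd normal subgroup with a two-group acting on it, the elements of odd order are in
the odd subgroup. -/
theorem mem_of_odd_orderOf {O M : Subgroup G} (hsq : ∀ x ∈ M, x * x ∈ O) {k : G} (hk : k ∈ M)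
    (hodd : Odd (orderOf k)) : k ∈ O := by
  obtain ⟨m, hm⟩ := hodd
  have h : k = ((k * k) ^ m)⁻¹ := by
    rw [eq_inv_iff_mul_eq_one, ← pow_two, ← pow_mul, ← pow_succ', ← hm, pow_orderOf_eq_one]
  rw [h]
  exact inv_mem (pow_mem (hsq k hk) m)

theorem odd_orderOf_of_mem {O : Subgroup G} (hO : Odd (Nat.card O)) {k : G} (hk : k ∈ O) : Odd (orderOf k) :=
  hO.of_dvd_nat (Subgroup.orderOf_dvd_natCard _ hk)

theorem eq_of_odd_sq {O : Subgroup G} (hO : Odd (Nat.card O)) {k : G} (hk : k ∈ O) (h : k * k = 1) : k = 1 := by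
  obtain ⟨m, hm⟩ := odd_orderOf_of_mem hO hk
  have := pow_orderOf_eq_one k
  rw [hm, pow_succ, pow_mul, pow_two, h, one_pow, one_mul] at this
  exact this

/-- An odd group normalised by an involution: fixed points times inverted elements. -/
theorem card_eq_fixed_mul_inverted (A : Subgroup G) (hA : Odd (Nat.card A)) {t : G} (ht : orderOf t = 2)
    (htA : ∀ a ∈ A, t * a * t⁻¹ ∈ A) :
    Nat.card A = Nat.card ↥(A ⊓ centralizer ({t} : Set G)) * Nat.card {k : G // k ∈ A ∧ t * k * t⁻¹ = k⁻¹} := by
  have htt : t * t = 1 := Invol.inv_mul_self ht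
  let M : Subgroup G :=
    { carrier := {x | x ∈ A ∨ x * t ∈ A}
      one_mem' := Or.inl A.one_mem
      mul_mem' := by
        rintro x y (hx | hx) (hy | hy)
        · exact Or.inl (mul_mem hx hy)
        · exact Or.inr (by rw [mul_assoc]; exact mul_mem hx hy)
        · refine Or.inr ?_
          have := mul_mem hx (htA y hy)
          rwa [show x * t * (t * y * t⁻¹) = x * (t * t) * y * t⁻¹ by group, htt, mul_one,
            Invol.inv_eq_self ht] at this
        · refine Or.inl ?_
          have := mul_mem hx (htA _ hy)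
          rwa [show x * t * (t * (y * t) * t⁻¹) = x * (t * t) * y by group, htt, mul_one] at this
      inv_mem' := by
        rintro x (hx | hx)
        · exact Or.inl (inv_mem hx)
        · refine Or.inr ?_
          have := htA _ (inv_mem hx)
          rwa [show t * (x * t)⁻¹ * t⁻¹ = t * t⁻¹ * x⁻¹ * t⁻¹ by group, mul_inv_cancel, one_mul,
            Invol.inv_eq_self ht] at this }
  have htM : t ∈ M := Or.inr (by rw [htt]; exact A.one_mem)
  have hAM : A ≤ M := fun a ha => Or.inl ha
  have htnA : t ∉ A := fun h => by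
    have := odd_orderOf_of_mem hA h
    rw [ht] at this
    exact absurd this (by decide)
  have hidx : ∀ x ∈ M, x ∉ A → x * t ∈ A := fun x hx h => hx.resolve_left h
  -- the index of `A` is two
  have hcard : ∀ B : Subgroup G, Nat.card {x : G // x ∈ M ∧ x ∈ B} = Nat.card {x : G // x ∈ A ∧ x ∈ B} +
      Nat.card {x : G // x * t ∈ A ∧ x ∈ B} := fun B => by
    rw [← Nat.card_sum]
    classical
    exact Nat.card_congr
      { toFun := fun x => if h : x.1 ∈ A then Sum.inl ⟨x.1, h, x.2.2⟩
          else Sum.inr ⟨x.1, hidx _ x.2.1 h, x.2.2⟩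
        invFun := Sum.elim (fun x => ⟨x.1, Or.inl x.2.1, x.2.2⟩) (fun x => ⟨x.1, Or.inr x.2.1, x.2.2⟩)
        left_inv := fun x => by dsimp only; split <;> rfl
        right_inv := by
          rintro (⟨x, hx, hxB⟩ | ⟨x, hx, hxB⟩)
          · simp [hx]
          · have : x ∉ A := fun h => htnA (by
              have := mul_mem (inv_mem h) hx
              rwa [inv_mul_cancel_left] at this)
            simp [this] }
  have hsq : ∀ x ∈ M, x * x ∈ A := fun x hx => by
    rcases hx with hx | hx
    · exact mul_mem hx hx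
    · have := mul_mem hx (htA _ hx)
      rwa [show x * t * (t * (x * t) * t⁻¹) = x * (t * t) * x by group, htt, mul_one] at this
  have hiso : IsIsolatedInvolution (⟨t, htM⟩ : M) := by
    refine ⟨by rw [Subgroup.orderOf_mk, ht], fun g hg => Subtype.ext ?_⟩
    have hg' : Commute t ((g : G) * t * (g : G)⁻¹) := congrArg Subtype.val hg
    show (g : G) * t * (g : G)⁻¹ = t
    set u := (g : G) * t * (g : G)⁻¹ with hu
    have huA : u * t ∈ A := by
      rcases g.2 with h | h
      · rw [hu, show (g : G) * t * (g : G)⁻¹ * t = (g : G) * (t * (g : G)⁻¹ * t⁻¹) * (t * t) by group, htt, mul_one]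
        exact mul_mem h (htA _ (inv_mem h))
      · rw [hu, show (g : G) * t * (g : G)⁻¹ * t = (g : G) * t * (t * ((g : G) * t)⁻¹ * t⁻¹) * (t * t) by group,
          htt, mul_one]
        exact mul_mem h (htA _ (inv_mem h))
    have huu : u * u = 1 := by
      rw [hu, show (g : G) * t * (g : G)⁻¹ * ((g : G) * t * (g : G)⁻¹) = (g : G) * (t * t) * (g : G)⁻¹ by group,
        htt, mul_one, mul_inv_cancel]
    have := eq_of_odd_sq hA huA (by
      rw [mul_assoc, ← mul_assoc t u t, hg'.eq, mul_assoc u t t, htt, mul_one, huu])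
    rw [mul_eq_one_iff_eq_inv.1 this, Invol.inv_eq_self ht]
  have h := Invol.card_eq_centralizer_mul hiso
  have e1 : Nat.card {k : M // Invol.InvSet (⟨t, htM⟩ : M) k} = Nat.card {k : G // k ∈ A ∧ t * k * t⁻¹ = k⁻¹} :=
    Nat.card_congr
      { toFun := fun k => ⟨k.1.1, mem_of_odd_orderOf hsq k.1.2 (by rw [Subgroup.orderOf_coe]; exact k.2.1),
          congrArg Subtype.val k.2.2⟩
        invFun := fun k => ⟨⟨k.1, hAM k.2.1⟩, by rw [Subgroup.orderOf_mk]; exact odd_orderOf_of_mem hA k.2.1,
          Subtype.ext k.2.2⟩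
        left_inv := fun k => rfl
        right_inv := fun k => rfl }
  have e2 : Nat.card M = Nat.card A + Nat.card A := by
    have := hcard ⊤
    simp only [mem_top, and_true] at this
    refine this.trans (congrArg₂ (· + ·) rfl ?_)
    exact Nat.card_congr ((Equiv.mulRight t).subtypeEquiv fun x => Iff.rfl)
  have e3 : Nat.card (centralizer ({(⟨t, htM⟩ : M)} : Set M)) =
      Nat.card ↥(A ⊓ centralizer ({t} : Set G)) + Nat.card ↥(A ⊓ centralizer ({t} : Set G)) := by
    have := hcard (centralizer ({t} : Set G))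
    refine Eq.trans ?_ (this.trans (congrArg₂ (· + ·) rfl ?_))
    · exact Nat.card_congr
        { toFun := fun x => ⟨x.1.1, x.1.2, mem_centralizer_singleton_iff.2
            (congrArg Subtype.val (mem_centralizer_singleton_iff.1 x.2))⟩
          invFun := fun x => ⟨⟨x.1, x.2.1⟩, mem_centralizer_singleton_iff.2
            (Subtype.ext (mem_centralizer_singleton_iff.1 x.2.2))⟩
          left_inv := fun x => rfl
          right_inv := fun x => rfl }
    · refine Nat.card_congr ((Equiv.mulRight t).subtypeEquiv fun x => ?_)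
      exact and_congr Iff.rfl ((mul_mem_cancel_right (mem_centralizer_singleton_iff.2 rfl)).symm)
  rw [e1, e2, e3, ← two_mul, ← two_mul, mul_assoc] at h
  exact Nat.eq_of_mul_eq_mul_left two_pos h

/-- Brauer's order formula for a four group with equal fixed subgroups acting on an odd group. -/
theorem brauer_wielandt (O : Subgroup G) [O.Normal] (hO : Odd (Nat.card O)) {t v : G} (ht : orderOf t = 2)
    (hv : orderOf v = 2) (htv : Commute t v) (hne : t ≠ v)
    (h1 : Nat.card ↥(O ⊓ centralizer ({v} : Set G)) = Nat.card ↥(O ⊓ centralizer ({t} : Set G)))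
    (h2 : Nat.card ↥(O ⊓ centralizer ({v * t} : Set G)) = Nat.card ↥(O ⊓ centralizer ({t} : Set G))) :
    ∃ s : ℕ, Odd s ∧
      Nat.card ↥(O ⊓ centralizer ({t} : Set G)) = Nat.card ↥(O ⊓ centralizer ({t, v} : Set G)) * s ∧
      Nat.card O = Nat.card ↥(O ⊓ centralizer ({t} : Set G)) * (s * s) := by
  have htt : t * t = 1 := Invol.inv_mul_self ht
  have hvv : v * v = 1 := Invol.inv_mul_self hv
  obtain ⟨s₁, hs₁⟩ : ∃ s, s = Nat.card {k : G // k ∈ O ⊓ centralizer ({v * t} : Set G) ∧ t * k * t⁻¹ = k⁻¹} :=
    ⟨_, rfl⟩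
  obtain ⟨s₂, hs₂⟩ : ∃ s, s = Nat.card {k : G // k ∈ O ⊓ centralizer ({v} : Set G) ∧ t * k * t⁻¹ = k⁻¹} :=
    ⟨_, rfl⟩
  have key : ∀ w : G, Commute t w → (∀ k : G, Commute k t → (Commute k w ↔ Commute k v)) →
      Nat.card ↥(O ⊓ centralizer ({w} : Set G)) =
        Nat.card ↥(O ⊓ centralizer ({t, v} : Set G)) *
          Nat.card {k : G // k ∈ O ⊓ centralizer ({w} : Set G) ∧ t * k * t⁻¹ = k⁻¹} := by
    intro w htw hw
    have h := card_eq_fixed_mul_inverted (O ⊓ centralizer ({w} : Set G)) (hO.of_dvd_nat (card_dvd_of_le inf_le_left))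
      ht fun a ha => mem_inf.2 ⟨(inferInstance : O.Normal).conj_mem a ha.1 t, mul_mem (mul_mem
        (mem_centralizer_singleton_iff.2 htw.eq) ha.2) (inv_mem (mem_centralizer_singleton_iff.2 htw.eq))⟩
    rw [h]
    congr 2
    refine congrArg _ ?_
    ext k
    simp only [mem_inf, mem_centralizer_singleton_iff, mem_centralizer_iff, Set.mem_insert_iff,
      Set.mem_singleton_iff, forall_eq_or_imp, forall_eq]
    constructor
    · rintro ⟨⟨h1, h2⟩, h3⟩
      exact ⟨h1, h3, ((hw k h3.symm).1 h2.symm).eq.symm⟩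
    · rintro ⟨h1, h2, h3⟩
      exact ⟨⟨h1, ((hw k h2.symm).2 h3.symm).eq.symm⟩, h2⟩
  have k1 := key (v * t) ((htv.mul_right (Commute.refl t))) fun k hk =>
    ⟨fun h => by simpa [mul_assoc, htt] using h.mul_right hk, fun h => h.mul_right hk⟩
  have k2 := key v htv fun k _ => Iff.rfl
  rw [← hs₁, h2] at k1
  rw [← hs₂, h1] at k2
  have hd : 0 < Nat.card ↥(O ⊓ centralizer ({t, v} : Set G)) := Nat.card_pos
  have hs : s₁ = s₂ := Nat.eq_of_mul_eq_mul_left hd (k1.symm.trans k2)
  refine ⟨s₁, (hO.of_dvd_nat ?_), k1, ?_⟩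
  · exact (Dvd.intro_left _ k1.symm).trans (card_dvd_of_le inf_le_left)
  · rw [card_eq_fixed_mul_inverted O hO ht fun a ha => (inferInstance : O.Normal).conj_mem a ha t]
    congr 1
    set π := QuotientGroup.mk' O with hπ
    set K := closure ({π t, π v} : Set (G ⧸ O)) with hK
    have hKc : K ≤ centralizer (K : Set (G ⧸ O)) := by
      have h0 : ({π t, π v} : Set (G ⧸ O)) ⊆ centralizer ({π t, π v} : Set (G ⧸ O)) := by
        intro a ha
        refine mem_centralizer_iff.2 fun b hb => ?_
        rcases ha with rfl | rfl <;> rcases hb with rfl | rfl <;>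
          first
            | rfl
            | exact (htv.map π).eq
            | exact (htv.symm.map π).eq
      rw [hK, closure_le, centralizer_closure]
      exact h0
    have hKsq : ∀ y ∈ K, y * y = 1 := fun y hy => by
      induction hy using closure_induction with
      | mem a ha =>
        rcases ha with rfl | rfl
        · rw [← map_mul, htt, map_one]
        · rw [← map_mul, hvv, map_one]
      | one => exact one_mul 1
      | mul a b ha hb iha ihb =>
        have hc : Commute a b := mem_centralizer_iff.1 (hKc hb) a ha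
        rw [hc.symm.mul_mul_mul_comm, iha, ihb, one_mul]
      | inv a _ iha => rw [← mul_inv_rev, iha, inv_one]
    set M := K.comap π with hM
    have htM : t ∈ M := mem_comap.2 (subset_closure (by simp))
    have hvM : v ∈ M := mem_comap.2 (subset_closure (by simp))
    have hOM : O ≤ M := fun x hx => by
      rw [hM, mem_comap, show π x = 1 from (QuotientGroup.eq_one_iff x).2 hx]
      exact one_mem _
    have hsq : ∀ x ∈ M, x * x ∈ O := fun x hx =>
      (QuotientGroup.eq_one_iff _).1 (show π (x * x) = 1 by rw [map_mul]; exact hKsq _ hx)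
    have hiso : IsIsolatedInvolution (⟨t, htM⟩ : M) := by
      refine ⟨by rw [Subgroup.orderOf_mk, ht], fun g hg => Subtype.ext ?_⟩
      have hg' : Commute t ((g : G) * t * (g : G)⁻¹) := congrArg Subtype.val hg
      show (g : G) * t * (g : G)⁻¹ = t
      have hc : π (g : G) * π t = π t * π (g : G) := mem_centralizer_iff.1 (hKc htM) _ g.2
      set u := (g : G) * t * (g : G)⁻¹ with hu
      have huA : u * t ∈ O := (QuotientGroup.eq_one_iff _).1 (show π (u * t) = 1 by
        rw [hu, map_mul, map_mul, map_mul, map_inv, hc, mul_inv_cancel_right, ← map_mul, htt, map_one])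
      have huu : u * u = 1 := by
        rw [hu, show (g : G) * t * (g : G)⁻¹ * ((g : G) * t * (g : G)⁻¹) = (g : G) * (t * t) * (g : G)⁻¹ by group,
          htt, mul_one, mul_inv_cancel]
      have := eq_of_odd_sq hO huA (by
        rw [mul_assoc, ← mul_assoc t u t, hg'.eq, mul_assoc u t t, htt, mul_one, huu])
      rw [mul_eq_one_iff_eq_inv.1 this, Invol.inv_eq_self ht]
    have h := Invol.card_eq_centralizer_mul hiso
    rw [Invol.isolated_order_formula hiso (s := ⟨v, hvM⟩) (by rw [Subgroup.orderOf_mk, hv])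
      (Subtype.ext htv.eq.symm)] at h
    have h' := Nat.eq_of_mul_eq_mul_left Nat.card_pos h
    refine Eq.trans ?_ (h'.symm.trans (congrArg₂ (· * ·) ?_ (Eq.trans ?_ (hs₂.symm.trans hs.symm))))
    · exact Nat.card_congr
        { toFun := fun k => ⟨⟨k.1, hOM k.2.1⟩, by rw [Subgroup.orderOf_mk]; exact odd_orderOf_of_mem hO k.2.1,
            Subtype.ext k.2.2⟩
          invFun := fun k => ⟨k.1.1, mem_of_odd_orderOf hsq k.1.2 (by rw [Subgroup.orderOf_coe]; exact k.2.1),
            congrArg Subtype.val k.2.2⟩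
          left_inv := fun k => rfl
          right_inv := fun k => rfl }
    · rw [hs₁]
      exact Nat.card_congr
        { toFun := fun k => ⟨k.1.1, mem_inf.2 ⟨mem_of_odd_orderOf hsq k.1.2 (by rw [Subgroup.orderOf_coe]; exact k.2.1),
            mem_centralizer_singleton_iff.2 (congrArg Subtype.val k.2.2.2.eq)⟩, congrArg Subtype.val k.2.2.1⟩
          invFun := fun k => ⟨⟨k.1, hOM k.2.1.1⟩, by rw [Subgroup.orderOf_mk]; exact odd_orderOf_of_mem hO k.2.1.1,
            Subtype.ext k.2.2, Subtype.ext (mem_centralizer_singleton_iff.1 k.2.1.2)⟩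
          left_inv := fun k => rfl
          right_inv := fun k => rfl }
    · exact Nat.card_congr
        { toFun := fun k => ⟨k.1.1, mem_inf.2 ⟨mem_of_odd_orderOf hsq k.1.2 (by rw [Subgroup.orderOf_coe]; exact k.2.1),
            mem_centralizer_singleton_iff.2 (congrArg Subtype.val k.2.2.2.eq)⟩, congrArg Subtype.val k.2.2.1⟩
          invFun := fun k => ⟨⟨k.1, hOM k.2.1.1⟩, by rw [Subgroup.orderOf_mk]; exact odd_orderOf_of_mem hO k.2.1.1,
            Subtype.ext k.2.2, Subtype.ext (mem_centralizer_singleton_iff.1 k.2.1.2)⟩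
          left_inv := fun k => rfl
          right_inv := fun k => rfl }

end Cfsg.Lib.A4Stab
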