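import Cfsg.Agent.Lib.A4Stab.Single

/-!
# An elementary abelian subgroup of order eight in a point stabilizer
-/

set_option autoImplicit false
set_option linter.style.haveILetI false
set_option linter.unusedSectionVars false

namespace Cfsg.Lib.A4Stab

open Subgroup MulAction

universe u w

variable {G : Type u} [Group G] [Finite G] {Ω : Type w} [Finite Ω] [MulAction G Ω] [FaithfulSMul G Ω]

/-- An elementary abelian subgroup of order eight fixing `a`. -/
structure EightAt (G : Type u) [Group G] {Ω : Type w} [MulAction G Ω] (a : Ω) (E : Subgroup G) : Prop where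
  card : Nat.card E = 8
  sq : ∀ x ∈ E, x * x = 1
  fix : ∀ x ∈ E, x • a = a

theorem EightAt.commute {a : Ω} {E : Subgroup G} (h : EightAt G a E) {x y : G} (hx : x ∈ E) (hy : y ∈ E) :
    Commute x y := by
  have h1 := h.sq _ (mul_mem hx hy)
  have hxi : x⁻¹ = x := inv_eq_of_mul_eq_one_right (h.sq x hx)
  have hyi : y⁻¹ = y := inv_eq_of_mul_eq_one_right (h.sq y hy)
  have h' : (x * y)⁻¹ = x * y := inv_eq_of_mul_eq_one_right h1
  rw [mul_inv_rev, hxi, hyi] at h'
  exact h'.symm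

theorem EightAt.conj {a : Ω} {E : Subgroup G} (h : EightAt G a E) {k : G} (hk : k • a = a) :
    EightAt G a (E.map (MulAut.conj k).toMonoidHom) := by
  refine ⟨by rw [card_map_of_injective (MulAut.conj k).injective, h.card], ?_, ?_⟩
  · rintro _ ⟨x, hx, rfl⟩
    rw [← map_mul, h.sq x hx, map_one]
  · rintro _ ⟨x, hx, rfl⟩
    show (k * x * k⁻¹) • a = a
    conv_lhs => rw [← hk]
    rw [conj_smul, h.fix x hx, hk]

/-- Seven involutions cannot fall into classes of three. -/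
theorem false_seven {E : Subgroup G} (hE : Nat.card E = 8) (W : G → Set G)
    (h3 : ∀ x ∈ E, x ≠ 1 → x ∈ W x ∧ (W x).ncard = 3 ∧ ∀ y ∈ W x, y ∈ E ∧ y ≠ 1 ∧ W y = W x) : False := by
  classical
  letI := Fintype.ofFinite G
  set D := Finset.univ.filter fun x : G => x ∈ E ∧ x ≠ 1 with hD
  have hD7 : D.card = 7 := by
    have h1 : (Finset.univ.filter fun x : G => x ∈ E).card = 8 := by
      rw [← hE, Nat.card_eq_fintype_card, Fintype.card_subtype]
    have h2 : D = (Finset.univ.filter fun x : G => x ∈ E).erase 1 := by ext x; simp [hD, and_comm]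
    rw [h2, Finset.card_erase_of_mem (by simp), h1]
  have hmem : ∀ x, x ∈ D ↔ x ∈ E ∧ x ≠ 1 := fun x => by simp [hD]
  have h := Finset.card_eq_sum_card_image W D
  rw [hD7, Finset.sum_const_nat (m := 3) ?_] at h
  · omega
  intro S hS
  obtain ⟨x, hx, rfl⟩ := Finset.mem_image.1 hS
  obtain ⟨hxE, hx1⟩ := (hmem x).1 hx
  obtain ⟨-, h3', hall⟩ := h3 x hxE hx1
  rw [← h3', Set.ncard_eq_toFinset_card']
  congr 1
  ext y
  rw [Finset.mem_filter, Set.mem_toFinset, hmem]
  constructor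
  · rintro ⟨⟨hyE, hy1⟩, e⟩
    exact e ▸ (h3 y hyE hy1).1
  · intro hy
    exact ⟨⟨(hall y hy).1, (hall y hy).2.1⟩, (hall y hy).2.2⟩

namespace Base

variable {a b : Ω} {t v : G}

theorem central_swaps_card (B : Base G a b t v) {z : G} (hz : CentralSwap G a b z) :
    {g : G | g * g = 1 ∧ Swaps g a b}.ncard ≤ 4 := by
  calc _ ≤ ((z * ·) '' (B.toCtx.four : Set G)).ncard := Set.ncard_le_ncard fun g hg => by
        obtain ⟨y, hy, rfl⟩ := (B.central_swap_invol hz).1 ⟨hg.2, hg.1⟩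
        exact ⟨y, hy, rfl⟩
    _ = (B.toCtx.four : Set G).ncard := Set.ncard_image_of_injective _ (mul_right_injective z)
    _ = 4 := by rw [← Nat.card_coe_set_eq]; exact B.toCtx.card_four

/-- The elementary groups centralizing `t` and normalizing the four group lie in a set of eight elements. -/
theorem subset_four_single (B : Base G a b t v) {z : G} (hz : CentralSwap G a b z) {P : Subgroup G}
    (hsq : ∀ x ∈ P, x * x = 1) (hfix : ∀ x ∈ P, x • a = a)
    (hPK : P ≤ centralizer ({t} : Set G) ⊓ normalizer (B.toCtx.four : Set G)) :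
    (P : Set G) ⊆ (B.toCtx.four : Set G) ∪ {g | g ∈ B.Single ∧ g • a = a} ∧
      ((B.toCtx.four : Set G) ∪ {g | g ∈ B.Single ∧ g • a = a}).ncard ≤ 8 := by
  constructor
  · intro g hg
    have hgK := hPK hg
    by_cases hex : ∃ q, q ≠ a ∧ q ∈ (fix {t, v} : Set Ω) ∧ g • q = q
    · obtain ⟨q, hqa, hq, hgq⟩ := hex
      exact Or.inl (B.mem_four_of_fix (mem_inf.1 hgK).1 hqa.symm B.a_mem_fix₂ hq (hfix g hg) hgq)
    · push Not at hex
      refine Or.inr ⟨⟨hgK, hsq g hg, Set.ncard_eq_one.2 ⟨a, ?_⟩⟩, hfix g hg⟩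
      ext q
      simp only [Set.mem_inter_iff, mem_fix_singleton, Set.mem_singleton_iff]
      exact ⟨fun ⟨h1, h2⟩ => by_contra fun h => hex q h h1 h2,
        fun h => h ▸ ⟨B.a_mem_fix₂, hfix g hg⟩⟩
  · refine (Set.ncard_union_le _ _).trans ?_
    rw [← Nat.card_coe_set_eq, show Nat.card (B.toCtx.four : Set G) = 4 from B.toCtx.card_four, B.single_card]
    have : {g | g ∈ B.Single ∧ Swaps g a b}.ncard ≤ 4 :=
      (Set.ncard_le_ncard (t := {g : G | g * g = 1 ∧ Swaps g a b}) fun g hg => ⟨hg.1.2.1, hg.2⟩).trans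
        (B.central_swaps_card hz)
    omega

/-- An elementary group of order eight centralizing `t` and normalizing the four group contains it, and all
single involutions at `a`. -/
theorem eight_eq (B : Base G a b t v) {z : G} (hz : CentralSwap G a b z) {E : Subgroup G} (hE : EightAt G a E)
    (hEK : E ≤ centralizer ({t} : Set G) ⊓ normalizer (B.toCtx.four : Set G)) :
    B.toCtx.four ≤ E ∧ ∀ g ∈ B.Single, g • a = a → g ∈ E := by
  obtain ⟨hsub, hU⟩ := B.subset_four_single hz hE.sq hE.fix hEK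
  have heq := Set.eq_of_subset_of_ncard_le hsub (by
    rw [← Nat.card_coe_set_eq (E : Set G), show Nat.card (E : Set G) = 8 from hE.card]; exact hU)
  exact ⟨fun x hx => (heq.ge (Or.inl hx) : x ∈ (E : Set G)), fun g h1 h2 => (heq.ge (Or.inr ⟨h1, h2⟩) : g ∈ (E : Set G))⟩

theorem centralizer_le_normalizer_of_eq (B : Base G a b t v)
    (hij : (fix {t} : Set Ω).ncard = (fix {t, v} : Set Ω).ncard) :
    centralizer ({t} : Set G) ≤ normalizer (B.toCtx.four : Set G) := by
  have hF : (fix {t, v} : Set Ω) = fix {t} := Set.eq_of_subset_of_ncard_le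
    (fun p hp => mem_fix_singleton.2 (mem_fix_pair.1 hp).1) hij.le
  intro g hg
  have hp : ∀ p, p ∈ (fix {t, v} : Set Ω) → g⁻¹ • p ∈ (fix {t, v} : Set Ω) := fun p hp => by
    rw [hF] at hp ⊢
    exact fix_smul_centralizer (inv_mem hg) hp
  exact B.mem_normalizer_of_map (hp a B.a_mem_fix₂) (hp b B.b_mem_fix₂) (smul_inv_smul g a) (smul_inv_smul g b)

/-- The case `|Fix t| = |Fix V|`. -/
theorem false_eight_eq (B : Base G a b t v) {z : G} (hz : CentralSwap G a b z)
    (hall : ∀ g : G, orderOf g = 2 → IsT G Ω g)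
    (hij : (fix {t} : Set Ω).ncard = (fix {t, v} : Set Ω).ncard) {E : Subgroup G} (hE : EightAt G a E) : False := by
  have hord : ∀ x ∈ E, x ≠ 1 → orderOf x = 2 := fun x hx h1 => Invol.orderOf_eq_two_of h1 (hE.sq x hx)
  have hF : (fix {t, v} : Set Ω) = fix {t} := Set.eq_of_subset_of_ncard_le
    (fun p hp => mem_fix_singleton.2 (mem_fix_pair.1 hp).1) hij.le
  refine false_seven hE.card (fun x => {y | y ∈ E ∧ y ≠ 1 ∧ (fix {y} : Set Ω) = fix {x}}) fun x hx hx1 => ?_
  refine ⟨⟨hx, hx1, rfl⟩, ?_, fun y hy => ⟨hy.1, hy.2.1, by rw [hy.2.2]⟩⟩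
  obtain ⟨k, hk, hkt⟩ := B.exists_stab_conj (hall x (hord x hx hx1)) (hE.fix x hx)
  have hka : k⁻¹ • a = a := by rw [inv_smul_eq_iff]; exact (mem_stabilizer_iff.1 hk).symm
  have hE' := hE.conj hka
  set E' := E.map (MulAut.conj k⁻¹).toMonoidHom
  have htE : t ∈ E' := ⟨x, hx, by
    show k⁻¹ * x * k⁻¹⁻¹ = t
    rw [← hkt]; group⟩
  have hK : E' ≤ centralizer ({t} : Set G) ⊓ normalizer (B.toCtx.four : Set G) := fun g hg => by
    have hgC : g ∈ centralizer ({t} : Set G) := mem_centralizer_singleton_iff.2 (hE'.commute hg htE).eq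
    exact mem_inf.2 ⟨hgC, B.centralizer_le_normalizer_of_eq hij hgC⟩
  obtain ⟨h4, -⟩ := B.eight_eq hz hE' hK
  -- the three involutions of the conjugate four group
  have hset : {y | y ∈ E ∧ y ≠ 1 ∧ (fix {y} : Set Ω) = fix {x}} = (fun y => k * y * k⁻¹) '' {t, v, t * v} := by
    have hmemE : ∀ y, y ∈ E' → k * y * k⁻¹ ∈ E := by
      rintro _ ⟨w, hw, rfl⟩
      show k * (k⁻¹ * w * k⁻¹⁻¹) * k⁻¹ ∈ E
      rwa [show k * (k⁻¹ * w * k⁻¹⁻¹) * k⁻¹ = w by group]
    ext y
    constructor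
    · rintro ⟨hy, hy1, hyf⟩
      refine ⟨k⁻¹ * y * k, ?_, by group⟩
      have hfx : (fix {k⁻¹ * y * k} : Set Ω) = fix {t} := by
        rw [show k⁻¹ * y * k = k⁻¹ * y * k⁻¹⁻¹ by rw [inv_inv], fix_conj_singleton, hyf, ← fix_conj_singleton,
          ← hkt, show k⁻¹ * (k * t * k⁻¹) * k⁻¹⁻¹ = t by group]
      have hbb : b ∈ (fix {k⁻¹ * y * k} : Set Ω) := hfx ▸ B.b_mem_fix
      have haa : a ∈ (fix {k⁻¹ * y * k} : Set Ω) := hfx ▸ B.a_mem_fix
      have hy2 : orderOf (k⁻¹ * y * k) = 2 := by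
        rw [show k⁻¹ * y * k = k⁻¹ * y * k⁻¹⁻¹ by rw [inv_inv], Invol.orderOf_conj_eq, hord y hy hy1]
      rcases B.four_cases (B.toCtx.four_mem_of_orderOf (mem_pairStab.2
        ⟨mem_fix_singleton.1 haa, mem_fix_singleton.1 hbb⟩) hy2) with e | e | e | e
      · exact absurd e (Invol.ne_one hy2)
      · exact Or.inl e
      · exact Or.inr (Or.inl e)
      · exact Or.inr (Or.inr e)
    · rintro ⟨y, hy, rfl⟩
      have hy4 : y ∈ B.toCtx.four := by
        rcases hy with rfl | rfl | rfl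
        exacts [B.t_mem_four, B.v_mem_four, mul_mem B.t_mem_four B.v_mem_four]
      have hy1 : y ≠ 1 := by
        rcases hy with rfl | rfl | rfl
        exacts [Invol.ne_one B.ht, Invol.ne_one B.hv, B.tv_ne_one]
      refine ⟨hmemE y (h4 hy4), fun h => hy1 (conj_eq_one_iff.1 h), ?_⟩
      have hyt : (fix {y} : Set Ω) = fix {t} := by
        refine (Set.eq_of_subset_of_ncard_le (fun p hp => mem_fix_singleton.2 (B.four_fix (hF ▸ hp) hy4)) ?_).symm
        rw [B.fix_isT (hall y (B.toCtx.orderOf_of_mem_four hy4 hy1))]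
      show (fix {k * y * k⁻¹} : Set Ω) = fix {x}
      rw [fix_conj_singleton, hyt, ← fix_conj_singleton, hkt]
  rw [hset, Set.ncard_image_of_injective _ (fun p q h => mul_left_cancel (mul_right_cancel h)), B.ncard_three]

/-- The lone involutions at a point when `|Fix t| = |Fix V|²`. -/
theorem lone_two (B : Base G a b t v) (hn : Nat.card Ω % 2 = 1) {z : G} (hz : CentralSwap G a b z)
    (hij : (fix {t} : Set Ω).ncard = (fix {t, v} : Set Ω).ncard * (fix {t, v} : Set Ω).ncard) :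
    {g | g ∈ Lone G Ω t ∧ g • a = a}.ncard = 2 ∧ (B.Single ∩ Lone G Ω t ∩ {g | g • a = a}).Nonempty := by
  have hj := B.two_le_fix₂
  set S := {g | Partner G Ω t g ∧ Swaps g a b}
  have hS2 : S.ncard = 2 := by
    have h := B.count₂_eq
    rw [hij] at h
    obtain ⟨j', hj'⟩ : ∃ j', (fix {t, v} : Set Ω).ncard = j' + 1 := ⟨_, (Nat.sub_add_cancel (by omega : 1 ≤ _)).symm⟩
    rw [hj'] at h hj
    simp only [Nat.add_sub_cancel] at h
    rw [show (j' + 1) * (j' + 1) - (j' + 1) = (j' + 1) * j' by rw [Nat.mul_succ, Nat.add_sub_cancel]] at h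
    exact (Nat.eq_of_mul_eq_mul_right (Nat.mul_pos (by omega) (by omega)) h).symm
  have hit := card_fix_mod_two (Ω := Ω) B.ht
  -- swaps other than partners are lone
  set L := (z * ·) '' (B.toCtx.four : Set G) \ S with hL
  have hLmem : ∀ g ∈ L, g ∈ B.Single ∩ Lone G Ω t ∧ Swaps g a b := by
    rintro _ ⟨⟨y, hy, rfl⟩, hnS⟩
    simp only at hnS ⊢
    obtain ⟨hs, hgg⟩ := (B.central_swap_invol hz).2 ⟨y, hy, rfl⟩
    have hct : Commute (z * y) t := (hz.comm t B.htH).mul_left (B.toCtx.commute_four hy B.t_mem_four)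
    have hcv : Commute (z * y) v := (hz.comm v B.hvH).mul_left (B.toCtx.commute_four hy B.v_mem_four)
    have hgC : z * y ∈ centralizer ({t} : Set G) := mem_centralizer_singleton_iff.2 hct.eq
    have hgN := B.mem_normalizer_of_commute hct hcv
    refine ⟨⟨⟨mem_inf.2 ⟨hgC, hgN⟩, hgg, ?_⟩, hgC, hgg, ?_⟩, hs⟩
    · obtain ⟨p, hp, hpp⟩ := exists_fixed_of_odd (fix {t, v}) (by rw [B.fix₂_mod_two]; exact hn)
        (fun p hp => B.fix_smul_normalizer hgN hp) (fun p _ => smul_smul_of_sq hgg p)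
      refine Set.ncard_eq_one.2 ⟨p, ?_⟩
      ext q
      simp only [Set.mem_inter_iff, mem_fix_singleton, Set.mem_singleton_iff]
      refine ⟨fun ⟨h1, h2⟩ => by_contra fun hne => ?_, fun h => h ▸ ⟨hp, hpp⟩⟩
      exact B.not_swaps_of_mem (B.toCtx.four_le (B.mem_four_of_fix hgC hne h1 hp h2 hpp)) hs
    · obtain ⟨p, hp, hpp⟩ := exists_fixed_of_odd (fix {t}) (by rw [hit]; exact hn)
        (fun p hp => fix_smul_centralizer hgC hp) (fun p _ => smul_smul_of_sq hgg p)
      refine Set.ncard_eq_one.2 ⟨p, ?_⟩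
      ext q
      simp only [Set.mem_inter_iff, mem_fix_singleton, Set.mem_singleton_iff]
      refine ⟨fun ⟨h1, h2⟩ => by_contra fun hne => hnS ?_, fun h => h ▸ ⟨mem_fix_singleton.1 hp, hpp⟩⟩
      have hne1 : z * y ≠ 1 := fun e => B.not_swaps_of_mem (e ▸ one_mem _) hs
      refine ⟨⟨Invol.orderOf_eq_two_of hne1 hgg, hct.symm, fun e => B.not_swaps_of_mem (e ▸ B.htH) hs,
        q, p, hne, ⟨h1, mem_fix_singleton.1 hp⟩, h2, hpp⟩, hs⟩
  have hS_sub : S ⊆ (z * ·) '' (B.toCtx.four : Set G) := fun g hg => by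
    obtain ⟨y, hy, rfl⟩ := (B.central_swap_invol hz).1 ⟨hg.2, Invol.inv_mul_self hg.1.1⟩
    exact ⟨y, hy, rfl⟩
  have hLc : L.ncard = 2 := by
    rw [hL, Set.ncard_diff hS_sub, Set.ncard_image_of_injective _ (mul_right_injective z), hS2,
      ← Nat.card_coe_set_eq, show Nat.card (B.toCtx.four : Set G) = 4 from B.toCtx.card_four]
  have hLone : {g | g ∈ Lone G Ω t ∧ Swaps g a b} = L := by
    refine Set.Subset.antisymm (fun g ⟨hg, hs⟩ => ?_) fun g hg => ⟨(hLmem g hg).1.2, (hLmem g hg).2⟩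
    obtain ⟨y, hy, rfl⟩ := (B.central_swap_invol hz).1 ⟨hs, hg.2.1⟩
    refine ⟨⟨y, hy, rfl⟩, fun hS' => ?_⟩
    obtain ⟨-, -, -, p, q, hpq, ⟨h1, h2⟩, h3, h4⟩ := hS'.1
    exact hpq ((Set.ncard_le_one (Set.toFinite _)).1 hg.2.2.le p ⟨mem_fix_singleton.2 h1, mem_fix_singleton.2 h3⟩
      q ⟨mem_fix_singleton.2 h2, mem_fix_singleton.2 h4⟩)
  refine ⟨by rw [B.lone_card, hLone, hLc], ?_⟩
  have hne : 0 < {g | g ∈ B.Single ∩ Lone G Ω t ∧ g • a = a}.ncard := by
    rw [B.single_lone_card]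
    refine lt_of_lt_of_le (by rw [hLc]; norm_num : 0 < L.ncard) ?_
    exact Set.ncard_le_ncard fun g hg => hLmem g hg
  obtain ⟨g, hg⟩ := (Set.ncard_pos (Set.toFinite _)).1 hne
  exact ⟨g, hg.1, hg.2⟩

theorem lone_mul_t (B : Base G a b t v) {g : G} (hg : g ∈ Lone G Ω t) (hga : g • a = a) :
    g * t ∈ Lone G Ω t ∧ (g * t) • a = a := by
  refine ⟨⟨mul_mem hg.1 (mem_centralizer_singleton_iff.2 rfl), ?_, ?_⟩, by
    rw [mul_smul, mem_fix_singleton.1 B.a_mem_fix, hga]⟩
  · rw [(show Commute t g from (mem_centralizer_singleton_iff.1 hg.1).symm).mul_mul_mul_comm, hg.2.1, B.htt, one_mul]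
  · rw [show (fix {t} : Set Ω) ∩ fix {g * t} = (fix {t} : Set Ω) ∩ fix {g} by
      ext p
      simp only [Set.mem_inter_iff, mem_fix_singleton, mul_smul]
      exact ⟨fun ⟨h1, h2⟩ => ⟨h1, by rwa [h1] at h2⟩, fun ⟨h1, h2⟩ => ⟨h1, by rw [h1, h2]⟩⟩]
    exact hg.2.2

/-- The case `|Fix t| = |Fix V|²`. -/
theorem false_eight_square (B : Base G a b t v) (hn : Nat.card Ω % 2 = 1)
    (hcen : ∀ {p q : Ω} {t' v' : G}, Base G p q t' v' → ∃ z, CentralSwap G p q z)
    (hall : ∀ g : G, orderOf g = 2 → IsT G Ω g)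
    (hij : (fix {t} : Set Ω).ncard = (fix {t, v} : Set Ω).ncard * (fix {t, v} : Set Ω).ncard)
    {E : Subgroup G} (hE : EightAt G a E) : False := by
  obtain ⟨z, hz⟩ := hcen B
  obtain ⟨hL2, -⟩ := B.lone_two hn hz hij
  -- the lone involutions at `a` form a coset of `⟨t⟩`
  have hLeq : ∀ g, g ∈ Lone G Ω t → g • a = a → {g | g ∈ Lone G Ω t ∧ g • a = a} = {g, g * t} := by
    intro g hg hga
    refine (Set.eq_of_subset_of_ncard_le ?_ ?_).symm
    · rintro x (rfl | rfl)
      exacts [⟨hg, hga⟩, B.lone_mul_t hg hga]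
    · rw [hL2, Set.ncard_pair fun e => Invol.ne_one B.ht (mul_eq_left.1 e.symm)]
  -- every such group through `t` contains one
  have hkey : ∀ E' : Subgroup G, EightAt G a E' → t ∈ E' → ∃ g ∈ E', g ∈ Lone G Ω t := by
    intro E' hE' htE
    by_contra hc
    push Not at hc
    obtain ⟨x, hx, hxn⟩ : ∃ x ∈ E', x ∉ zpowers t := by
      by_contra h
      push Not at h
      have := card_le_of_le (show E' ≤ zpowers t from h)
      rw [hE'.card, Nat.card_zpowers, B.ht] at this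
      omega
    have hxC : x ∈ centralizer ({t} : Set G) := mem_centralizer_singleton_iff.2 (hE'.commute hx htE).eq
    obtain ⟨q, hqt, hxq, hqa⟩ : ∃ q, t • q = q ∧ x • q = q ∧ q ≠ a := by
      by_contra h
      push Not at h
      refine hc x hx ⟨hxC, hE'.sq x hx, Set.ncard_eq_one.2 ⟨a, ?_⟩⟩
      ext q
      simp only [Set.mem_inter_iff, mem_fix_singleton, Set.mem_singleton_iff]
      exact ⟨fun ⟨h1, h2⟩ => h q h1 h2, fun e => e ▸ ⟨mem_fix_singleton.1 B.a_mem_fix, hE'.fix x hx⟩⟩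
    have hx2 : orderOf x = 2 := Invol.orderOf_eq_two_of (fun e => hxn (e ▸ one_mem _)) (hE'.sq x hx)
    have B' : Base G a q t x := ⟨B.toCtx.change hqa.symm, mem_pairStab.2 ⟨mem_fix_singleton.1 B.a_mem_fix, hqt⟩, B.ht,
      mem_pairStab.2 ⟨hE'.fix x hx, hxq⟩, hx2, fun e => hxn (e ▸ mem_zpowers t)⟩
    have hij' : (fix {t} : Set Ω).ncard = (fix {t, x} : Set Ω).ncard * (fix {t, x} : Set Ω).ncard := by
      obtain ⟨kk, hkk, hka, hkb⟩ := B.exists_centralizer_map hqa.symm (mem_fix_singleton.1 B.a_mem_fix) hqt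
      have hm : kk * x * kk⁻¹ ∈ {w | Partner G Ω t w ∧ (w • a = a ∧ w • b = b)} := by
        refine ⟨partner_conj hkk ⟨hx2, (hE'.commute htE hx), fun e => hxn (e ▸ mem_zpowers t), a, q, hqa.symm,
          ⟨mem_fix_singleton.1 B.a_mem_fix, hqt⟩, hE'.fix x hx, hxq⟩, ?_, ?_⟩
        · conv_lhs => rw [← hka]
          rw [conj_smul, hE'.fix x hx, hka]
        · rw [← hkb, conj_smul, hxq]
      rw [B.partner_pairStab] at hm
      have hkt : kk * t * kk⁻¹ = t := by rw [mem_centralizer_singleton_iff.1 hkk, mul_inv_cancel_right]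
      have hc' : (fix {t, kk * x * kk⁻¹} : Set Ω).ncard = (fix {t, x} : Set Ω).ncard := by
        conv_lhs => rw [← hkt]
        rw [fix_conj_pair, Set.ncard_image_of_injective _ (MulAction.injective kk)]
      rw [← hc']
      rcases hm with h | h
      · rw [h]; exact hij
      · rw [Set.mem_singleton_iff.1 h, fix_pair_mul]; exact hij
    obtain ⟨z', hz'⟩ := hcen B'
    obtain ⟨-, g, ⟨hg1, hg2⟩, hga⟩ := B'.lone_two hn hz' hij'
    have hK : E' ≤ centralizer ({t} : Set G) ⊓ normalizer (B'.toCtx.four : Set G) := fun w hw => mem_inf.2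
      ⟨mem_centralizer_singleton_iff.2 (hE'.commute hw htE).eq,
        B'.mem_normalizer_of_commute (hE'.commute hw htE) (hE'.commute hw hx)⟩
    exact hc g ((B'.eight_eq hz' hE' hK).2 g hg1 hga) hg2
  have hord : ∀ x ∈ E, x ≠ 1 → orderOf x = 2 := fun x hx h1 => Invol.orderOf_eq_two_of h1 (hE.sq x hx)
  refine false_seven hE.card (fun x => insert x {y | y ∈ E ∧ y ≠ 1 ∧ (fix {x, y} : Set Ω).ncard = 1}) fun x hx hx1 => ?_
  -- the structure of the class of any element
  have hstr : ∀ x ∈ E, x ≠ 1 → ∃ y ∈ E, y ≠ 1 ∧ y ≠ x ∧ (fix {x, y} : Set Ω).ncard = 1 ∧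
      {y | y ∈ E ∧ y ≠ 1 ∧ (fix {x, y} : Set Ω).ncard = 1} = {y, y * x} := by
    intro x hx hx1
    obtain ⟨k, hk, hkt⟩ := B.exists_stab_conj (hall x (hord x hx hx1)) (hE.fix x hx)
    have hka : k⁻¹ • a = a := by rw [inv_smul_eq_iff]; exact (mem_stabilizer_iff.1 hk).symm
    have hE' := hE.conj hka
    set E' := E.map (MulAut.conj k⁻¹).toMonoidHom with hE'def
    have htE : t ∈ E' := ⟨x, hx, by
      show k⁻¹ * x * k⁻¹⁻¹ = t
      rw [← hkt]; group⟩
    have hto : ∀ w, w ∈ E → k⁻¹ * w * k ∈ E' := fun w hw => ⟨w, hw, by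
      show k⁻¹ * w * k⁻¹⁻¹ = k⁻¹ * w * k
      rw [inv_inv]⟩
    obtain ⟨g, hgE, hg⟩ := hkey E' hE' htE
    have hga := hE'.fix g hgE
    obtain ⟨y, hy, hyg⟩ := hgE
    have hyg' : k⁻¹ * y * k = g := by rw [← hyg]; show _ = k⁻¹ * y * k⁻¹⁻¹; rw [inv_inv]
    have hfc : ∀ w : G, (fix {x, w} : Set Ω).ncard = ((fix {t} : Set Ω) ∩ fix {k⁻¹ * w * k}).ncard := fun w => by
      rw [fix_inter, ← Set.ncard_image_of_injective (fix {t, k⁻¹ * w * k} : Set Ω) (MulAction.injective k),
        ← fix_conj_pair, hkt, show k * (k⁻¹ * w * k) * k⁻¹ = w by group]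
    have hy1 : y ≠ 1 := fun e => by
      have h := hg.2.2
      have h2 : 2 ≤ (fix {t} : Set Ω).ncard := B.two_le_fix₂.trans B.fix₂_le
      rw [← hyg', e, mul_one, inv_mul_cancel, show (fix {(1 : G)} : Set Ω) = Set.univ by ext p; simp [fix],
        Set.inter_univ] at h
      omega
    have hiff : ∀ w, w ∈ E → ((w ≠ 1 ∧ (fix {x, w} : Set Ω).ncard = 1) ↔ (w = y ∨ w = y * x)) := by
      intro w hw
      have hyx : k⁻¹ * (y * x) * k = g * t := by rw [← hyg', ← hkt]; group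
      constructor
      · rintro ⟨-, hw1⟩
        have hm : k⁻¹ * w * k ∈ {g | g ∈ Lone G Ω t ∧ g • a = a} := by
          have hw' := hto w hw
          refine ⟨⟨mem_centralizer_singleton_iff.2 (hE'.commute hw' htE).eq, hE'.sq _ hw', ?_⟩, hE'.fix _ hw'⟩
          rw [← hfc]; exact hw1
        rw [hLeq g hg hga] at hm
        rcases hm with e | e
        · exact Or.inl (mul_left_cancel (mul_right_cancel (e.trans hyg'.symm)))
        · exact Or.inr (mul_left_cancel (mul_right_cancel ((Set.mem_singleton_iff.1 e).trans hyx.symm)))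
      · rintro (rfl | rfl)
        · exact ⟨hy1, by rw [hfc, hyg']; exact hg.2.2⟩
        · refine ⟨fun e => ?_, by rw [hfc, hyx]; exact (B.lone_mul_t hg hga).1.2.2⟩
          have hge : g * t = 1 := by rw [← hyx, e, mul_one, inv_mul_cancel]
          have h := (B.lone_mul_t hg hga).1.2.2
          have h2 : 2 ≤ (fix {t} : Set Ω).ncard := B.two_le_fix₂.trans B.fix₂_le
          rw [hge, show (fix {(1 : G)} : Set Ω) = Set.univ by ext p; simp [fix], Set.inter_univ] at h
          omega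
    refine ⟨y, hy, hy1, fun e => ?_, ((hiff y hy).2 (Or.inl rfl)).2, ?_⟩
    · have h := ((hiff y hy).2 (Or.inl rfl)).2
      rw [e, Set.pair_eq_singleton, B.fix_isT (hall x (hord x hx hx1))] at h
      have := B.two_le_fix₂.trans B.fix₂_le
      omega
    · ext w
      constructor
      · rintro ⟨hw, h1, h2⟩
        exact (hiff w hw).1 ⟨h1, h2⟩
      · rintro (e | e)
        · subst e; exact ⟨hy, (hiff _ hy).2 (Or.inl rfl)⟩
        · rw [Set.mem_singleton_iff.1 e]; exact ⟨mul_mem hy hx, (hiff _ (mul_mem hy hx)).2 (Or.inr rfl)⟩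
  obtain ⟨y, hy, hy1, hyx, hf, hset⟩ := hstr x hx hx1
  have hxy : Commute x y := hE.commute hx hy
  have hxyne : y * x ≠ 1 := fun e => hyx ((mul_eq_one_iff_eq_inv.1 e).trans (inv_eq_of_mul_eq_one_right (hE.sq x hx)))
  have hWall : ∀ w ∈ ({x, y, y * x} : Set G), w ∈ E ∧ w ≠ 1 ∧
      insert w {z | z ∈ E ∧ z ≠ 1 ∧ (fix {w, z} : Set Ω).ncard = 1} = ({x, y, y * x} : Set G) := by
    intro w hw
    have hcard3 : ({x, y, y * x} : Set G).ncard = 3 := by
      rw [Set.ncard_insert_of_notMem, Set.ncard_pair]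
      · exact fun e => hx1 (mul_eq_left.1 e.symm)
      · rintro (e | e)
        · exact hyx e.symm
        · exact hy1 (mul_eq_right.1 (Set.mem_singleton_iff.1 e).symm)
    have hwE : w ∈ E ∧ w ≠ 1 := by
      rcases hw with rfl | rfl | rfl
      exacts [⟨hx, hx1⟩, ⟨hy, hy1⟩, ⟨mul_mem hy hx, hxyne⟩]
    obtain ⟨y', hy', hy'1, hy'w, hf', hset'⟩ := hstr w hwE.1 hwE.2
    refine ⟨hwE.1, hwE.2, ?_⟩
    -- the class of `w` has three elements and contains `x, y, y x`
    rw [hset']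
    have hfxy : (fix {x, y * x} : Set Ω).ncard = 1 := by
      rw [← hxy.eq, fix_pair_mul]; exact hf
    have hfyy : (fix {y, y * x} : Set Ω).ncard = 1 := by
      rw [fix_pair_mul, Set.pair_comm]; exact hf
    have hsub : ({x, y, y * x} : Set G) ⊆ insert w ({y', y' * w} : Set G) := by
      rw [← hset']
      intro z hz
      rcases eq_or_ne z w with e | e
      · exact Or.inl e
      refine Or.inr ⟨?_, ?_, ?_⟩
      · rcases hz with rfl | rfl | rfl
        exacts [hx, hy, mul_mem hy hx]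
      · rcases hz with rfl | rfl | rfl
        exacts [hx1, hy1, hxyne]
      · rcases hz with rfl | rfl | rfl <;> rcases hw with rfl | rfl | rfl <;>
          first
            | exact absurd rfl e
            | exact hf
            | exact hfxy
            | exact hfyy
            | (rw [Set.pair_comm]; first | exact hf | exact hfxy | exact hfyy)
    refine (Set.eq_of_subset_of_ncard_le hsub ?_).symm
    rw [hcard3]
    refine (Set.ncard_insert_le _ _).trans ?_
    have := Set.ncard_insert_le y' ({y' * w} : Set G)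
    rw [Set.ncard_singleton] at this
    omega
  have hWx : insert x {z | z ∈ E ∧ z ≠ 1 ∧ (fix {x, z} : Set Ω).ncard = 1} = ({x, y, y * x} : Set G) := by rw [hset]
  refine ⟨Or.inl rfl, ?_, fun w hw => ?_⟩
  · show (insert x {z | z ∈ E ∧ z ≠ 1 ∧ (fix {x, z} : Set Ω).ncard = 1}).ncard = 3
    rw [hWx, Set.ncard_insert_of_notMem, Set.ncard_pair]
    · exact fun e => hx1 (mul_eq_left.1 e.symm)
    · rintro (e | e)
      · exact hyx e.symm
      · exact hy1 (mul_eq_right.1 (Set.mem_singleton_iff.1 e).symm)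
  · have hw' : w ∈ ({x, y, y * x} : Set G) := hWx ▸ hw
    obtain ⟨h1, h2, h3⟩ := hWall w hw'
    exact ⟨h1, h2, h3.trans hWx.symm⟩

end Base

end Cfsg.Lib.A4Stab
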