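import Cfsg.Agent.Lib.A4Stab.Point
import Cfsg.Agent.Lib.A4Stab.Arith

/-!
# Even degree
-/

set_option autoImplicit false
set_option linter.style.haveILetI false
set_option linter.unusedSectionVars false

namespace Cfsg.Lib.A4Stab

open Subgroup MulAction

universe u w

variable {G : Type u} [Group G] [Finite G] {Ω : Type w} [Finite Ω] [MulAction G Ω] [FaithfulSMul G Ω]

namespace Base

variable {a b : Ω} {t v : G}

/-- In even degree every involution of a point stabilizer fixes two points. -/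
theorem isT_of_even (B : Base G a b t v) (hn : Nat.card Ω % 2 = 0) {g : G} (hga : g ∈ stabilizer G a)
    (hg : orderOf g = 2) : IsT G Ω g := by
  have h := card_fix_mod_two (Ω := Ω) hg
  rw [hn] at h
  have ha : a ∈ (fix {g} : Set Ω) := mem_fix_singleton.2 hga
  have hpos : 0 < (fix {g} : Set Ω).ncard := (Set.ncard_pos (Set.toFinite _)).2 ⟨a, ha⟩
  obtain ⟨p, q, hp, hq, hne⟩ := (Set.one_lt_ncard_iff (Set.toFinite _)).1
    (show 1 < (fix {g} : Set Ω).ncard by omega)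
  exact ⟨hg, p, q, hne, mem_fix_singleton.1 hp, mem_fix_singleton.1 hq⟩

theorem not_eight_dvd_of_even (B : Base G a b t v) (hn : Nat.card Ω % 2 = 0) :
    ¬ 8 ∣ Nat.card (stabilizer G a) := by
  obtain ⟨-, h2, -⟩ := B.cards
  have := B.fix_lt
  rw [h2]
  omega

theorem four_subgroupOf_klein (B : Base G a b t v) : IsKleinFour ↥(B.toCtx.four.subgroupOf (stabilizer G a)) := by
  haveI := B.toCtx.isKleinFour_four
  have e := subgroupOfEquivOfLe (fun x hx => hx.1.1 : B.toCtx.four ≤ stabilizer G a)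
  haveI : Nontrivial ↥(B.toCtx.four.subgroupOf (stabilizer G a)) := Finite.one_lt_card_iff_nontrivial.1
    (by rw [Nat.card_congr e.toEquiv, B.toCtx.card_four]; norm_num)
  exact ⟨by rw [Nat.card_congr e.toEquiv, B.toCtx.card_four], by
    rw [Monoid.exponent_eq_of_mulEquiv e, IsKleinFour.exponent_two]⟩

theorem twoCycDih_of_even (B : Base G a b t v) (hn : Nat.card Ω % 2 = 0) : GW.TwoCycDih ↥(stabilizer G a) := by
  haveI : Fact (Nat.Prime 2) := ⟨Nat.prime_two⟩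
  haveI := B.four_subgroupOf_klein
  have h8 := B.not_eight_dvd_of_even hn
  obtain ⟨-, h2, -⟩ := B.cards
  set P := B.toCtx.four.subgroupOf (stabilizer G a)
  have hP4 : Nat.card P = 4 := IsKleinFour.card_four
  have hfac : Nat.card P = 2 ^ (Nat.card (stabilizer G a)).factorization 2 := by
    rw [hP4, show 4 = 2 ^ 2 from rfl]
    congr 1
    refine le_antisymm ?_ ?_
    · rw [← Nat.Prime.pow_dvd_iff_le_factorization Nat.prime_two Nat.card_pos.ne', h2]
      exact dvd_mul_of_dvd_left (by norm_num) _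
    · by_contra hlt
      refine h8 ?_
      rw [show 8 = 2 ^ 3 from rfl, Nat.Prime.pow_dvd_iff_le_factorization Nat.prime_two Nat.card_pos.ne']
      omega
  let S : Sylow 2 (stabilizer G a) := Sylow.ofCard P hfac
  exact GW.TwoCycDih.of_dihedral_sylow S le_rfl (IsKleinFour.nonempty_mulEquiv (G₁ := ↥P))

theorem card_pair_even (B : Base G a b t v) (hn : Nat.card Ω % 2 = 0) :
    Nat.card ↥(centralizer ({t, v} : Set G) ⊓ stabilizer G a) = 4 * ((fix {t, v} : Set Ω).ncard - 1) := by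
  rcases B.card_pair_cases with h | h
  · exact h
  · exfalso
    refine B.not_eight_dvd_of_even hn ?_
    obtain ⟨k, hk⟩ := B.four_dvd_pair
    obtain ⟨-, -, -, -, -, -, h8⟩ := B.cards
    refine dvd_trans ?_ (card_dvd_of_le
      (inf_le_right : centralizer ({t} : Set G) ⊓ normalizer (B.toCtx.four : Set G) ⊓ stabilizer G a ≤ stabilizer G a))
    rw [h8, ← h, hk]
    exact ⟨k, by ring⟩

/-- The possibilities in even degree. -/
theorem even_cases (B : Base G a b t v) (hn : Nat.card Ω % 2 = 0) :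
    (Nat.card Ω = 6) ∨
    (Nat.card Ω = 16 ∧ (fix {t} : Set Ω).ncard = 4 ∧ (fix {t, v} : Set Ω).ncard = 4 ∧
      ∃ z, CentralSwap G a b z ∧ ¬ IsT G Ω z) ∨
    (Nat.card Ω = 28 ∧ (fix {t} : Set Ω).ncard = 4 ∧ {g | IsT G Ω g ∧ Swaps g a b}.ncard = 6) ∨
    (Nat.card Ω = 56 ∧ (fix {t, v} : Set Ω).ncard = 12) ∨
    (Nat.card Ω = 1716 ∧ (fix {t, v} : Set Ω).ncard = 6) := by
  have hi2 := card_fix_mod_two (Ω := Ω) B.ht
  rw [hn] at hi2
  have hall : ∀ g ∈ stabilizer G a, orderOf g = 2 → IsT G Ω g := fun g hg ho => B.isT_of_even hn hg ho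
  have hj2 := B.two_le_fix₂
  have hji := B.fix₂_le
  have hlt := B.fix_lt
  rcases B.local_stab (B.twoCycDih_of_even hn) hall with ⟨μ, s, D, hs, hD, hμ, h5, h6, h7⟩ | ⟨h5, -⟩
  swap
  · omega
  rw [B.card_pair_even hn] at h5
  have hcases : (fix {t} : Set Ω).ncard = (fix {t, v} : Set Ω).ncard ∨
      (fix {t} : Set Ω).ncard = (fix {t, v} : Set Ω).ncard * (fix {t, v} : Set Ω).ncard ∨
      (fix {t} : Set Ω).ncard + (fix {t, v} : Set Ω).ncard =
        2 * ((fix {t, v} : Set Ω).ncard * (fix {t, v} : Set Ω).ncard) := by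
    rcases B.fix_cases with h | h | ⟨h, -⟩
    exacts [Or.inl h, Or.inr (Or.inl h), Or.inr (Or.inr h)]
  have hβ : ({g | IsT G Ω g ∧ Swaps g a b}.ncard = 6) ∨ ∃ z, CentralSwap G a b z ∧
      (({g | IsT G Ω g ∧ Swaps g a b}.ncard = 4) ∨ ({g | IsT G Ω g ∧ Swaps g a b}.ncard = 1) ∨
        ({g | IsT G Ω g ∧ Swaps g a b}.ncard = 3 ∧ ¬ IsT G Ω z)) := by
    rcases B.dichotomy with ⟨z, hz⟩ | ⟨u, hu⟩
    · refine Or.inr ⟨z, hz, ?_⟩
      rcases B.central_beta hz with ⟨-, -, h⟩ | ⟨-, -, h⟩ | ⟨hn', -, h⟩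
      exacts [Or.inl h, Or.inr (Or.inl h), Or.inr (Or.inr ⟨h, hn'⟩)]
    · exact Or.inl (B.outer_beta hu)
  have hcount := B.count_eq
  have hb' : {g | IsT G Ω g ∧ Swaps g a b}.ncard = 1 ∨ {g | IsT G Ω g ∧ Swaps g a b}.ncard = 3 ∨
      {g | IsT G Ω g ∧ Swaps g a b}.ncard = 4 ∨ {g | IsT G Ω g ∧ Swaps g a b}.ncard = 6 := by
    rcases hβ with h | ⟨-, -, h | h | ⟨h, -⟩⟩ <;> omega
  rcases arith_even hμ hs hD hb' (show (fix {t, v} : Set Ω).ncard = D + 1 by omega)
    (show (fix {t} : Set Ω).ncard = μ * s * D + 1 by omega) hcases h7 with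
    ⟨hij, -, -, ⟨hb, hj⟩ | ⟨hb, hj⟩ | ⟨hb, hj⟩⟩ | ⟨hb, hj, hi⟩ | ⟨hb, hj, hi⟩
  · rw [hb, hij, hj] at hcount
    exact Or.inr (Or.inr (Or.inr (Or.inl ⟨by omega, hj⟩)))
  · rw [hb, hij, hj] at hcount
    refine Or.inr (Or.inl ⟨by omega, by omega, hj, ?_⟩)
    rcases hβ with h | ⟨z, hz, h | h | ⟨-, h⟩⟩
    · omega
    · omega
    · omega
    · exact ⟨z, hz, h⟩
  · rw [hb, hij, hj] at hcount
    exact Or.inl (by omega)
  · rw [hb, hi] at hcount
    exact Or.inr (Or.inr (Or.inr (Or.inr ⟨by omega, hj⟩)))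
  · rw [hb, hi] at hcount
    exact Or.inr (Or.inr (Or.inl ⟨by omega, hi, hb⟩))

end Base

end Cfsg.Lib.A4Stab
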