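import Cfsg.Agent.Lib.A4Stab.Even
import Cfsg.Agent.Lib.Fusion.Abelian

/-!
# The exceptional degrees `28`, `56`, `1716`
-/

set_option autoImplicit false
set_option linter.style.haveILetI false
set_option linter.unusedSectionVars false

namespace Cfsg.Lib.A4Stab

open Subgroup MulAction

universe u w

variable {G : Type u} [Group G] [Finite G] {Ω : Type w} [Finite Ω] [MulAction G Ω] [FaithfulSMul G Ω]

/-- A sharply doubly transitive group of degree `p + 1` needs `p + 1` to be a prime power. -/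
theorem false_sharply {α : Type w} [Finite α] (Q : Subgroup (Equiv.Perm α)) {p r₁ r₂ : ℕ} (hp : p.Prime)
    (hr₁ : r₁.Prime) (hr₂ : r₂.Prime) (hne : r₁ ≠ r₂) (h1p : r₁ ≠ p) (h2p : r₂ ≠ p)
    (hd₁ : r₁ ∣ p + 1) (hd₂ : r₂ ∣ p + 1) (hα : Nat.card α = p + 1)
    (h2 : ∀ x y x' y' : α, x ≠ y → x' ≠ y' → ∃ g ∈ Q, g x = x' ∧ g y = y')
    (hfix : ∀ g ∈ Q, ∀ x y : α, x ≠ y → g x = x → g y = y → g = 1) : False := by
  classical
  haveI : Finite (Equiv.Perm α) := inferInstance
  haveI : Nontrivial α := Finite.one_lt_card_iff_nontrivial.1 (by rw [hα]; have := hp.two_le; omega)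
  obtain ⟨a, b, hab⟩ := exists_pair_ne α
  obtain ⟨hQ, hQa⟩ := card_of_pairs hab Q Set.univ (Set.mem_univ a) (Set.mem_univ b)
    (fun _ _ _ _ => Set.mem_univ _) fun x _ y _ hxy => h2 x y a b hxy hab
  have hbot : Q ⊓ pairStab (Equiv.Perm α) a b = ⊥ := le_bot_iff.1 fun g hg =>
    mem_bot.2 (hfix g hg.1 a b hab hg.2.1 hg.2.2)
  rw [hbot, Subgroup.card_bot, one_mul, Set.ncard_univ, hα, Nat.add_sub_cancel] at hQ hQa
  obtain ⟨σ, hσ⟩ := exists_prime_orderOf_dvd_card' (G := ↥(Q ⊓ stabilizer (Equiv.Perm α) a))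
    (hp := ⟨hp⟩) p (by rw [hQa])
  have hσQ : (σ : Equiv.Perm α) ∈ Q := (mem_inf.1 σ.2).1
  have hσa : (σ : Equiv.Perm α) a = a := (mem_inf.1 σ.2).2
  have hσ1 : (σ : Equiv.Perm α) ≠ 1 := fun h => by
    rw [Subtype.ext h (a2 := (1 : ↥(Q ⊓ stabilizer (Equiv.Perm α) a))), orderOf_one] at hσ
    exact hp.ne_one hσ.symm
  -- elements of order `rᵢ` move every point
  have hfree : ∀ r : ℕ, r.Prime → r ≠ p → ∀ y ∈ Q, orderOf y = r → ∀ c : α, y c ≠ c := by
    intro r hr hrp y hy hyo c hc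
    obtain ⟨d, hd⟩ : ∃ d : α, d ≠ c := exists_ne c
    obtain ⟨g, hg, hga, -⟩ := h2 c d a b hd.symm hab
    have hy' : g * y * g⁻¹ ∈ Q ⊓ stabilizer (Equiv.Perm α) a := mem_inf.2
      ⟨mul_mem (mul_mem hg hy) (inv_mem hg), mem_stabilizer_iff.2 (by
        show g (y (g⁻¹ a)) = a
        rw [← hga, Equiv.Perm.inv_def, Equiv.symm_apply_apply, hc])⟩
    have := Subgroup.orderOf_dvd_natCard _ hy'
    rw [Invol.orderOf_conj_eq, hyo, hQa] at this
    exact hrp ((Nat.prime_dvd_prime_iff_eq hr hp).1 this)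
  obtain ⟨y₁, hy₁⟩ := exists_prime_orderOf_dvd_card' (G := Q) (hp := ⟨hr₁⟩) r₁
    (by rw [hQ]; exact hd₁.mul_right p)
  obtain ⟨y₂, hy₂⟩ := exists_prime_orderOf_dvd_card' (G := Q) (hp := ⟨hr₂⟩) r₂
    (by rw [hQ]; exact hd₂.mul_right p)
  rw [← Subgroup.orderOf_coe] at hy₁ hy₂
  have hf₁ := hfree r₁ hr₁ h1p _ y₁.2 hy₁
  have hf₂ := hfree r₂ hr₂ h2p _ y₂.2 hy₂
  -- conjugates of `y₁` by `σ` reach every point
  obtain ⟨k, hk⟩ : ∃ k : Fin p, ((σ : Equiv.Perm α) ^ (k : ℕ)) ((y₁ : Equiv.Perm α) a) = (y₂ : Equiv.Perm α) a := by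
    let f : Fin p → {x : α // x ≠ a} := fun k => ⟨((σ : Equiv.Perm α) ^ (k : ℕ)) ((y₁ : Equiv.Perm α) a), fun h =>
      hf₁ a (((σ : Equiv.Perm α) ^ (k : ℕ)).injective (h.trans
        (Equiv.Perm.pow_apply_eq_self_of_apply_eq_self hσa k).symm))⟩
    have hf : Function.Injective f := by
      intro k l hkl
      have h := congrArg Subtype.val hkl
      by_contra hne'
      have hmem : ∀ m : ℕ, ((σ : Equiv.Perm α) ^ m) ((y₁ : Equiv.Perm α) a) = (y₁ : Equiv.Perm α) a → p ∣ m := by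
        intro m hm
        have := hfix _ (pow_mem hσQ m) a _ (hf₁ a).symm (Equiv.Perm.pow_apply_eq_self_of_apply_eq_self hσa m) hm
        have h1 : orderOf (σ : Equiv.Perm α) ∣ m := orderOf_dvd_of_pow_eq_one this
        rwa [Subgroup.orderOf_coe, hσ] at h1
      rcases lt_or_gt_of_ne (fun e => hne' (Fin.ext e) : (k : ℕ) ≠ l) with hlt | hlt
      · have h1 : ((σ : Equiv.Perm α) ^ ((l : ℕ) - k)) ((y₁ : Equiv.Perm α) a) = (y₁ : Equiv.Perm α) a := by
          refine ((σ : Equiv.Perm α) ^ (k : ℕ)).injective ?_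
          rw [← Equiv.Perm.mul_apply, ← pow_add, Nat.add_sub_cancel' hlt.le]
          exact h.symm
        have := Nat.le_of_dvd (by omega) (hmem _ h1)
        omega
      · have h1 : ((σ : Equiv.Perm α) ^ ((k : ℕ) - l)) ((y₁ : Equiv.Perm α) a) = (y₁ : Equiv.Perm α) a := by
          refine ((σ : Equiv.Perm α) ^ (l : ℕ)).injective ?_
          rw [← Equiv.Perm.mul_apply, ← pow_add, Nat.add_sub_cancel' hlt.le]
          exact h
        have := Nat.le_of_dvd (by omega) (hmem _ h1)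
        omega
    have hcard : Nat.card {x : α // x ≠ a} = p := by
      letI := Fintype.ofFinite α
      rw [Nat.card_eq_fintype_card, Fintype.card_subtype_compl, Fintype.card_subtype_eq, ← Nat.card_eq_fintype_card,
        hα, Nat.add_sub_cancel]
    obtain ⟨k, hk⟩ := ((Nat.bijective_iff_injective_and_card f).2 ⟨hf, by rw [hcard, Nat.card_fin]⟩).2
      ⟨(y₂ : Equiv.Perm α) a, hf₂ a⟩
    exact ⟨k, congrArg Subtype.val hk⟩
  set y : Equiv.Perm α := (σ : Equiv.Perm α) ^ (k : ℕ) * y₁ * ((σ : Equiv.Perm α) ^ (k : ℕ))⁻¹ with hy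
  have hyQ : y ∈ Q := mul_mem (mul_mem (pow_mem hσQ _) y₁.2) (inv_mem (pow_mem hσQ _))
  have hyo : orderOf y = r₁ := by rw [hy, Invol.orderOf_conj_eq, hy₁]
  have hya : y a = (y₂ : Equiv.Perm α) a := by
    rw [hy, Equiv.Perm.mul_apply, Equiv.Perm.mul_apply, Equiv.Perm.inv_eq_iff_eq.2
      (Equiv.Perm.pow_apply_eq_self_of_apply_eq_self hσa k).symm, hk]
  have hyf := hfree r₁ hr₁ h1p y hyQ hyo
  -- the elements mapping `a` to `y a`
  set c := y a with hc
  have hca : c ≠ a := hyf a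
  let g : {x : α // x ≠ a ∧ x ≠ c} → ↥(Q ⊓ stabilizer (Equiv.Perm α) a) := fun x =>
    ⟨y⁻¹ * (h2 a x.1 c x.1 x.2.1.symm x.2.2.symm).choose, mem_inf.2
      ⟨mul_mem (inv_mem hyQ) (h2 a x.1 c x.1 x.2.1.symm x.2.2.symm).choose_spec.1, mem_stabilizer_iff.2 (by
        show y⁻¹ ((h2 a x.1 c x.1 x.2.1.symm x.2.2.symm).choose a) = a
        rw [(h2 a x.1 c x.1 x.2.1.symm x.2.2.symm).choose_spec.2.1, Equiv.Perm.inv_eq_iff_eq])⟩⟩
  have hg1 : ∀ x, g x ≠ 1 := fun x h => by
    have h' : (h2 a x.1 c x.1 x.2.1.symm x.2.2.symm).choose = y := by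
      have := congrArg Subtype.val h
      exact (inv_mul_eq_one.1 this).symm
    exact hyf x.1 (h' ▸ (h2 a x.1 c x.1 x.2.1.symm x.2.2.symm).choose_spec.2.2)
  have hg2 : ∀ x, g x ≠ ⟨y⁻¹ * y₂, mem_inf.2 ⟨mul_mem (inv_mem hyQ) y₂.2, mem_stabilizer_iff.2 (by
      show y⁻¹ ((y₂ : Equiv.Perm α) a) = a
      rw [← hya, Equiv.Perm.inv_eq_iff_eq])⟩⟩ := fun x h => by
    have h' : (h2 a x.1 c x.1 x.2.1.symm x.2.2.symm).choose = (y₂ : Equiv.Perm α) :=
      mul_left_cancel (congrArg Subtype.val h)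
    exact hf₂ x.1 (h' ▸ (h2 a x.1 c x.1 x.2.1.symm x.2.2.symm).choose_spec.2.2)
  have hginj : Function.Injective g := by
    intro x z hxz
    have h' := mul_left_cancel (congrArg Subtype.val hxz)
    by_contra hne'
    have e1 := (h2 a x.1 c x.1 x.2.1.symm x.2.2.symm).choose_spec
    have e2 := (h2 a z.1 c z.1 z.2.1.symm z.2.2.symm).choose_spec
    have h1 := hfix _ e1.1 x.1 z.1 (fun e => hne' (Subtype.ext e)) e1.2.2 (by rw [h']; exact e2.2.2)
    have := e1.2.1
    rw [h1] at this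
    exact hca this.symm
  -- too many elements
  have hne2 : (1 : ↥(Q ⊓ stabilizer (Equiv.Perm α) a)) ≠ ⟨y⁻¹ * y₂, mem_inf.2 ⟨mul_mem (inv_mem hyQ) y₂.2,
      mem_stabilizer_iff.2 (by
        show y⁻¹ ((y₂ : Equiv.Perm α) a) = a
        rw [← hya, Equiv.Perm.inv_eq_iff_eq])⟩⟩ := fun h => by
    have : y = (y₂ : Equiv.Perm α) := inv_mul_eq_one.1 (congrArg Subtype.val h).symm
    rw [this, hy₂] at hyo
    exact hne hyo.symm
  letI := Fintype.ofFinite α
  letI := Fintype.ofFinite ↥(Q ⊓ stabilizer (Equiv.Perm α) a)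
  have hsub : (Finset.univ.image g) ⊆ ((Finset.univ.erase 1).erase _) := fun z hz => by
    obtain ⟨x, -, rfl⟩ := Finset.mem_image.1 hz
    exact Finset.mem_erase.2 ⟨hg2 x, Finset.mem_erase.2 ⟨hg1 x, Finset.mem_univ _⟩⟩
  have h3 := Finset.card_le_card hsub
  rw [Finset.card_image_of_injective _ hginj, Finset.card_erase_of_mem (Finset.mem_erase.2 ⟨hne2.symm, Finset.mem_univ _⟩),
    Finset.card_erase_of_mem (Finset.mem_univ _), Finset.card_univ, Finset.card_univ, ← Nat.card_eq_fintype_card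
      (α := ↥(Q ⊓ stabilizer (Equiv.Perm α) a)), hQa] at h3
  have hx : Fintype.card {x : α // x ≠ a ∧ x ≠ c} = p - 1 := by
    have hα' : Fintype.card α = p + 1 := by rw [← Nat.card_eq_fintype_card, hα]
    rw [Fintype.card_subtype, show (Finset.univ.filter fun x => x ≠ a ∧ x ≠ c) = (Finset.univ.erase a).erase c by
      ext x; simp [and_comm], Finset.card_erase_of_mem (by simp [hca]), Finset.card_erase_of_mem (Finset.mem_univ _),
      Finset.card_univ, hα']
    omega
  rw [hx] at h3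
  have := hp.two_le
  omega

/-- A normal subgroup other than the trivial one is transitive. -/
theorem Base.transitive_of_normal {a b : Ω} {t v : G} (B : Base G a b t v) (M : Subgroup G) [M.Normal] (hM : M ≠ ⊥)
    (p : Ω) : ∃ m ∈ M, m • a = p := by
  obtain ⟨m, hm, hma⟩ : ∃ m ∈ M, m • a ≠ a := by
    by_contra hc
    push Not at hc
    refine hM (eq_bot_iff.2 fun m hm => mem_bot.2 (eq_one_of_fix_univ (Ω := Ω) fun q => ?_))
    rcases eq_or_ne q a with rfl | hq
    · exact hc m hm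
    obtain ⟨g, hga, -⟩ := B.toCtx.two hq.symm hq
    have h := hc _ ((inferInstance : M.Normal).conj_mem m hm g⁻¹)
    rw [inv_inv, mul_smul, mul_smul, hga, inv_smul_eq_iff, hga] at h
    exact h
  rcases eq_or_ne p a with rfl | hp
  · exact ⟨1, one_mem _, one_smul G _⟩
  obtain ⟨g, hga, hgp⟩ := B.toCtx.two (Ne.symm hma) hp.symm
  refine ⟨g * m * g⁻¹, (inferInstance : M.Normal).conj_mem m hm g, ?_⟩
  rw [← hga, conj_smul, hgp]

namespace Base

variable {a b : Ω} {t v : G}

/-- The degree of the action on the fixed points of the four group is not 6 or 12. -/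
theorem false_fix₂ (B : Base G a b t v) {p r₁ r₂ : ℕ} (hp : p.Prime) (hp3 : p % 3 = 2) (hp5 : 3 < p)
    (hr₁ : r₁.Prime) (hr₂ : r₂.Prime) (hne : r₁ ≠ r₂) (h1p : r₁ ≠ p) (h2p : r₂ ≠ p)
    (hd₁ : r₁ ∣ p + 1) (hd₂ : r₂ ∣ p + 1) (hj : (fix {t, v} : Set Ω).ncard = p + 1) : False := by
  classical
  haveI : Fact (Nat.Prime 3) := ⟨Nat.prime_three⟩
  obtain ⟨-, -, -, -, -, h6, -⟩ := B.cards
  rw [hj, Nat.add_sub_cancel] at h6
  set N := normalizer (B.toCtx.four : Set G) ⊓ stabilizer G a with hN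
  haveI : (B.toCtx.four.subgroupOf N).Normal := normal_subgroupOf_of_le_normalizer inf_le_left
  set π := QuotientGroup.mk' (B.toCtx.four.subgroupOf N)
  have hVN : B.toCtx.four ≤ N := le_inf le_normalizer fun x hx => hx.1.1
  have hHN : pairStab G a b ≤ N := le_inf B.pairStab_le_normalizer inf_le_left
  have hQc : Nat.card (↥N ⧸ B.toCtx.four.subgroupOf N) = 3 * p := by
    have := card_eq_card_quotient_mul_card_subgroup (B.toCtx.four.subgroupOf N)
    rw [Nat.card_congr (subgroupOfEquivOfLe hVN).toEquiv, B.toCtx.card_four, h6] at this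
    omega
  set H' := (pairStab G a b).subgroupOf N
  have hVH : B.toCtx.four.subgroupOf N ≤ H' := fun x hx => B.toCtx.four_le hx
  have hH3 : Nat.card (H'.map π) = 3 := by
    have := card_eq_card_map_mul π H'
    rw [QuotientGroup.ker_mk', inf_eq_right.2 hVH, Nat.card_congr (subgroupOfEquivOfLe hVN).toEquiv,
      B.toCtx.card_four, Nat.card_congr (subgroupOfEquivOfLe hHN).toEquiv, B.toCtx.card_pairStab] at this
    omega
  have hfac : (Nat.card (↥N ⧸ B.toCtx.four.subgroupOf N)).factorization 3 = 1 := by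
    rw [hQc, Nat.factorization_mul (by norm_num) hp.ne_zero, Finsupp.add_apply,
      Nat.Prime.factorization_self Nat.prime_three,
      Nat.factorization_eq_zero_of_not_dvd fun h => by have := (Nat.prime_dvd_prime_iff_eq Nat.prime_three hp).1 h; omega]
  let S : Sylow 3 (↥N ⧸ B.toCtx.four.subgroupOf N) := Sylow.ofCard (H'.map π) (by rw [hH3, hfac, pow_one])
  have hS : Subsingleton (Sylow 3 (↥N ⧸ B.toCtx.four.subgroupOf N)) := by
    have h1 := card_sylow_modEq_one 3 (↥N ⧸ B.toCtx.four.subgroupOf N)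
    have h2 := S.card_dvd_index
    have h3 : (S : Subgroup (↥N ⧸ B.toCtx.four.subgroupOf N)).index = p := by
      have := (S : Subgroup (↥N ⧸ B.toCtx.four.subgroupOf N)).card_mul_index
      rw [show Nat.card (S : Subgroup (↥N ⧸ B.toCtx.four.subgroupOf N)) = 3 from hH3, hQc] at this
      omega
    rw [h3] at h2
    rcases (Nat.dvd_prime hp).1 h2 with e | e
    · exact (Nat.card_eq_one_iff_unique.1 e).1
    · rw [e, Nat.ModEq] at h1; omega
  haveI hSn : (H'.map π).Normal := Sylow.normal_of_subsingleton S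
  have hH'n : H'.Normal := by
    have e : (H'.map π).comap π = H' := comap_map_eq_self (by rw [QuotientGroup.ker_mk']; exact hVH)
    rw [← e]
    exact Normal.comap hSn π
  -- the pair stabilizer fixes the whole set
  have hfixF : ∀ q ∈ (fix {t, v} : Set Ω), ∀ h ∈ pairStab G a b, h • q = q := by
    intro q hq h hh
    rcases eq_or_ne q a with rfl | hqa
    · exact hh.1
    obtain ⟨g, hg, hga, hgb⟩ := B.exists_normalizer_map (Ne.symm hqa) B.a_mem_fix₂ hq
    have hgN : g ∈ N := mem_inf.2 ⟨(mem_inf.1 hg).2, mem_stabilizer_iff.2 hga⟩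
    have h2 : g * h * g⁻¹ ∈ pairStab G a b := mem_subgroupOf.1 (hH'n.conj_mem ⟨h, hHN hh⟩ (mem_subgroupOf.2 hh) ⟨g, hgN⟩)
    have h3 := (mem_pairStab.1 h2).2
    rw [← hgb, conj_smul] at h3
    exact MulAction.injective g h3
  have hpair : ∀ q q' : Ω, q ∈ (fix {t, v} : Set Ω) → q' ∈ (fix {t, v} : Set Ω) → q ≠ q' →
      pairStab G q q' = pairStab G a b := fun q q' hq hq' hne' => by
    refine (eq_of_le_of_card_ge (fun h hh => mem_pairStab.2 ⟨hfixF q hq h hh, hfixF q' hq' h hh⟩) ?_).symm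
    rw [B.toCtx.card_pairStab, (B.toCtx.change hne').card_pairStab]
  -- the induced sharply transitive group
  let K := normalizer (B.toCtx.four : Set G)
  letI act : MulAction K ↥(fix {t, v} : Set Ω) :=
    { smul := fun k q => ⟨(k : G) • (q : Ω), B.fix_smul_normalizer k.2 q.2⟩
      one_smul := fun q => Subtype.ext (one_smul G (q : Ω))
      mul_smul := fun k l q => Subtype.ext (mul_smul (k : G) (l : G) (q : Ω)) }
  let φ := MulAction.toPermHom K ↥(fix {t, v} : Set Ω)
  refine false_sharply φ.range hp hr₁ hr₂ hne h1p h2p hd₁ hd₂ (by rw [Nat.card_coe_set_eq, hj]) ?_ ?_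
  · intro x y x' y' hxy hxy'
    obtain ⟨g, hg, hga, hgb⟩ := B.exists_normalizer_map (fun e => hxy (Subtype.ext e)) x.2 y.2
    obtain ⟨g', hg', hga', hgb'⟩ := B.exists_normalizer_map (fun e => hxy' (Subtype.ext e)) x'.2 y'.2
    refine ⟨φ ⟨g'⁻¹ * g, mul_mem (inv_mem (mem_inf.1 hg').2) (mem_inf.1 hg).2⟩, ⟨_, rfl⟩, Subtype.ext ?_, Subtype.ext ?_⟩
    · show (g'⁻¹ * g) • (x : Ω) = x'
      rw [mul_smul, hga, inv_smul_eq_iff, hga']
    · show (g'⁻¹ * g) • (y : Ω) = y'
      rw [mul_smul, hgb, inv_smul_eq_iff, hgb']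
  · rintro _ ⟨k, rfl⟩ x y hxy hx hy
    have hk : (k : G) ∈ pairStab G a b := hpair x y x.2 y.2 (fun e => hxy (Subtype.ext e)) ▸
      mem_pairStab.2 ⟨congrArg Subtype.val hx, congrArg Subtype.val hy⟩
    refine Equiv.ext fun q => Subtype.ext ?_
    show (k : G) • (q : Ω) = q
    exact hfixF q q.2 k hk

/-- The degree is not 28. -/
theorem false_twentyEight (B : Base G a b t v) (hn : Nat.card Ω = 28) (hi : (fix {t} : Set Ω).ncard = 4)
    (hβ : {g | IsT G Ω g ∧ Swaps g a b}.ncard = 6) : False := by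
  classical
  haveI : Fact (Nat.Prime 7) := ⟨by norm_num⟩
  haveI : Fact (Nat.Prime 3) := ⟨Nat.prime_three⟩
  obtain ⟨hG, -⟩ := B.cards
  rw [hn] at hG
  norm_num at hG
  -- all involutions fix four points
  have hinv : ∀ g : G, orderOf g = 2 → IsT G Ω g := by
    intro g hg
    obtain ⟨p, hp⟩ : ∃ p : Ω, g • p ≠ p := by
      by_contra hc
      push Not at hc
      exact Invol.ne_one hg (eq_one_of_fix_univ hc)
    obtain ⟨k, hka, hkb⟩ := B.toCtx.two hp.symm B.toCtx.ne
    have hs : Swaps (k * g * k⁻¹) a b := ⟨by rw [← hka, conj_smul, hkb], by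
      rw [← hkb, conj_smul, smul_smul_of_sq (Invol.inv_mul_self hg), hka]⟩
    rcases B.dichotomy with ⟨z, hz⟩ | ⟨u, hu⟩
    · exfalso
      rcases B.central_beta hz with ⟨-, -, h⟩ | ⟨-, -, h⟩ | ⟨-, -, h⟩ <;> omega
    · have := (B.outer_isT hu (by rw [Invol.orderOf_conj_eq, hg]) hs).conj k⁻¹
      rwa [show k⁻¹ * (k * g * k⁻¹) * k⁻¹⁻¹ = g by group] at this
  obtain ⟨P⟩ : Nonempty (Sylow 7 G) := inferInstance
  have hP : Nat.card (P : Subgroup G) = 7 := by
    obtain ⟨m, hm⟩ := IsPGroup.iff_card.1 P.2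
    have h1 : 7 ^ 1 ∣ Nat.card (P : Subgroup G) := P.pow_dvd_card_of_pow_dvd_card (by rw [hG]; norm_num)
    have h2 : 7 ^ m ∣ 9072 := hG ▸ hm ▸ card_subgroup_dvd_card _
    rw [hm, Nat.pow_dvd_pow_iff_le_right (by norm_num)] at h1
    rw [hm]
    rcases Nat.lt_or_ge m 2 with h | h
    · rw [show m = 1 by omega, pow_one]
    · exact absurd ((pow_dvd_pow 7 h).trans h2) (by norm_num)
  haveI : Fact (Nat.card (P : Subgroup G)).Prime := ⟨by rw [hP]; norm_num⟩
  have hfree : ∀ σ ∈ (P : Subgroup G), σ ≠ 1 → ∀ p : Ω, σ • p ≠ p := by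
    intro σ hσ hσ1 p hp
    obtain ⟨q, hq⟩ : ∃ q : Ω, q ≠ p := by
      haveI : Nontrivial Ω := ⟨a, b, B.toCtx.ne⟩
      exact exists_ne p
    obtain ⟨g, hga, -⟩ := B.toCtx.two hq.symm B.toCtx.ne
    have h2 := B.cards.2.1
    rw [hn] at h2
    have hmem : g * σ * g⁻¹ ∈ stabilizer G a := mem_stabilizer_iff.2 (by rw [← hga, conj_smul, hp])
    have h7 := Subgroup.orderOf_dvd_natCard _ hmem
    rw [Invol.orderOf_conj_eq, h2] at h7
    have : orderOf σ = 7 := by
      have h := Subgroup.orderOf_dvd_natCard _ hσ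
      rw [hP] at h
      exact ((Nat.dvd_prime (by norm_num)).1 h).resolve_left (mt orderOf_eq_one_iff.1 hσ1)
    rw [this] at h7
    norm_num at h7
  obtain ⟨σ, hσ⟩ := exists_prime_orderOf_dvd_card' (G := (P : Subgroup G)) 7 (by rw [hP])
  have hσ1 : (σ : G) ≠ 1 := fun h => by rw [← Subgroup.orderOf_coe, h, orderOf_one] at hσ; norm_num at hσ
  have hPgen : ∀ x ∈ (P : Subgroup G), x ∈ zpowers (σ : G) := fun x hx => by
    have h : zpowers (σ : G) = (P : Subgroup G) := eq_of_le_of_card_ge (zpowers_le.2 σ.2)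
      (by rw [hP, Nat.card_zpowers, Subgroup.orderOf_coe, hσ])
    rw [h]; exact hx
  set C := centralizer ((P : Subgroup G) : Set G) with hC
  have hCodd : ¬ 2 ∣ Nat.card C := by
    intro h2
    obtain ⟨x, hx⟩ := exists_prime_orderOf_dvd_card' (G := C) 2 h2
    rw [← Subgroup.orderOf_coe] at hx
    have hT := B.fix_isT (hinv _ hx)
    rw [hi] at hT
    -- the fixed set is invariant under `P`
    have hinvF : ∀ (y : (P : Subgroup G)) (q : Ω), q ∈ (fix {(x : G)} : Set Ω) → (y : G) • q ∈ (fix {(x : G)} : Set Ω) :=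
      fun y q hq => mem_fix_singleton.2 (by
        rw [← mul_smul, ← mem_centralizer_iff.1 x.2 y y.2, mul_smul, mem_fix_singleton.1 hq])
    letI act : MulAction (P : Subgroup G) ↥(fix {(x : G)} : Set Ω) :=
      { smul := fun y q => ⟨(y : G) • (q : Ω), hinvF y q q.2⟩
        one_smul := fun q => Subtype.ext (one_smul G (q : Ω))
        mul_smul := fun y y' q => Subtype.ext (mul_smul (y : G) (y' : G) (q : Ω)) }
    have h := P.2.card_modEq_card_fixedPoints ↥(fix {(x : G)} : Set Ω)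
    haveI : IsEmpty (fixedPoints (P : Subgroup G) ↥(fix {(x : G)} : Set Ω)) :=
      ⟨fun q => hfree _ σ.2 hσ1 (q.1 : Ω) (congrArg Subtype.val (q.2 σ))⟩
    rw [Nat.card_coe_set_eq, hT, Nat.card_of_isEmpty] at h
    exact absurd h (by decide)
  have hC9 : ¬ 9 ∣ Nat.card C := by
    intro h9
    obtain ⟨T⟩ : Nonempty (Sylow 3 C) := inferInstance
    have hT9 : 3 ^ 2 ∣ Nat.card (T : Subgroup C) := T.pow_dvd_card_of_pow_dvd_card h9
    letI act : MulAction C (Quotient (orbitRel (P : Subgroup G) Ω)) :=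
      { smul := fun y => Quotient.map' (fun q => (y : G) • q) (by
          intro q q' h
          obtain ⟨σ', hσ'⟩ := h
          refine ⟨σ', ?_⟩
          show (σ' : G) • (y : G) • q' = (y : G) • q
          rw [← mul_smul, mem_centralizer_iff.1 y.2 σ' σ'.2, mul_smul]
          exact congrArg ((y : G) • ·) hσ')
        one_smul := fun o => Quotient.inductionOn' o fun q => congrArg Quotient.mk'' (one_smul G q)
        mul_smul := fun y y' o => Quotient.inductionOn' o fun q => congrArg Quotient.mk'' (mul_smul (y : G) (y' : G) q) }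
    let ψ := (MulAction.toPermHom C (Quotient (orbitRel (P : Subgroup G) Ω))).comp (T : Subgroup C).subtype
    have hψ : Function.Injective ψ := by
      refine (injective_iff_map_eq_one _).2 fun y hy => Subtype.ext (Subtype.ext ?_)
      show ((y : C) : G) = 1
      refine eq_one_of_fix_univ (Ω := Ω) fun q => ?_
      obtain ⟨σ', hσ'⟩ : ((y : C) : G) • q ∈ MulAction.orbit (P : Subgroup G) q := by
        have := Equiv.ext_iff.1 hy (Quotient.mk'' q)
        exact Quotient.exact' this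
      obtain ⟨m, hm⟩ := T.2 y
      have hcom : Commute ((σ' : G)) ((y : C) : G) := mem_centralizer_iff.1 (y : C).2 σ' σ'.2
      have hpow : ∀ k : ℕ, ((σ' : G) ^ k) • q = (((y : C) : G) ^ k) • q := by
        intro k
        induction k with
        | zero => simp
        | succ k ih =>
          rw [pow_succ', pow_succ, mul_smul, mul_smul, ih, ← mul_smul, (hcom.pow_right k).eq, mul_smul]
          exact congrArg _ hσ'
      have h3 : ((σ' : G) ^ (3 ^ m)) • q = q := by
        rw [hpow, show ((y : C) : G) ^ (3 ^ m) = 1 by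
          rw [← SubmonoidClass.coe_pow, ← SubmonoidClass.coe_pow, hm]; rfl, one_smul]
      have h4 : (σ' : G) ^ (3 ^ m) = 1 := by_contra fun hne' => hfree _ (pow_mem σ'.2 _) hne' q h3
      have h5 : (σ' : G) = 1 := orderOf_eq_one_iff.1 (Nat.eq_one_of_dvd_coprimes (Nat.Coprime.pow_right m
        (show Nat.Coprime 7 3 by norm_num)) ((Subgroup.orderOf_dvd_natCard _ σ'.2).trans hP.dvd) (orderOf_dvd_of_pow_eq_one h4))
      rw [← hσ']
      show (σ' : G) • q = q
      rw [h5, one_smul]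
    have h := Subgroup.card_dvd_of_injective ψ hψ
    rw [Nat.card_perm] at h
    have hq : Nat.card (Quotient (orbitRel (P : Subgroup G) Ω)) = 4 := by
      have e := Nat.card_congr (MulAction.selfEquivSigmaOrbits (P : Subgroup G) Ω)
      letI := Fintype.ofFinite (Quotient (orbitRel (P : Subgroup G) Ω))
      rw [Nat.card_sigma, Finset.sum_const_nat (m := 7) (fun o _ => ?_), Finset.card_univ, ← Nat.card_eq_fintype_card,
        hn] at e
      · exact (Nat.eq_of_mul_eq_mul_right (show 0 < 7 by norm_num) ((show 4 * 7 = 28 from rfl).trans e)).symm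
      · have hst : stabilizer (P : Subgroup G) o.out = ⊥ := le_bot_iff.1 fun y hy =>
          mem_bot.2 (Subtype.ext (by_contra fun hne' => hfree _ y.2 hne' o.out (mem_stabilizer_iff.1 hy)))
        rw [Nat.card_coe_set_eq, ← index_stabilizer, hst, index_bot, hP]
    rw [hq] at h
    exact absurd ((hT9.trans h)) (by decide)
  have hPC : (P : Subgroup G) ≤ C := fun x hx => mem_centralizer_iff.2 fun y hy => by
    obtain ⟨i, rfl⟩ := mem_zpowers_iff.1 (hPgen x hx)
    obtain ⟨k, rfl⟩ := mem_zpowers_iff.1 (hPgen y hy)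
    exact ((Commute.refl (σ : G)).zpow_left k).zpow_right i
  have hC21 : Nat.card C ∣ 21 := by
    have h1 : Nat.card C ∣ 16 * 567 := (card_subgroup_dvd_card C).trans (by rw [hG])
    have h2 : Nat.Coprime (Nat.card C) 2 := ((Nat.prime_two.coprime_iff_not_dvd).2 hCodd).symm
    have h3 : Nat.card C ∣ 567 := (h2.pow_right 4).dvd_of_dvd_mul_left h1
    have hmem : Nat.card C ∈ Nat.divisors 567 := Nat.mem_divisors.2 ⟨h3, by norm_num⟩
    rw [show Nat.divisors 567 = {1, 3, 7, 9, 21, 27, 63, 81, 189, 567} by decide] at hmem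
    simp only [Finset.mem_insert, Finset.mem_singleton] at hmem
    rcases hmem with e | e | e | e | e | e | e | e | e | e <;> first | exact ⟨21, by omega⟩ | exact ⟨7, by omega⟩ | exact ⟨3, by omega⟩ | exact ⟨1, by omega⟩ | exact absurd (by omega : 9 ∣ Nat.card C) hC9
  -- the normalizer
  set N := normalizer ((P : Subgroup G) : Set G) with hN
  have hN126 : Nat.card N ∣ 126 := by
    have h1 := ((P : Subgroup G).normalizerMonoidHom.ker).card_mul_index
    rw [normalizerMonoidHom_ker, Nat.card_congr (subgroupOfEquivOfLe (centralizer_le_normalizer _)).toEquiv] at h1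
    rw [← h1, show (126 : ℕ) = 21 * 6 from rfl]
    refine Nat.mul_dvd_mul hC21 ?_
    rw [← normalizerMonoidHom_ker, index_ker]
    refine (card_subgroup_dvd_card _).trans ?_
    haveI : IsCyclic (P : Subgroup G) := isCyclic_of_prime_card (p := 7) hP
    rw [IsCyclic.card_mulAut, hP]
    decide
  have hn7 := card_sylow_modEq_one 7 G
  rw [Sylow.card_eq_index_normalizer P] at hn7
  have hNi := N.card_mul_index
  have hdiv := Nat.mem_divisors.2 ⟨hN126, (by norm_num : (126 : ℕ) ≠ 0)⟩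
  rw [show Nat.divisors 126 = {1, 2, 3, 6, 7, 9, 14, 18, 21, 42, 63, 126} by decide] at hdiv
  have h7N : 7 ∣ Nat.card N := hP ▸ card_dvd_of_le le_normalizer
  rw [hG] at hNi
  replace hn7 : N.index % 7 = 1 % 7 := hn7
  have hN7 : Nat.card N = 7 := by
    simp only [Finset.mem_insert, Finset.mem_singleton] at hdiv
    rcases hdiv with e | e | e | e | e | e | e | e | e | e | e | e <;> rw [e] at hNi h7N ⊢ <;> omega
  have hNP : N = (P : Subgroup G) := (eq_of_le_of_card_ge le_normalizer (by rw [hP, ← hN, hN7])).symm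
  haveI : IsMulCommutative (P : Subgroup G) := ⟨⟨fun x y => Subtype.ext (mem_centralizer_iff.1 (hPC y.2) x x.2)⟩⟩
  have hc := Cfsg.Lib.Fusion.hasNormalPComplement_of_normalizer_le_centralizer P (by rw [← hN, hNP]; exact hPC)
  obtain ⟨P', M, hM, hMc⟩ := hc
  haveI := hM
  have hM7 : ¬ 7 ∣ Nat.card M := hMc.index_eq_card ▸ P'.not_dvd_index
  have hMb : M ≠ ⊥ := fun e => by
    obtain ⟨k, hk⟩ := IsPGroup.iff_card.1 P'.2
    have hi : M.index = 7 ^ k := (IsComplement'.symm hMc).index_eq_card.trans hk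
    rw [e, index_bot, hG] at hi
    have h2 : 2 ∣ 7 ^ k := hi ▸ (by norm_num)
    exact absurd (Nat.prime_two.dvd_of_dvd_pow h2) (by norm_num)
  -- a transitive subgroup has order divisible by 7
  have hd : Nat.card Ω ∣ Nat.card M := by
    have htr : MulAction.orbit M a = Set.univ := by
      refine Set.eq_univ_of_forall fun p => ?_
      obtain ⟨m', hm', hp⟩ := B.transitive_of_normal M hMb p
      exact ⟨⟨m', hm'⟩, hp⟩
    have h := (stabilizer M a).card_mul_index
    rw [index_stabilizer, htr, Set.ncard_univ] at h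
    exact Dvd.intro_left _ h
  rw [hn] at hd
  exact hM7 ((show 7 ∣ 28 by norm_num).trans hd)

end Base

end Cfsg.Lib.A4Stab
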