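import Cfsg.Agent.Lib.A4Stab.OuterOdd
import Cfsg.Agent.Lib.A4Stab.Small
import Mathlib.GroupTheory.Transfer

/-!
# The degree `15`
-/

set_option autoImplicit false
set_option linter.style.haveILetI false
set_option linter.unusedSectionVars false

namespace Cfsg.Lib.A4Stab

open Subgroup MulAction

universe u w

/-- Groups of order `15` and `105` have a normal Sylow subgroup of order five or seven. -/
theorem sylow_five_or_seven {X : Type*} [Group X] [Finite X] (h : Nat.card X = 15 ∨ Nat.card X = 105) :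
    Subsingleton (Sylow 5 X) ∨ (Nat.card X = 105 ∧ Subsingleton (Sylow 7 X)) := by
  haveI : Fact (Nat.Prime 5) := ⟨by norm_num⟩
  haveI : Fact (Nat.Prime 7) := ⟨by norm_num⟩
  have key : ∀ (Y : Type _) [Group Y] [Finite Y], Nat.card Y = 15 → Subsingleton (Sylow 5 Y) := by
    intro Y _ _ hY
    obtain ⟨P⟩ : Nonempty (Sylow 5 Y) := inferInstance
    have h1 : Nat.card (Sylow 5 Y) % 5 = 1 := card_sylow_modEq_one 5 Y
    have h2 := Sylow.not_dvd_index P
    have h3 := P.card_dvd_index
    have h4 := (P : Subgroup Y).index_dvd_card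
    rw [hY] at h4
    have hm : (P : Subgroup Y).index ∈ Nat.divisors 15 := Nat.mem_divisors.2 ⟨h4, by norm_num⟩
    rw [show Nat.divisors 15 = {1, 3, 5, 15} by decide] at hm
    simp only [Finset.mem_insert, Finset.mem_singleton] at hm
    have h5 : Nat.card (Sylow 5 Y) ≤ 3 := by
      have h0 : (P : Subgroup Y).index ≠ 0 := index_ne_zero_of_finite
      have := Nat.le_of_dvd (Nat.pos_of_ne_zero h0) h3
      omega
    exact (Nat.card_eq_one_iff_unique.1 (show Nat.card (Sylow 5 Y) = 1 by omega)).1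
  rcases h with h | h
  · exact Or.inl (key X h)
  obtain ⟨P⟩ : Nonempty (Sylow 7 X) := inferInstance
  obtain ⟨n, hn⟩ := IsPGroup.iff_card.1 P.2
  have hP : Nat.card (P : Subgroup X) = 7 := by
    have hd : Nat.card (P : Subgroup X) ∣ 105 := h ▸ card_subgroup_dvd_card _
    have h1 : 7 ∣ Nat.card (P : Subgroup X) := by
      simpa using P.pow_dvd_card_of_pow_dvd_card (n := 1) (by rw [h]; norm_num)
    rw [hn] at hd h1 ⊢
    rcases n with - | - | n
    · norm_num at h1
    · norm_num
    · exact absurd ((pow_dvd_pow 7 (show 2 ≤ n + 1 + 1 by omega)).trans hd) (by norm_num)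
  have hi : (P : Subgroup X).index = 15 := by
    have := (P : Subgroup X).card_mul_index
    rw [hP, h] at this
    omega
  have hd7 := P.card_dvd_index
  rw [hi] at hd7
  have h7 : Nat.card (Sylow 7 X) % 7 = 1 := card_sylow_modEq_one 7 X
  have hm : Nat.card (Sylow 7 X) ∈ Nat.divisors 15 := Nat.mem_divisors.2 ⟨hd7, by norm_num⟩
  rw [show Nat.divisors 15 = {1, 3, 5, 15} by decide] at hm
  simp only [Finset.mem_insert, Finset.mem_singleton] at hm
  rcases (show Nat.card (Sylow 7 X) = 1 ∨ Nat.card (Sylow 7 X) = 15 by omega) with e | e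
  · exact Or.inr ⟨h, (Nat.card_eq_one_iff_unique.1 e).1⟩
  refine Or.inl ?_
  haveI : IsCyclic (P : Subgroup X) := isCyclic_of_prime_card hP
  have hN : normalizer ((P : Subgroup X) : Set X) = (P : Subgroup X) := by
    refine (eq_of_le_of_card_ge le_normalizer ?_).symm
    have := (normalizer ((P : Subgroup X) : Set X)).card_mul_index
    rw [show (normalizer ((P : Subgroup X) : Set X)).index = 15 from
      (Sylow.card_eq_index_normalizer P).symm.trans e, h] at this
    rw [hP]
    omega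
  have hle : normalizer ((P : Subgroup X) : Set X) ≤ centralizer ((P : Subgroup X) : Set X) := fun x hx =>
    mem_centralizer_iff.2 fun y hy => by
      rw [hN] at hx
      exact congrArg Subtype.val ((IsCyclic.isMulCommutative (α := (P : Subgroup X))).is_comm.comm ⟨y, hy⟩ ⟨x, hx⟩)
  set K := (MonoidHom.transferSylow P hle).ker
  have hK : Nat.card K = 15 := by
    have : Nat.card K * Nat.card (P : Subgroup X) = Nat.card X :=
      (MonoidHom.ker_transferSylow_isComplement' P hle).card_mul_card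
    rw [h, hP] at this
    omega
  haveI := key K hK
  have hQK : ∀ Q : Sylow 5 X, (Q : Subgroup X) ≤ K := fun Q x hx => by
    rw [MonoidHom.mem_ker]
    obtain ⟨k, hk⟩ := IsPGroup.iff_orderOf.1 Q.2 ⟨x, hx⟩
    rw [Subgroup.orderOf_mk] at hk
    have h1 : orderOf (MonoidHom.transferSylow P hle x) ∣ 5 ^ k := hk ▸ orderOf_map_dvd _ x
    have h2 : orderOf (MonoidHom.transferSylow P hle x) ∣ 7 := (_root_.orderOf_dvd_natCard _).trans (by rw [hP])
    exact orderOf_eq_one_iff.1 (Nat.eq_one_of_dvd_coprimes (Nat.Coprime.pow_left k (by norm_num)) h1 h2)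
  refine ⟨fun Q Q' => Sylow.subtype_injective (hP := hQK Q) (hQ := hQK Q') (Subsingleton.elim _ _)⟩

variable {G : Type u} [Group G] [Finite G] {Ω : Type w} [Finite Ω] [MulAction G Ω] [FaithfulSMul G Ω]

namespace Base

variable {a b : Ω} {t v : G}

theorem card_dvd_of_normal (B : Base G a b t v) (M : Subgroup G) [M.Normal] (hM : M ≠ ⊥) :
    Nat.card Ω ∣ Nat.card M := by
  have hor : MulAction.orbit M a = Set.univ := Set.eq_univ_of_forall fun p => by
    obtain ⟨x, hx, hxa⟩ := B.transitive_of_normal M hM p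
    exact ⟨⟨x, hx⟩, hxa⟩
  have hMi := (stabilizer M a).card_mul_index
  rw [index_stabilizer, hor, Set.ncard_univ] at hMi
  exact ⟨_, (hMi.symm.trans (mul_comm _ _))⟩

theorem oddCore_inf_pairStab (B : Base G a b t v) {x : G} (hx : x ∈ Cfsg.oddCore G) (hxH : x ∈ pairStab G a b) :
    x = 1 := by
  have hO : Odd (Nat.card (Cfsg.oddCore G)) := ZStar.odd_card_oddCore
  have hy : t * x * t⁻¹ * x⁻¹ ∈ B.toCtx.four := by
    rw [show t * x * t⁻¹ * x⁻¹ = t * (x * t⁻¹ * x⁻¹) by group]
    exact mul_mem B.t_mem_four (B.conj_mem_four hxH (inv_mem B.t_mem_four))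
  have hyO : t * x * t⁻¹ * x⁻¹ ∈ Cfsg.oddCore G :=
    mul_mem ((inferInstance : (Cfsg.oddCore G).Normal).conj_mem x hx t) (inv_mem hx)
  have h1 := eq_of_odd_sq hO hyO hy.2
  have hc : x * t = t * x := (mul_inv_eq_iff_eq_mul.1 (mul_inv_eq_one.1 h1)).symm
  exact eq_of_odd_sq hO hx (B.toCtx.sq_of_commute B.htH hxH B.ht hc)

theorem oddCore_fifteen (B : Base G a b t v) (hn : Nat.card Ω = 15) : Cfsg.oddCore G = ⊥ := by
  by_contra hO
  have hdvd := B.card_dvd_of_normal _ hO
  rw [hn] at hdvd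
  obtain ⟨m, hm⟩ := hdvd
  obtain ⟨hG, hH, -⟩ := B.cards
  rw [hn] at hG hH
  have hOodd : Odd (Nat.card (Cfsg.oddCore G)) := ZStar.odd_card_oddCore
  set O := Cfsg.oddCore G
  have hor : MulAction.orbit O a = Set.univ := Set.eq_univ_of_forall fun p => by
    obtain ⟨x, hx, hxa⟩ := B.transitive_of_normal O hO p
    exact ⟨⟨x, hx⟩, hxa⟩
  have hst := (stabilizer O a).card_mul_index
  rw [index_stabilizer, hor, Set.ncard_univ, hn, hm] at hst
  have h3 : ¬ 3 ∣ Nat.card (stabilizer O a) := by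
    intro h
    haveI : Fact (Nat.Prime 3) := ⟨Nat.prime_three⟩
    obtain ⟨x, hx⟩ := exists_prime_orderOf_dvd_card' (G := stabilizer O a) 3 h
    have hxo : orderOf ((x : O) : G) = 3 := by rw [Subgroup.orderOf_coe, Subgroup.orderOf_coe, hx]
    have hR : IsPGroup 3 (zpowers ((x : O) : G)) :=
      IsPGroup.of_card (n := 1) (by rw [Nat.card_zpowers, hxo, pow_one])
    have hxa : a ∈ fixedPoints (zpowers ((x : O) : G)) Ω := by
      intro k
      obtain ⟨i, hi⟩ := mem_zpowers_iff.1 k.2
      show (k : G) • a = a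
      rw [← hi]
      exact MulAction.mem_stabilizer_iff.1 (zpow_mem (mem_stabilizer_iff.2 (mem_stabilizer_iff.1 x.2 : ((x : O) : G) • a = a)) i)
    obtain ⟨q, hq, hqa⟩ := hR.exists_fixed_point_of_prime_dvd_card_of_fixed_point Ω (by rw [hn]; norm_num) hxa
    obtain ⟨t', v', B'⟩ := exists_base (B.toCtx.change (p := a) (q := q) hqa)
    have h1 := B'.oddCore_inf_pairStab (x : O).2 (mem_pairStab.2 ⟨hxa ⟨_, mem_zpowers _⟩, hq ⟨_, mem_zpowers _⟩⟩)
    rw [h1, orderOf_one] at hxo
    omega
  have hmd : m ∣ 168 := by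
    have h1 : Nat.card O ∣ Nat.card G := card_subgroup_dvd_card O
    rw [hm, hG, show 12 * (15 * (15 - 1)) = 15 * 168 by norm_num] at h1
    exact Nat.dvd_of_mul_dvd_mul_left (by norm_num) h1
  have hmo : m % 2 = 1 := by
    have := Nat.odd_iff.1 (hOodd)
    rw [hm, Nat.mul_mod] at this
    omega
  have hmm : Nat.card (stabilizer O a) = m :=
    Nat.eq_of_mul_eq_mul_left (show 0 < 15 by norm_num) ((mul_comm _ _).trans hst)
  rw [hmm] at h3
  have hm17 : m = 1 ∨ m = 7 := by
    have hmem : m ∈ Nat.divisors 168 := Nat.mem_divisors.2 ⟨hmd, by norm_num⟩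
    rw [show Nat.divisors 168 = {1, 2, 3, 4, 6, 7, 8, 12, 14, 21, 24, 28, 42, 56, 84, 168} by decide] at hmem
    simp only [Finset.mem_insert, Finset.mem_singleton] at hmem
    omega
  have hcard : Nat.card O = 15 ∨ Nat.card O = 105 := by omega
  have hkill : ∀ p : ℕ, p.Prime → p ∣ Nat.card O → ¬ 15 ∣ p ^ 1 → ¬ p ^ 2 ∣ Nat.card O →
      Subsingleton (Sylow p O) → False := by
    intro p hp hpd h15 hp2 hsub
    haveI : Fact p.Prime := ⟨hp⟩
    obtain ⟨P⟩ : Nonempty (Sylow p O) := inferInstance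
    haveI : (P : Subgroup O).Characteristic := Sylow.characteristic_of_subsingleton P
    obtain ⟨k, hk⟩ := IsPGroup.iff_card.1 P.2
    have hPM : Nat.card ((P : Subgroup O).map O.subtype) = p ^ 1 := by
      rw [card_map_of_injective (subtype_injective _), hk]
      congr 1
      have h1 : p ∣ Nat.card (P : Subgroup O) := by
        simpa using P.pow_dvd_card_of_pow_dvd_card (n := 1) (by rwa [pow_one])
      have h2 : Nat.card (P : Subgroup O) ∣ Nat.card O := card_subgroup_dvd_card _
      rw [hk] at h1 h2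
      rcases k with - | - | k
      · rw [pow_zero, Nat.dvd_one] at h1; exact absurd h1 hp.ne_one
      · rfl
      · exact absurd ((pow_dvd_pow p (show 2 ≤ k + 1 + 1 by omega)).trans h2) hp2
    have hne : (P : Subgroup O).map O.subtype ≠ ⊥ := fun h => by
      rw [h, card_bot, pow_one] at hPM
      exact hp.ne_one hPM.symm
    have hd := B.card_dvd_of_normal _ hne
    rw [hn, hPM] at hd
    exact h15 hd
  rcases sylow_five_or_seven hcard with h | ⟨h105, h⟩
  · refine hkill 5 (by norm_num) ?_ (by norm_num) ?_ h <;> rcases hcard with e | e <;> rw [e] <;> norm_num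
  · refine hkill 7 (by norm_num) ?_ (by norm_num) ?_ h <;> rw [h105] <;> norm_num

/-- In degree `15` the group is `A₇`. -/
theorem iso_fifteen (B : Base G a b t v) (hn : Nat.card Ω = 15) (hi : (fix {t} : Set Ω).ncard = 3)
    (hall : ∀ g : G, orderOf g = 2 → IsT G Ω g) {c : Ω} (hc : GW.TwoCycDih ↥(stabilizer G c)) :
    Nonempty (G ≃* alternatingGroup (Fin 7)) := by
  haveI : Fact (Nat.Prime 2) := ⟨Nat.prime_two⟩
  obtain ⟨hG, -, hC, -⟩ := B.cards
  rw [hn, show 12 * (15 * (15 - 1)) = 2520 by norm_num] at hG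
  rw [hi, show 4 * (3 * (3 - 1)) = 24 by norm_num] at hC
  have hidx : (stabilizer G c).index = 15 := by
    have hor : MulAction.orbit G c = Set.univ := Set.eq_univ_of_forall fun p => by
      rcases eq_or_ne p c with e | e
      · exact ⟨1, by rw [e]; exact one_smul G c⟩
      · obtain ⟨g, hg, -⟩ := B.toCtx.two (Ne.symm e) e
        exact ⟨g, hg⟩
    rw [index_stabilizer, hor, Set.ncard_univ, hn]
  obtain ⟨S⟩ : Nonempty (Sylow 2 (stabilizer G c)) := inferInstance
  have hodd : ¬ 2 ∣ ((S : Subgroup (stabilizer G c)).map (stabilizer G c).subtype).index := by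
    rw [index_map_of_injective _ (subtype_injective _), range_subtype, hidx]
    exact Nat.Prime.not_dvd_mul Nat.prime_two S.not_dvd_index (by norm_num)
  set S' : Sylow 2 G := (S.2.map (stabilizer G c).subtype).toSylow hodd
  have e : (S : Subgroup (stabilizer G c)) ≃* (S' : Subgroup G) :=
    (S : Subgroup (stabilizer G c)).equivMapOfInjective _ (subtype_injective _)
  have hD : GW.TwoCycDih G := GW.TwoCycDih.of_sylow S' (GW.CycDih.of_equiv e.symm (hc _ S.2))
  have h1 : OneClass G := fun x y hx hy => by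
    obtain ⟨k, hk⟩ := B.exists_conj_t (hall x hx)
    obtain ⟨l, hl⟩ := B.exists_conj_t (hall y hy)
    exact ⟨l * k⁻¹, by rw [← hk, ← hl]; group⟩
  have hnum : numInv G = 105 := by
    have := card_eq_centralizer_mul_numInv h1 B.ht
    rw [hG, hC] at this
    omega
  rcases GW.shape hD (GW.gwSections_of_simpleGW GW.simpleGW.{u} hD) (B.oddCore_fifteen hn) with
    h2 | ⟨V, -, -, -, h12⟩ | ⟨E, hE, -, -, hgw, -, hCE, -, -⟩
  · exfalso
    obtain ⟨k, hk⟩ := h2.exists_card_eq
    rw [hG] at hk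
    have h5 : 5 ∣ 2 ^ k := ⟨504, hk.symm⟩
    exact absurd ((show Nat.Prime 5 by norm_num).dvd_of_dvd_pow h5) (by norm_num)
  · omega
  · haveI := hE
    rcases hgw with ⟨F, iF, iF', hodd', h3, ⟨e'⟩⟩ | ⟨⟨e'⟩⟩
    · exfalso
      obtain ⟨μ, f, hμ, hf, -, hCt, -, hn'⟩ :=
        psl_component_data hD h1 E e' hodd' h3 B.ht B.hv B.commute_tv B.htv
      rw [hC] at hCt
      rw [hnum] at hn'
      have hμ6 : μ ∣ 6 := ⟨f, by omega⟩
      have hmem : μ ∈ Nat.divisors 6 := Nat.mem_divisors.2 ⟨hμ6, by norm_num⟩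
      rw [show Nat.divisors 6 = {1, 2, 3, 6} by decide] at hmem
      simp only [Finset.mem_insert, Finset.mem_singleton] at hmem
      rcases hmem with h | h | h | h <;> subst h <;> norm_num at hn'
    · have htop := GW.DGroup.eq_top_of_alt_seven hD E hCE e'
      exact ⟨(topEquiv.symm.trans (MulEquiv.subgroupCongr htop.symm)).trans e'⟩

end Base

end Cfsg.Lib.A4Stab
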