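import Cfsg.Agent.Lib.A4Stab.Count
import Cfsg.Agent.Lib.GW.Main
import Cfsg.Agent.Lib.GW.DGroupDihedral
import Cfsg.Agent.Lib.Dickson.KleinClasses
import Cfsg.Agent.Lib.Dickson.Involutions

/-!
# Centralizers in groups with dihedral Sylow two-subgroups and one class of involutions
-/

set_option autoImplicit false
set_option linter.style.haveILetI false
set_option linter.unusedSectionVars false

namespace Cfsg.Lib.A4Stab

open Subgroup

universe u

variable {G : Type u} [Group G] [Finite G]

/-- All involutions are conjugate. -/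
def OneClass (G : Type u) [Group G] : Prop :=
  ∀ x y : G, orderOf x = 2 → orderOf y = 2 → ∃ g : G, g * x * g⁻¹ = y

/-- The number of involutions. -/
noncomputable def numInv (G : Type u) [Group G] : ℕ := Nat.card {x : G // orderOf x = 2}

theorem card_eq_centralizer_mul_numInv (h1 : OneClass G) {t : G} (ht : orderOf t = 2) :
    Nat.card G = Nat.card (centralizer ({t} : Set G)) * numInv G := by
  rw [← (centralizer ({t} : Set G)).card_mul_index, index_eq_card]
  refine congrArg _ (Nat.card_eq_of_bijective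
    (fun q : G ⧸ centralizer ({t} : Set G) => (Quotient.liftOn' q
      (fun g => (⟨g * t * g⁻¹, by rw [Invol.orderOf_conj_eq, ht]⟩ : {x : G // orderOf x = 2})) ?_)) ⟨?_, ?_⟩)
  · intro a b hab
    rw [QuotientGroup.leftRel_apply] at hab
    refine Subtype.ext ?_
    exact (Invol.coset_iff_conj.1 hab).symm
  · rintro ⟨a⟩ ⟨b⟩ hab
    exact QuotientGroup.eq.2 (Invol.coset_iff_conj.2 (congrArg Subtype.val hab).symm)
  · rintro ⟨y, hy⟩
    obtain ⟨g, hg⟩ := h1 t y ht hy
    exact ⟨QuotientGroup.mk g, Subtype.ext hg⟩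

theorem card_eq_card_map_mul {Q : Type*} [Group Q] (π : G →* Q) (A : Subgroup G) :
    Nat.card A = Nat.card (A.map π) * Nat.card ↥(A ⊓ π.ker) := by
  have h := card_eq_card_quotient_mul_card_subgroup (π.ker.subgroupOf A)
  have e : Nat.card (π.ker.subgroupOf A) = Nat.card ↥(A ⊓ π.ker) := by
    rw [← inf_subgroupOf_left, Nat.card_congr (subgroupOfEquivOfLe inf_le_left).toEquiv]
  rw [e] at h
  rw [h]
  congr 1
  have hk : (π.comp A.subtype).ker = π.ker.subgroupOf A := rfl
  rw [show A.map π = (π.comp A.subtype).range by rw [MonoidHom.range_comp, range_subtype], ← hk]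
  exact Nat.card_congr (QuotientGroup.quotientKerEquivRange _).toEquiv

/-- A four group generated by two commuting involutions, as a centralizer-friendly pair. -/
theorem centralizer_pair (t v : G) :
    centralizer ({t, v} : Set G) = centralizer ({t} : Set G) ⊓ centralizer ({v} : Set G) := by
  ext x
  simp [mem_centralizer_iff]

theorem exists_involution_lift (N : Subgroup G) [N.Normal] (hN : Odd (Nat.card N)) (g : G)
    (hg : orderOf (QuotientGroup.mk' N g) = 2) : ∃ x : G, orderOf x = 2 ∧ QuotientGroup.mk' N x = QuotientGroup.mk' N g := by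
  obtain ⟨k, m, hm, hord⟩ := Nat.exists_eq_two_pow_mul_odd (orderOf_pos g).ne'
  set x := g ^ m
  have hx : QuotientGroup.mk' N x = QuotientGroup.mk' N g := by
    rw [map_pow, ← pow_mod_orderOf, hg, Nat.odd_iff.1 hm, pow_one]
  have hx2 : orderOf x = 2 ^ k := by
    rw [orderOf_pow_of_dvd hm.pos.ne' (hord ▸ dvd_mul_left m _), hord, Nat.mul_div_cancel _ hm.pos]
  have hxN : x * x ∈ N := by
    refine (QuotientGroup.eq_one_iff _).1 (show QuotientGroup.mk' N (x * x) = 1 from ?_)
    rw [map_mul, hx, Invol.inv_mul_self hg]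
  have h1 : x * x = 1 := by
    have h2 : orderOf (x * x) ∣ 2 ^ k := by
      refine orderOf_dvd_of_pow_eq_one ?_
      rw [← pow_two, ← pow_mul, mul_comm, pow_mul, ← hx2, pow_orderOf_eq_one, one_pow]
    exact orderOf_eq_one_iff.1 (Nat.eq_one_of_dvd_coprimes
      (Nat.Coprime.pow_left k (Nat.coprime_two_left.2 (odd_orderOf_of_mem hN hxN))) h2 dvd_rfl)
  refine ⟨x, Invol.orderOf_eq_two_of (fun h => ?_) h1, hx⟩
  rw [h, map_one] at hx
  rw [← hx, orderOf_one] at hg
  omega

theorem oneClass_quotient (h1 : OneClass G) (N : Subgroup G) [N.Normal] (hN : Odd (Nat.card N)) :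
    OneClass (G ⧸ N) := by
  intro a b ha hb
  obtain ⟨g, rfl⟩ := QuotientGroup.mk'_surjective N a
  obtain ⟨g', rfl⟩ := QuotientGroup.mk'_surjective N b
  obtain ⟨x, hx, hxe⟩ := exists_involution_lift N hN g ha
  obtain ⟨y, hy, hye⟩ := exists_involution_lift N hN g' hb
  obtain ⟨h, hh⟩ := h1 x y hx hy
  exact ⟨QuotientGroup.mk' N h, by rw [← hxe, ← hye, ← hh, map_mul, map_mul, map_inv]⟩

theorem orderOf_mk_involution (N : Subgroup G) [N.Normal] (hN : Odd (Nat.card N)) {t : G} (ht : orderOf t = 2) :
    orderOf (QuotientGroup.mk' N t) = 2 := by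
  refine Invol.orderOf_eq_two_of (fun h => ?_) (by rw [← map_mul, Invol.inv_mul_self ht, map_one])
  have := odd_orderOf_of_mem hN ((QuotientGroup.eq_one_iff t).1 h)
  rw [ht] at this
  exact absurd this (by decide)

/-- Centralizers of four groups pass to quotients by normal subgroups of odd order. -/
theorem centralizer_lift_pair (N : Subgroup G) [N.Normal] (hN : Odd (Nat.card N)) {t v : G} (ht : orderOf t = 2)
    (hv : orderOf v = 2) (htv : Commute t v) :
    centralizer ({QuotientGroup.mk' N t, QuotientGroup.mk' N v} : Set (G ⧸ N)) =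
      (centralizer ({t, v} : Set G)).map (QuotientGroup.mk' N) := by
  refine le_antisymm ?_ ?_
  · intro y hy
    rw [centralizer_pair, mem_inf, GW.DGroup.centralizer_lift N hN ht, mem_map] at hy
    obtain ⟨⟨g, hg, rfl⟩, hyv⟩ := hy
    set C := centralizer ({t} : Set G)
    have hvC : v ∈ C := mem_centralizer_singleton_iff.2 htv.eq.symm
    have hNC : Odd (Nat.card (N.subgroupOf C)) := hN.of_dvd_nat (by
      rw [← inf_subgroupOf_right, Nat.card_congr (subgroupOfEquivOfLe inf_le_right).toEquiv]
      exact card_dvd_of_le inf_le_left)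
    have h := GW.DGroup.centralizer_lift (N.subgroupOf C) hNC (j := (⟨v, hvC⟩ : C)) (by rw [Subgroup.orderOf_mk, hv])
    have hgv : QuotientGroup.mk' (N.subgroupOf C) ⟨g, hg⟩ ∈
        centralizer ({QuotientGroup.mk' (N.subgroupOf C) ⟨v, hvC⟩} : Set (↥C ⧸ N.subgroupOf C)) := by
      rw [mem_centralizer_singleton_iff, ← map_mul, ← map_mul, QuotientGroup.mk'_apply, QuotientGroup.mk'_apply,
        QuotientGroup.eq, mem_subgroupOf]
      rw [mem_centralizer_singleton_iff, ← map_mul, ← map_mul, QuotientGroup.mk'_apply, QuotientGroup.mk'_apply,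
        QuotientGroup.eq] at hyv
      exact hyv
    rw [h, mem_map] at hgv
    obtain ⟨c, hc, hce⟩ := hgv
    refine ⟨c.1, ?_, ?_⟩
    · rw [centralizer_pair]
      exact mem_inf.2 ⟨c.2, mem_centralizer_singleton_iff.2 (congrArg Subtype.val (mem_centralizer_singleton_iff.1 hc))⟩
    · rw [QuotientGroup.mk'_apply, QuotientGroup.mk'_apply, QuotientGroup.eq] at hce
      rw [QuotientGroup.mk'_apply, QuotientGroup.mk'_apply, QuotientGroup.eq]
      exact hce
  · rintro _ ⟨g, hg, rfl⟩
    rw [SetLike.mem_coe, mem_centralizer_iff] at hg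
    refine mem_centralizer_iff.2 ?_
    rintro _ (rfl | rfl)
    · rw [← map_mul, ← map_mul]; exact congrArg _ (hg t (by simp))
    · rw [← map_mul, ← map_mul]; exact congrArg _ (hg v (by simp))

/-- All involutions of a dihedral two-subgroup in a subgroup: the subgroup has odd index. -/
theorem odd_index_of_involutions (hD : GW.TwoCycDih G) (E : Subgroup G) [E.Normal]
    (hE : ∀ x : G, orderOf x = 2 → x ∈ E) {t v : G} (ht : orderOf t = 2) (hv : orderOf v = 2)
    (htv : Commute t v) (hne : t ≠ v) : Odd E.index := by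
  haveI : Fact (Nat.Prime 2) := ⟨Nat.prime_two⟩
  have hK : IsPGroup 2 (closure ({t, v} : Set G)) := fun x => by
    refine ⟨1, Subtype.ext ?_⟩
    rw [pow_one, SubmonoidClass.coe_pow, Subgroup.coe_one, pow_two]
    obtain ⟨k, hk | hk⟩ := (Invol.mem_closure_pair ht hv).mp x.2
    · rw [hk, ← zpow_add, ← two_mul, zpow_mul, zpow_two, htv.symm.mul_mul_mul_comm,
        Invol.inv_mul_self ht, Invol.inv_mul_self hv, one_mul, one_zpow]
    · rw [hk]; exact Invol.mul_zpow_sq (Invol.inv_mul_self ht) (Invol.conj_mul_left ht hv) k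
  obtain ⟨S, hS⟩ := hK.exists_le_sylow
  obtain ⟨R, hR, hRi, hout⟩ := hD (S : Subgroup G) S.2
  have htS : t ∈ (S : Subgroup G) := hS (subset_closure (by simp))
  have hvS : v ∈ (S : Subgroup G) := hS (subset_closure (by simp))
  have hout' : ∀ x : (S : Subgroup G), x ∉ R → (x : G) ∈ E := fun x hx => by
    refine hE _ ?_
    rw [Subgroup.orderOf_coe]
    exact Invol.orderOf_eq_two_of (fun h => hx (h ▸ one_mem _)) (hout x hx)
  obtain ⟨x0, hx0⟩ : ∃ x : (S : Subgroup G), x ∉ R := by
    by_contra hc
    push Not at hc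
    haveI := hR
    have hcyc : IsCyclic (S : Subgroup G) :=
      isCyclic_of_surjective R.subtype fun x => ⟨⟨x, hc x⟩, rfl⟩
    refine hne (congrArg Subtype.val (?_ : (⟨t, htS⟩ : (S : Subgroup G)) = ⟨v, hvS⟩))
    have h2 : ∀ y : (S : Subgroup G), y ^ 2 = 1 → y ≠ 1 → orderOf y = 2 := fun y hy hy1 => orderOf_eq_prime hy hy1
    classical
    letI := Fintype.ofFinite (S : Subgroup G)
    by_contra hne'
    have hsub : ({1, (⟨t, htS⟩ : (S : Subgroup G)), ⟨v, hvS⟩} : Finset (S : Subgroup G)) ⊆
        Finset.univ.filter fun a => a ^ 2 = 1 := by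
      intro a ha
      simp only [Finset.mem_insert, Finset.mem_singleton] at ha
      simp only [Finset.mem_filter, Finset.mem_univ, true_and]
      rcases ha with rfl | rfl | rfl
      · exact one_pow 2
      · exact Subtype.ext (by rw [SubmonoidClass.coe_pow, sq]; exact Invol.inv_mul_self ht)
      · exact Subtype.ext (by rw [SubmonoidClass.coe_pow, sq]; exact Invol.inv_mul_self hv)
    have h3 := (Finset.card_le_card hsub).trans (IsCyclic.card_pow_eq_one_le two_pos)
    rw [Finset.card_insert_of_notMem, Finset.card_pair hne'] at h3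
    · omega
    · simp only [Finset.mem_insert, Finset.mem_singleton, Subtype.ext_iff, Subgroup.coe_one]
      exact fun h => h.elim (fun e => Invol.ne_one ht e.symm) fun e => Invol.ne_one hv e.symm
  have hSE : (S : Subgroup G) ≤ E := fun s hs => by
    by_cases hx : (⟨s, hs⟩ : (S : Subgroup G)) ∈ R
    · have h1 := hout' _ (fun h => hx0 ((mul_mem_cancel_right hx).1 h) : x0 * ⟨s, hs⟩ ∉ R)
      exact (mul_mem_cancel_left (hout' x0 hx0)).1 h1
    · exact hout' _ hx
  exact Nat.odd_iff.2 (Nat.two_dvd_ne_zero.1 fun h => S.not_dvd_index (h.trans (index_dvd_of_le hSE)))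


/-- The involutions commuting with `t` other than `t`. -/
noncomputable def numCommInv (G : Type u) [Group G] (t : G) : ℕ :=
  Nat.card {y : G // (orderOf y = 2 ∧ y ≠ t) ∧ y * t = t * y}

section PSL

variable {F : Type} [Field F] [Fintype F]

local notation "PSL2" => Matrix.ProjectiveSpecialLinearGroup (Fin 2) F

theorem orderOf_two_iff {H : Type*} [Group H] (y : H) : orderOf y = 2 ↔ y ^ 2 = 1 ∧ y ≠ 1 :=
  ⟨fun h => ⟨h ▸ pow_orderOf_eq_one y, Invol.ne_one h⟩, fun h => orderOf_eq_prime h.1 h.2⟩

/-- The involution centralizer in `PSL(2, q)`. -/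
theorem psl_involution_data (hodd : Odd (Fintype.card F)) (h3 : 3 < Fintype.card F) {x y : PSL2}
    (hx : orderOf x = 2) (hy : orderOf y = 2) (hxy : Commute x y) (hne : x ≠ y) :
    ∃ μ : ℕ, 0 < μ ∧ (Fintype.card F = 4 * μ + 1 ∨ Fintype.card F + 1 = 4 * μ) ∧
      Nat.card (centralizer ({x} : Set PSL2)) = 4 * μ ∧ numCommInv PSL2 x = 2 * μ ∧
      Nat.card (centralizer ({x, y} : Set PSL2)) = 4 := by
  classical
  have hF : Fintype.card F % 2 = 1 := Nat.odd_iff.1 hodd
  obtain ⟨hx2, hx1⟩ := (orderOf_two_iff x).1 hx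
  obtain ⟨hy2, hy1⟩ := (orderOf_two_iff y).1 hy
  have hV : IsKleinFour (Dickson.KleinClasses.fourGroup x y hx2 hy2 hxy.eq.symm) :=
    Dickson.KleinClasses.isKleinFour_fourGroup hx2 hy2 hxy.eq.symm hx1 hy1 hne.symm
  set V := Dickson.KleinClasses.fourGroup x y hx2 hy2 hxy.eq.symm with hVdef
  haveI := hV
  have hxV : x ∈ V := Or.inr (Or.inl rfl)
  have hyV : y ∈ V := Or.inr (Or.inr (Or.inl rfl))
  have hVle : V ≤ centralizer ({x, y} : Set PSL2) := fun a ha => mem_centralizer_iff.2 fun b hb => by
    have hbV : b ∈ V := by rcases hb with rfl | rfl; exacts [hxV, hyV]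
    exact congrArg Subtype.val ((IsKleinFour.isMulCommutative (G := V)).is_comm.comm ⟨b, hbV⟩ ⟨a, ha⟩)
  have hC2 : centralizer ({x, y} : Set PSL2) = V := by
    refine le_antisymm (fun a ha => Dickson.KleinClasses.centralizer_klein hF V (mem_centralizer_iff.2 fun b hb => ?_)) hVle
    have ax := mem_centralizer_iff.1 ha x (by simp)
    have ay := mem_centralizer_iff.1 ha y (by simp)
    rcases hb with rfl | rfl | rfl | rfl
    · rw [one_mul, mul_one]
    · exact ax
    · exact ay
    · exact ((Commute.mul_left (ax : Commute x a) (ay : Commute y a))).eq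
  have h4 : Nat.card (centralizer ({x, y} : Set PSL2)) = 4 := by rw [hC2, IsKleinFour.card_four]
  have hC : ∃ μ : ℕ, 0 < μ ∧ (Fintype.card F = 4 * μ + 1 ∨ Fintype.card F + 1 = 4 * μ) ∧
      Nat.card (centralizer ({x} : Set PSL2)) = 4 * μ := by
    rcases Nat.lt_or_ge (Fintype.card F) 7 with h7 | h7
    · have h5 : Fintype.card F = 5 := by omega
      refine ⟨1, one_pos, Or.inl h5, ?_⟩
      have h4d : 4 ∣ Nat.card (centralizer ({x} : Set PSL2)) := h4 ▸ card_dvd_of_le (centralizer_le (by simp))
      obtain ⟨p, hpp, hp, n, hn0, hn⟩ := Dickson.exists_char (F := F)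
      haveI := Fact.mk hpp
      have hpx : ¬ p ∣ orderOf x := fun h => by
        rw [hx] at h
        have hp2 := (Nat.prime_dvd_prime_iff_eq hpp Nat.prime_two).1 h
        subst hp2
        rw [hn, Nat.pow_mod, Nat.zero_pow hn0] at hF
        omega
      obtain ⟨k, hk, hkC⟩ := Dickson.centralizer_cases p hx1 hpx
      rw [h5] at hk
      norm_num at hk
      have hk3 : k ≤ 3 := by
        rcases hk with hk | hk <;> [exact Nat.le_of_dvd three_pos hk; exact (Nat.le_of_dvd two_pos hk).trans (by norm_num)]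
      obtain ⟨r, hr⟩ := h4d
      have hpos : 0 < Nat.card (centralizer ({x} : Set PSL2)) := Nat.card_pos
      rcases hkC with h | ⟨-, h⟩ <;> omega
    · obtain ⟨h1, h3'⟩ := Dickson.card_centralizer_involution hF h7 hx2 hx1
      rcases (by omega : Fintype.card F % 4 = 1 ∨ Fintype.card F % 4 = 3) with h | h
      · exact ⟨Fintype.card F / 4, by omega, Or.inl (by omega), by rw [h1 h]; omega⟩
      · exact ⟨Fintype.card F / 4 + 1, by omega, Or.inr (by omega), by rw [h3' h]; omega⟩
  obtain ⟨μ, hμ, hq, hCμ⟩ := hC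
  refine ⟨μ, hμ, hq, hCμ, ?_, h4⟩
  obtain ⟨c, hc⟩ := Dickson.exists_conj_stdInvol hF hx2 hx1
  have e : numCommInv PSL2 x = Nat.card {z : PSL2 // (z ^ 2 = 1 ∧ z ≠ 1 ∧ z ≠ QuotientGroup.mk (Dickson.stdInvol F)) ∧
      z * QuotientGroup.mk (Dickson.stdInvol F) = QuotientGroup.mk (Dickson.stdInvol F) * z} := by
    refine Nat.card_congr ((MulAut.conj c⁻¹).toEquiv.subtypeEquiv fun z => ?_)
    rw [← hc]
    have hcx : c⁻¹ * x * c = MulAut.conj c⁻¹ x := by simp
    rw [hcx, MulEquiv.toEquiv_eq_coe, EquivLike.coe_coe, ← map_mul, ← map_mul, ← map_pow, orderOf_two_iff]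
    simp only [(MulAut.conj c⁻¹).injective.eq_iff, EmbeddingLike.map_eq_one_iff, ne_eq]
    tauto
  have h2 := Dickson.KleinClasses.card_centralizer_std (F := F) hF
  rw [← e, ← hc, Dickson.card_centralizer_conj, hCμ] at h2
  omega

end PSL


theorem numInv_alt_seven : numInv (alternatingGroup (Fin 7)) = 105 := by
  classical
  have htype : ∀ z : alternatingGroup (Fin 7), orderOf z = 2 ↔ (z : Equiv.Perm (Fin 7)).cycleType = {2, 2} := by
    intro z
    constructor
    · intro hz
      obtain ⟨w, hw⟩ : ∃ w : alternatingGroup (Fin 7), w = ⟨Equiv.swap 0 1 * Equiv.swap 2 3,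
          Equiv.Perm.mem_alternatingGroup.2 (by decide)⟩ := ⟨_, rfl⟩
      have hw2 : orderOf w = 2 := by subst hw; exact orderOf_eq_prime (by decide) (by decide)
      obtain ⟨g, hg⟩ := isConj_iff.1 (GW.DGroup.alt_seven_conj hw2 hz)
      rw [← hg]
      simp only [Subgroup.coe_mul, InvMemClass.coe_inv]
      rw [Equiv.Perm.cycleType_conj, hw]
      decide
    · intro hz
      rw [← Subgroup.orderOf_coe, ← Equiv.Perm.lcm_cycleType, hz]
      rfl
  rw [numInv, Nat.card_congr (Equiv.subtypeEquivRight htype), Nat.card_eq_fintype_card, Fintype.card_subtype,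
    AlternatingGroup.card_of_cycleType]
  decide

theorem numInv_congr {H : Type*} [Group H] {K : Type u} [Group K] (e : H ≃* K) :
    Nat.card {x : H // orderOf x = 2} = Nat.card {x : K // orderOf x = 2} :=
  Nat.card_congr (e.toEquiv.subtypeEquiv fun x => by
    rw [MulEquiv.toEquiv_eq_coe, EquivLike.coe_coe, e.orderOf_eq])

/-- An almost simple group with socle `PSL(2, q)`. -/
theorem psl_component_data (hD : GW.TwoCycDih G) (h1 : OneClass G) (E : Subgroup G) [E.Normal]
    {F : Type} [Field F] [Fintype F] (e : E ≃* Matrix.ProjectiveSpecialLinearGroup (Fin 2) F)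
    (hodd : Odd (Fintype.card F)) (h3 : 3 < Fintype.card F)
    {t v : G} (ht : orderOf t = 2) (hv : orderOf v = 2) (htv : Commute t v) (hne : t ≠ v) :
    ∃ μ f : ℕ, 0 < μ ∧ Odd f ∧ f = E.index ∧ Nat.card (centralizer ({t} : Set G)) = 4 * (μ * f) ∧
      Nat.card (centralizer ({t, v} : Set G)) = 4 * f ∧
      (numInv G = (4 * μ + 1) * (2 * μ + 1) ∨ numInv G = (4 * μ - 1) * (2 * μ - 1)) := by
  classical
  haveI : Fact (Nat.Prime 2) := ⟨Nat.prime_two⟩
  have hcardP := Linear.Two.card_PSL_two (F := F)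
  have hgcd : Nat.gcd 2 (Fintype.card F - 1) = 2 := Nat.gcd_eq_left (by have := Nat.odd_iff.1 hodd; omega)
  rw [hgcd, ← Nat.card_congr e.toEquiv, show Fintype.card F ^ 2 - 1 = (Fintype.card F + 1) * (Fintype.card F - 1) by
    rw [← Nat.sq_sub_sq, one_pow]] at hcardP
  have hEinv : ∀ x : G, orderOf x = 2 → x ∈ E := by
    intro x hx
    obtain ⟨a, ha⟩ : ∃ a, Fintype.card F = 2 * a + 1 := hodd
    obtain ⟨y, hy⟩ := exists_prime_orderOf_dvd_card' (G := E) 2 (by
      rw [ha, show 2 * a + 1 + 1 = 2 * (a + 1) by ring, show 2 * a + 1 - 1 = 2 * a by omega] at hcardP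
      exact ⟨(2 * a + 1) * ((a + 1) * a), by linarith⟩)
    obtain ⟨g, hg⟩ := h1 (y : G) x (by rw [Subgroup.orderOf_coe, hy]) hx
    exact hg ▸ (inferInstance : E.Normal).conj_mem _ y.2 g
  have hidx := odd_index_of_involutions hD E hEinv ht hv htv hne
  have heo : ∀ {a : G} (ha : a ∈ E), orderOf (e ⟨a, ha⟩) = orderOf a := fun ha => by
    rw [e.orderOf_eq, Subgroup.orderOf_mk]
  have hecomm : ∀ {a b : G} (ha : a ∈ E) (hb : b ∈ E), Commute a b ↔ Commute (e ⟨a, ha⟩) (e ⟨b, hb⟩) :=
    fun ha hb => by
      rw [Commute, SemiconjBy, Commute, SemiconjBy, ← map_mul, ← map_mul, e.injective.eq_iff, Subtype.ext_iff]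
      rfl
  have hdata : ∀ w : G, orderOf w = 2 → Commute t w → t ≠ w →
      ∃ μ : ℕ, 0 < μ ∧ (Fintype.card F = 4 * μ + 1 ∨ Fintype.card F + 1 = 4 * μ) ∧
        Nat.card ↥(centralizer ({t} : Set G) ⊓ E) = 4 * μ ∧
        Nat.card {y : G // (orderOf y = 2 ∧ y ≠ t) ∧ y * t = t * y} = 2 * μ ∧
        Nat.card ↥(centralizer ({t, w} : Set G) ⊓ E) = 4 := by
    intro w hw htw hnw
    obtain ⟨μ, hμ, hq, hC, hN, hC2⟩ := psl_involution_data hodd h3 (x := e ⟨t, hEinv t ht⟩) (y := e ⟨w, hEinv w hw⟩)
      ((heo _).trans ht) ((heo _).trans hw) ((hecomm _ _).1 htw)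
      (fun h => hnw (congrArg Subtype.val (e.injective h)))
    refine ⟨μ, hμ, hq, ?_, ?_, ?_⟩
    · rw [← hC]
      exact Nat.card_congr
        { toFun := fun a => ⟨e ⟨a.1, (mem_inf.1 a.2).2⟩, mem_centralizer_singleton_iff.2
            ((hecomm _ _).1 (mem_centralizer_singleton_iff.1 (mem_inf.1 a.2).1)).eq⟩
          invFun := fun b => ⟨(e.symm b.1 : G), mem_inf.2 ⟨mem_centralizer_singleton_iff.2
            ((hecomm (e.symm b.1).2 (hEinv t ht)).2 (by
              simp only [Subtype.coe_eta, MulEquiv.apply_symm_apply]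
              exact mem_centralizer_singleton_iff.1 b.2)).eq, (e.symm b.1).2⟩⟩
          left_inv := fun a => by simp
          right_inv := fun b => by simp }
    · rw [← hN]
      exact Nat.card_congr
        { toFun := fun a => ⟨e ⟨a.1, hEinv _ a.2.1.1⟩, ⟨(heo _).trans a.2.1.1,
            fun h => a.2.1.2 (congrArg Subtype.val (e.injective h))⟩, ((hecomm _ _).1 a.2.2).eq⟩
          invFun := fun b => ⟨(e.symm b.1 : G), ⟨by rw [Subgroup.orderOf_coe, e.symm.orderOf_eq]; exact b.2.1.1,
            fun h => b.2.1.2 (by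
              rw [← (e.apply_symm_apply b.1)]
              exact congrArg e (Subtype.ext h))⟩,
            ((hecomm (e.symm b.1).2 (hEinv t ht)).2 (by
              simp only [Subtype.coe_eta, MulEquiv.apply_symm_apply]
              exact b.2.2)).eq⟩
          left_inv := fun a => by simp
          right_inv := fun b => by simp }
    · rw [← hC2]
      exact Nat.card_congr
        { toFun := fun a => ⟨e ⟨a.1, (mem_inf.1 a.2).2⟩, mem_centralizer_iff.2 (by
            have ha := mem_centralizer_iff.1 (mem_inf.1 a.2).1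
            rintro _ (rfl | rfl)
            · exact ((hecomm _ _).1 (ha t (by simp))).eq
            · exact ((hecomm _ _).1 (ha w (by simp))).eq)⟩
          invFun := fun b => ⟨(e.symm b.1 : G), mem_inf.2 ⟨mem_centralizer_iff.2 (by
            have hb := mem_centralizer_iff.1 b.2
            intro z hz
            rcases Set.mem_insert_iff.1 hz with hz' | hz'
            · rw [hz']; exact ((hecomm (hEinv t ht) (e.symm b.1).2).2 (by
                simp only [Subtype.coe_eta, MulEquiv.apply_symm_apply]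
                exact hb _ (by simp))).eq
            · rw [Set.mem_singleton_iff.1 hz']; exact ((hecomm (hEinv _ hw) (e.symm b.1).2).2 (by
                simp only [Subtype.coe_eta, MulEquiv.apply_symm_apply]
                exact hb _ (by simp))).eq), (e.symm b.1).2⟩⟩
          left_inv := fun a => by simp
          right_inv := fun b => by simp }
  obtain ⟨μ, hμ, hq, hCt, hN, hCtv⟩ := hdata v hv htv hne
  have hG : Nat.card G = Nat.card E * E.index := (E.card_mul_index).symm
  -- the centralizer of `t` covers the quotient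
  have hsur : ∀ (A : Subgroup G), Nat.card A = Nat.card (A.map (QuotientGroup.mk' E)) * Nat.card ↥(A ⊓ E) := fun A => by
    have := card_eq_card_map_mul (QuotientGroup.mk' E) A
    rwa [QuotientGroup.ker_mk'] at this
  have hmapdvd : ∀ (A : Subgroup G), Nat.card (A.map (QuotientGroup.mk' E)) ∣ E.index := fun A => by
    rw [index_eq_card]; exact card_subgroup_dvd_card _
  set C := centralizer ({t} : Set G) with hCdef
  have hCall : C.map (QuotientGroup.mk' E) = ⊤ := by
    rw [eq_top_iff]
    intro q _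
    obtain ⟨g, rfl⟩ := QuotientGroup.mk'_surjective E q
    have hgt := (heo ((inferInstance : E.Normal).conj_mem t (hEinv t ht) g)).trans
      ((Invol.orderOf_conj_eq g t).trans ht)
    obtain ⟨c, hc⟩ := Dickson.exists_conj_involution (Nat.odd_iff.1 hodd)
      ((orderOf_two_iff _).1 hgt).1 ((orderOf_two_iff _).1 hgt).2
      ((orderOf_two_iff _).1 ((heo (hEinv t ht)).trans ht)).1 ((orderOf_two_iff _).1 ((heo (hEinv t ht)).trans ht)).2
    have hc' : ((e.symm c : E) : G)⁻¹ * (g * t * g⁻¹) * (e.symm c : E) = t := by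
      have := congrArg (fun z => ((e.symm z : E) : G)) hc
      simpa using this
    refine ⟨((e.symm c : E) : G)⁻¹ * g, mem_centralizer_singleton_iff.2 ?_, ?_⟩
    · calc _ = ((e.symm c : E) : G)⁻¹ * (g * t * g⁻¹) * (e.symm c : E) * (((e.symm c : E) : G)⁻¹ * g) := by group
        _ = _ := by rw [hc']
    · rw [map_mul, QuotientGroup.mk'_apply, (QuotientGroup.eq_one_iff _).2 (inv_mem (e.symm c : E).2), one_mul]

  have hCcard : Nat.card C = E.index * (4 * μ) := by
    rw [hsur C, hCall, card_top, ← index_eq_card, hCt]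
  obtain ⟨f', hf', hf'd⟩ : ∃ f', Nat.card (centralizer ({t, v} : Set G)) = f' * 4 ∧ f' ∣ E.index :=
    ⟨_, by rw [hsur, hCtv], hmapdvd _⟩
  -- the orbit of `v` under the centralizer of `t`
  let R := {y : G // (orderOf y = 2 ∧ y ≠ t) ∧ y * t = t * y}
  obtain ⟨r, hr, hr2⟩ : ∃ r, Nat.card C = Nat.card (centralizer ({t, v} : Set G)) * r ∧ r ≤ 2 * μ := by
    have hle : centralizer ({t, v} : Set G) ≤ C := centralizer_le (by simp)
    refine ⟨((centralizer ({t, v} : Set G)).subgroupOf C).index, ?_, hN ▸ ?_⟩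
    · have := ((centralizer ({t, v} : Set G)).subgroupOf C).card_mul_index
      rw [Nat.card_congr (subgroupOfEquivOfLe hle).toEquiv] at this
      exact this.symm
    · rw [index_eq_card]
      refine Nat.card_le_card_of_injective (fun q => (Quotient.liftOn' q (fun g : C =>
        (⟨(g : G) * v * (g : G)⁻¹, ⟨by rw [Invol.orderOf_conj_eq, hv], fun h => hne ?_⟩, ?_⟩ : R)) ?_)) ?_
      · have hgt : (g : G) * t = t * g := mem_centralizer_singleton_iff.1 g.2
        calc t = (g : G)⁻¹ * ((g : G) * t) := by group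
          _ = (g : G)⁻¹ * (t * g) := by rw [hgt]
          _ = (g : G)⁻¹ * ((g : G) * v * (g : G)⁻¹ * g) := by rw [h]
          _ = v := by group
      · exact (Commute.mul_left (Commute.mul_left (mem_centralizer_singleton_iff.1 g.2 : Commute (g : G) t) htv.symm)
          (Commute.inv_left (show Commute (g : G) t from mem_centralizer_singleton_iff.1 g.2))).eq
      · intro a b hab
        rw [QuotientGroup.leftRel_apply, mem_subgroupOf, centralizer_pair] at hab
        exact Subtype.ext (Invol.coset_iff_conj.1 (mem_inf.1 hab).2).symm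
      · rintro ⟨a⟩ ⟨b⟩ hab
        refine QuotientGroup.eq.2 ?_
        rw [mem_subgroupOf, centralizer_pair]
        exact mem_inf.2 ⟨(a⁻¹ * b).2, Invol.coset_iff_conj.2 (congrArg Subtype.val hab).symm⟩
  -- the same orbit count inside the socle
  obtain ⟨w, hw⟩ : μ ∣ r := by
    have hle : centralizer ({t, v} : Set G) ⊓ E ≤ C ⊓ E := inf_le_inf_right E (centralizer_le (by simp))
    have hrr : ((centralizer ({t, v} : Set G)).subgroupOf C).index = r := by
      have := ((centralizer ({t, v} : Set G)).subgroupOf C).card_mul_index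
      rw [Nat.card_congr (subgroupOfEquivOfLe (centralizer_le (by simp) : centralizer ({t, v} : Set G) ≤ C)).toEquiv,
        hr] at this
      exact Nat.eq_of_mul_eq_mul_left Nat.card_pos this
    rw [← hrr, ← relIndex]
    have h2 := relIndex_mul_relIndex (centralizer ({t, v} : Set G) ⊓ E) (C ⊓ E) C hle inf_le_left
    have h3 := relIndex_mul_relIndex (centralizer ({t, v} : Set G) ⊓ E) (centralizer ({t, v} : Set G)) C
      inf_le_left (centralizer_le (by simp))
    have e1 : ∀ {A B : Subgroup G}, A ≤ B → Nat.card A * A.relIndex B = Nat.card B := fun {A B} h => by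
      rw [← Nat.card_congr (subgroupOfEquivOfLe h).toEquiv]; exact (A.subgroupOf B).card_mul_index
    have hμ' : (centralizer ({t, v} : Set G) ⊓ E).relIndex (C ⊓ E) = μ := by
      have := e1 hle
      rw [hCtv, hCt] at this
      omega
    have hf'' : (centralizer ({t, v} : Set G) ⊓ E).relIndex (centralizer ({t, v} : Set G)) = f' := by
      have := e1 (A := centralizer ({t, v} : Set G) ⊓ E) (B := centralizer ({t, v} : Set G)) inf_le_left
      rw [hCtv, hf'] at this
      omega
    have hCE : (C ⊓ E).relIndex C = E.index := by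
      have := e1 (A := C ⊓ E) (B := C) inf_le_left
      rw [hCt, hCcard, mul_comm E.index] at this
      exact Nat.eq_of_mul_eq_mul_left (by omega) this
    rw [hμ', hCE] at h2
    rw [hf''] at h3
    obtain ⟨z, hz⟩ := hf'd
    refine ⟨z, Nat.eq_of_mul_eq_mul_left (show 0 < f' from ?_) ?_⟩
    · exact Nat.pos_of_ne_zero fun h0 => (Nat.card_pos (α := centralizer ({t, v} : Set G))).ne' (by rw [hf', h0, zero_mul])
    · rw [h3, ← h2, hz]; ring
  have hf : f' = E.index := by
    rw [hCcard, hf', hw] at hr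
    obtain ⟨z, hz⟩ := hf'd
    rw [hz] at hr
    have hzw : z = w := Nat.eq_of_mul_eq_mul_left (show 0 < 4 * μ * f' from ?_) (by linarith)
    · have hz2 : z ≤ 2 := by
        rw [hw, ← hzw, mul_comm 2 μ] at hr2
        exact Nat.le_of_mul_le_mul_left hr2 hμ
      have hzodd : Odd z := hidx.of_dvd_nat (hz ▸ dvd_mul_left z f')
      have : z = 1 := by obtain ⟨k, rfl⟩ := hzodd; omega
      rw [hz, this, mul_one]
    · have : 0 < f' := Nat.pos_of_ne_zero fun h0 => (Nat.card_pos (α := centralizer ({t, v} : Set G))).ne' (by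
        rw [hf', h0, zero_mul])
      positivity
  refine ⟨μ, E.index, hμ, hidx, rfl, by rw [hCcard]; ring, by rw [hf', hf]; ring, ?_⟩
  have hm := card_eq_centralizer_mul_numInv h1 ht
  rw [← hCdef, hCcard, hG] at hm
  have h8 : 8 * μ * numInv G = Fintype.card F * ((Fintype.card F + 1) * (Fintype.card F - 1)) := by
    rw [← hcardP]
    refine Nat.eq_of_mul_eq_mul_left hidx.pos ?_
    linarith
  rcases hq with h | h
  · left
    rw [h, show 4 * μ + 1 - 1 = 4 * μ by omega] at h8
    refine Nat.eq_of_mul_eq_mul_left (show 0 < 8 * μ by omega) ?_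
    rw [h8]; ring
  · right
    obtain ⟨k, rfl⟩ : ∃ k, μ = k + 1 := ⟨μ - 1, by omega⟩
    have hqk : Fintype.card F = 4 * k + 3 := by omega
    rw [hqk, show 4 * k + 3 - 1 = 4 * k + 2 by omega] at h8
    rw [show 4 * (k + 1) - 1 = 4 * k + 3 by omega, show 2 * (k + 1) - 1 = 2 * k + 1 by omega]
    refine Nat.eq_of_mul_eq_mul_left (show 0 < 8 * (k + 1) by omega) ?_
    rw [h8]; ring

end Cfsg.Lib.A4Stab

namespace Cfsg.Lib.A4Stab

open Subgroup

universe u

variable {G : Type u} [Group G] [Finite G]

/-- An involution centralizer of order 24 does not centralize a second involution. -/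
theorem card_pair_le_twelve (hD : GW.TwoCycDih G) {t v : G} (ht : orderOf t = 2) (hv : orderOf v = 2)
    (htv : Commute t v) (hne : t ≠ v) (h24 : Nat.card (centralizer ({t} : Set G)) = 24) :
    Nat.card (centralizer ({t, v} : Set G)) ≤ 12 := by
  classical
  haveI : Fact (Nat.Prime 2) := ⟨Nat.prime_two⟩
  have hle : centralizer ({t, v} : Set G) ≤ centralizer ({t} : Set G) := centralizer_le (by simp)
  obtain ⟨k, hk⟩ := card_dvd_of_le hle
  rw [h24] at hk
  rcases (show k = 0 ∨ k = 1 ∨ 2 ≤ k by omega) with rfl | rfl | hk2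
  · omega
  · exfalso
    have heq : centralizer ({t, v} : Set G) = centralizer ({t} : Set G) := eq_of_le_of_card_ge hle (by omega)
    obtain ⟨S⟩ : Nonempty (Sylow 2 (centralizer ({t} : Set G))) := inferInstance
    set T := (S : Subgroup (centralizer ({t} : Set G))).map (centralizer ({t} : Set G)).subtype
    have hT : IsPGroup 2 T := S.2.map _
    have hT8 : Nat.card T = 8 := by
      rw [card_map_of_injective (subtype_injective _)]
      obtain ⟨n, hn⟩ := IsPGroup.iff_card.1 S.2
      have h1 : 2 ^ 3 ∣ Nat.card (S : Subgroup (centralizer ({t} : Set G))) :=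
        S.pow_dvd_card_of_pow_dvd_card (by rw [h24]; norm_num)
      have h2 : 2 ^ n ∣ 24 := h24 ▸ hn ▸ card_subgroup_dvd_card _
      rw [hn, Nat.pow_dvd_pow_iff_le_right (by norm_num)] at h1
      rw [hn]
      rcases Nat.lt_or_ge n 4 with h | h
      · rw [show n = 3 by omega]; norm_num
      · exact absurd ((pow_dvd_pow 2 h).trans h2) (by norm_num)
    have hcomm : ∀ a ∈ T, Commute t a ∧ Commute v a := by
      rintro a ⟨⟨b, hb⟩, -, rfl⟩
      have hb' : b ∈ centralizer ({t, v} : Set G) := heq ▸ hb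
      exact ⟨mem_centralizer_iff.1 hb' t (by simp), mem_centralizer_iff.1 hb' v (by simp)⟩
    have hz : ∀ z : G, z ∈ centralizer ({t} : Set G) → (∀ a ∈ T, Commute z a) → orderOf z = 2 → z ∈ T := by
      intro z hzC hza hz2
      have hP : IsPGroup 2 ↥((S : Subgroup (centralizer ({t} : Set G))) ⊔ zpowers ⟨z, hzC⟩) := by
        refine S.2.to_sup_of_normal_right' (IsPGroup.of_card (n := 1) ?_) ?_
        · rw [Nat.card_zpowers, Subgroup.orderOf_mk, hz2, pow_one]
        · intro a ha
          refine centralizer_le_normalizer _ (mem_centralizer_iff.2 fun b hb => ?_)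
          obtain ⟨i, rfl⟩ := mem_zpowers_iff.1 hb
          refine (Commute.zpow_left ?_ i).eq
          exact Subtype.ext (hza a.1 ⟨a, ha, rfl⟩).eq
      have := S.3 hP le_sup_left
      exact ⟨⟨z, hzC⟩, this.le (mem_sup_right (mem_zpowers _)), rfl⟩
    have htT : t ∈ T := hz t (mem_centralizer_singleton_iff.2 rfl) (fun a ha => (hcomm a ha).1) ht
    have hvT : v ∈ T := hz v (mem_centralizer_singleton_iff.2 htv.eq.symm) (fun a ha => (hcomm a ha).2) hv
    obtain ⟨R, hR, hRi, hout⟩ := hD T hT
    haveI := hR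
    obtain ⟨r, hr⟩ := IsCyclic.exists_ofOrder_eq_natCard (α := R)
    have hR4 : 4 ≤ orderOf (r : T) := by
      rw [Subgroup.orderOf_coe, hr]
      have := R.card_mul_index
      rw [hT8] at this
      by_contra hlt
      have : Nat.card R * R.index ≤ 3 * 2 := Nat.mul_le_mul (by omega) hRi
      omega
    have hkey : ∀ z : T, (∀ a : T, Commute z a) → z ∉ R → False := by
      intro z hzc hzR
      have h1 := hout (z * (r : T)) (fun h => hzR ((mul_mem_cancel_right r.2).1 h))
      have h2 := hout z hzR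
      rw [(hzc _).symm.mul_mul_mul_comm, h2, one_mul] at h1
      have := Nat.le_of_dvd two_pos (orderOf_dvd_of_pow_eq_one (by rw [pow_two]; exact h1) : orderOf (r : T) ∣ 2)
      omega
    by_cases htR : (⟨t, htT⟩ : T) ∈ R
    · refine hkey ⟨v, hvT⟩ (fun a => Subtype.ext (hcomm a.1 a.2).2.eq) fun hvR => hne ?_
      letI := Fintype.ofFinite R
      by_contra hne'
      have hsub : ({1, (⟨_, htR⟩ : R), ⟨_, hvR⟩} : Finset R) ⊆ Finset.univ.filter fun a => a ^ 2 = 1 := by
        intro a ha
        simp only [Finset.mem_insert, Finset.mem_singleton] at ha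
        simp only [Finset.mem_filter, Finset.mem_univ, true_and]
        rcases ha with rfl | rfl | rfl
        · exact one_pow 2
        · exact Subtype.ext (Subtype.ext (by simp [sq, Invol.inv_mul_self ht]))
        · exact Subtype.ext (Subtype.ext (by simp [sq, Invol.inv_mul_self hv]))
      have h3 := (Finset.card_le_card hsub).trans (IsCyclic.card_pow_eq_one_le two_pos)
      rw [Finset.card_insert_of_notMem, Finset.card_pair] at h3
      · omega
      · simpa [Subtype.ext_iff] using hne'
      · simp only [Finset.mem_insert, Finset.mem_singleton, Subtype.ext_iff, Subgroup.coe_one]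
        exact fun h => h.elim (fun e => Invol.ne_one ht e.symm) fun e => Invol.ne_one hv e.symm
    · exact hkey ⟨t, htT⟩ (fun a => Subtype.ext (hcomm a.1 a.2).1.eq) htR
  · have : 2 * Nat.card (centralizer ({t, v} : Set G)) ≤ k * Nat.card (centralizer ({t, v} : Set G)) :=
      Nat.mul_le_mul_right _ hk2
    rw [mul_comm k, ← hk] at this
    omega

/-- The numerical data of a group with dihedral Sylow two-subgroups and one class of involutions. -/
def LocalData (G : Type u) [Group G] (t v : G) : Prop :=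
  (∃ μ s D : ℕ, Odd s ∧ Odd D ∧ 0 < μ ∧ Nat.card (centralizer ({t, v} : Set G)) = 4 * D ∧
      Nat.card (centralizer ({t} : Set G)) = 4 * (μ * s * D) ∧
      (numInv G = s * s * ((4 * μ + 1) * (2 * μ + 1)) ∨ numInv G = s * s * ((4 * μ - 1) * (2 * μ - 1)))) ∨
    (8 ∣ Nat.card G ∧ ¬ 16 ∣ Nat.card G ∧ ∃ d s : ℕ, Odd s ∧
      Nat.card (centralizer ({t} : Set G)) = 24 * (d * s) ∧
      Nat.card (centralizer ({t, v} : Set G)) ≤ 12 * d ∧ numInv G = 105 * (s * s))

theorem local_data (hD : GW.TwoCycDih G) (h1 : OneClass G) {t v : G} (ht : orderOf t = 2) (hv : orderOf v = 2)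
    (htv : Commute t v) (hne : t ≠ v) : LocalData G t v := by
  classical
  haveI : Fact (Nat.Prime 2) := ⟨Nat.prime_two⟩
  set O := Cfsg.oddCore G with hOdef
  have hO : Odd (Nat.card O) := ZStar.odd_card_oddCore
  haveI : O.Normal := inferInstance
  set π := QuotientGroup.mk' O with hπ
  have hconjC : ∀ w : G, orderOf w = 2 →
      Nat.card ↥(O ⊓ centralizer ({w} : Set G)) = Nat.card ↥(O ⊓ centralizer ({t} : Set G)) := by
    intro w hw
    obtain ⟨g, hg⟩ := h1 t w ht hw
    refine (Nat.card_congr ((MulAut.conj g).toEquiv.subtypeEquiv fun a => ?_)).symm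
    rw [MulEquiv.toEquiv_eq_coe, EquivLike.coe_coe, mem_inf, mem_inf, mem_centralizer_singleton_iff,
      mem_centralizer_singleton_iff, MulAut.conj_apply, ← hg]
    refine and_congr ⟨fun h => (inferInstance : O.Normal).conj_mem a h g, fun h => ?_⟩ ?_
    · have := (inferInstance : O.Normal).conj_mem _ h g⁻¹
      simpa [mul_assoc] using this
    · rw [show g * a * g⁻¹ * (g * t * g⁻¹) = g * (a * t) * g⁻¹ by group,
        show g * t * g⁻¹ * (g * a * g⁻¹) = g * (t * a) * g⁻¹ by group]
      exact ⟨fun h => by rw [h], fun h => mul_left_cancel (mul_right_cancel h)⟩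
  have hvt : orderOf (v * t) = 2 := Invol.orderOf_eq_two_of
    (fun h => hne ((inv_eq_of_mul_eq_one_right h).symm.trans (Invol.inv_eq_self hv)).symm.symm)
    (by rw [htv.mul_mul_mul_comm, Invol.inv_mul_self hv, Invol.inv_mul_self ht, one_mul])
  obtain ⟨s, hs, hcd, hOcard⟩ := brauer_wielandt O hO ht hv htv hne (hconjC v hv) (hconjC _ hvt)
  set c := Nat.card ↥(O ⊓ centralizer ({t} : Set G)) with hc
  set d := Nat.card ↥(O ⊓ centralizer ({t, v} : Set G)) with hd
  have ht' := orderOf_mk_involution O hO ht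
  have hv' := orderOf_mk_involution O hO hv
  have htv' : Commute (π t) (π v) := htv.map π
  have hne' : π t ≠ π v := fun h => by
    have hm : t * v ∈ O := (QuotientGroup.eq_one_iff _).1 (show π (t * v) = 1 by
      rw [map_mul, h, Invol.inv_mul_self hv'])
    refine hne ((mul_eq_one_iff_eq_inv.1 (eq_of_odd_sq hO hm ?_)).trans (Invol.inv_eq_self hv))
    rw [htv.symm.mul_mul_mul_comm, Invol.inv_mul_self ht, Invol.inv_mul_self hv, one_mul]
  have h1' : OneClass (G ⧸ O) := oneClass_quotient h1 O hO
  have hD' : GW.TwoCycDih (G ⧸ O) := hD.quotient O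
  have hC : Nat.card (centralizer ({t} : Set G)) = Nat.card (centralizer ({π t} : Set (G ⧸ O))) * c := by
    rw [card_eq_card_map_mul π, GW.DGroup.centralizer_lift O hO ht, hπ, QuotientGroup.ker_mk', inf_comm]
  have hC2 : Nat.card (centralizer ({t, v} : Set G)) = Nat.card (centralizer ({π t, π v} : Set (G ⧸ O))) * d := by
    rw [card_eq_card_map_mul π, centralizer_lift_pair O hO ht hv htv, hπ, QuotientGroup.ker_mk', inf_comm]
  have hnum : numInv G = s * s * numInv (G ⧸ O) := by
    have e1 := card_eq_centralizer_mul_numInv h1 ht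
    have e2 := card_eq_centralizer_mul_numInv h1' ht'
    rw [card_eq_card_quotient_mul_card_subgroup O, e2, hOcard, hC] at e1
    refine (Nat.eq_of_mul_eq_mul_left (show 0 < Nat.card (centralizer ({π t} : Set (G ⧸ O))) * c from
      Nat.mul_pos Nat.card_pos Nat.card_pos) ?_).symm
    rw [← e1]; ring
  have hdodd : Odd d := hO.of_dvd_nat (card_dvd_of_le inf_le_left)
  have hGW := GW.simpleGW.{u}
  rcases GW.shape hD' (GW.gwSections_of_simpleGW hGW hD') Core.pPrimeCore_quotient_eq_bot with
    h2 | ⟨V, hV, hK, hVc, h12⟩ | ⟨E, hE, hs', hna, hgw, -, hCE, -, -⟩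
  · exfalso
    haveI : Nontrivial (G ⧸ O) := nontrivial_of_ne _ _ (Invol.ne_one ht')
    haveI := h2.center_nontrivial
    obtain ⟨z, hz⟩ := exists_prime_orderOf_dvd_card' (G := center (G ⧸ O)) 2 (by
      obtain ⟨k, hk⟩ := (h2.to_subgroup (center (G ⧸ O))).exists_card_eq
      rw [hk]
      refine dvd_pow_self 2 fun h0 => ?_
      rw [h0, pow_zero] at hk
      exact absurd hk (Finite.one_lt_card.ne' ))
    have hz' : orderOf (z : G ⧸ O) = 2 := by rw [Subgroup.orderOf_coe, hz]
    have hall : ∀ a : G ⧸ O, orderOf a = 2 → a = z := fun a ha => by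
      obtain ⟨g, hg⟩ := h1' z a hz' ha
      rw [← hg, mem_center_iff.1 z.2 g, mul_inv_cancel_right]
    exact hne' ((hall _ ht').trans (hall _ hv').symm)
  · haveI := hV
    haveI := hK
    have hinv : ∀ a : G ⧸ O, orderOf a = 2 → a ∈ V := fun a ha => by
      obtain ⟨z, hz⟩ := exists_prime_orderOf_dvd_card' (G := V) 2 (by rw [hK.card_four]; norm_num)
      obtain ⟨g, hg⟩ := h1' z a (by rw [Subgroup.orderOf_coe, hz]) ha
      exact hg ▸ hV.conj_mem _ z.2 g
    have hodd := odd_index_of_involutions hD' V hinv ht' hv' htv' hne'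
    have hcard : Nat.card (G ⧸ O) = 12 := by
      rcases h12 with h | h
      · exact h
      · exfalso
        have := V.card_mul_index
        rw [hK.card_four, h] at this
        obtain ⟨k, hk⟩ := hodd
        omega
    have hn3 : numInv (G ⧸ O) = 3 := by
      have e : numInv (G ⧸ O) = Nat.card {a : V // a ≠ 1} := Nat.card_congr
        { toFun := fun a => ⟨⟨a.1, hinv _ a.2⟩, fun h => Invol.ne_one a.2 (congrArg Subtype.val h)⟩
          invFun := fun a => ⟨a.1.1, Invol.orderOf_eq_two_of (fun h => a.2 (Subtype.ext h))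
            (congrArg Subtype.val (IsKleinFour.mul_self a.1))⟩
          left_inv := fun a => rfl
          right_inv := fun a => rfl }
      haveI : Finite V := inferInstance
      letI := Fintype.ofFinite V
      rw [e, Nat.card_eq_fintype_card, Fintype.card_subtype_compl, Fintype.card_subtype_eq, IsKleinFour.card_four']
    have hCt : Nat.card (centralizer ({π t} : Set (G ⧸ O))) = 4 := by
      have := card_eq_centralizer_mul_numInv h1' ht'
      rw [hcard, hn3] at this
      exact Nat.eq_of_mul_eq_mul_right (show 0 < 3 by norm_num) (this.symm.trans (by norm_num))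
    have hle : V ≤ centralizer ({π t, π v} : Set (G ⧸ O)) := fun a ha => mem_centralizer_iff.2 fun b hb => by
      have hbV : b ∈ V := by rcases hb with rfl | rfl; exacts [hinv _ ht', hinv _ hv']
      exact congrArg Subtype.val ((IsKleinFour.isMulCommutative (G := V)).is_comm.comm ⟨b, hbV⟩ ⟨a, ha⟩)
    have hC2' : Nat.card (centralizer ({π t, π v} : Set (G ⧸ O))) = 4 := by
      refine le_antisymm (hCt ▸ card_le_of_le (centralizer_le (by simp))) ?_
      rw [← hK.card_four]
      exact card_le_of_le hle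
    refine Or.inl ⟨1, s, d, hs, hdodd, one_pos, by rw [hC2, hC2'], by rw [hC, hCt, hcd]; ring, Or.inr ?_⟩
    rw [hnum, hn3]
  · haveI := hE
    rcases hgw with ⟨F, iF, iF', hodd, h3, ⟨e⟩⟩ | ⟨⟨e⟩⟩
    · obtain ⟨μ, f, hμ, hf, -, hCt, hCtv, hn⟩ := psl_component_data hD' h1' E e hodd h3 ht' hv' htv' hne'
      refine Or.inl ⟨μ, s, f * d, hs, hf.mul hdodd, hμ, by rw [hC2, hCtv]; ring, by rw [hC, hCt, hcd]; ring, ?_⟩
      rcases hn with h | h
      · exact Or.inl (by rw [hnum, h])
      · exact Or.inr (by rw [hnum, h])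
    · have htop := GW.DGroup.eq_top_of_alt_seven hD' E hCE e
      have hcard : Nat.card (G ⧸ O) = 2520 := by
        rw [← card_top, ← htop, Nat.card_congr e.toEquiv, nat_card_alternatingGroup, Nat.card_fin]
        rfl
      have hn : numInv (G ⧸ O) = 105 := by
        rw [← numInv_alt_seven]
        exact (numInv_congr ((topEquiv.symm.trans (MulEquiv.subgroupCongr htop.symm)).trans e).symm).symm
      have hCt : Nat.card (centralizer ({π t} : Set (G ⧸ O))) = 24 := by
        have := card_eq_centralizer_mul_numInv h1' ht'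
        rw [hcard, hn] at this
        exact Nat.eq_of_mul_eq_mul_right (show 0 < 105 by norm_num) (this.symm.trans (by norm_num))
      have hG : Nat.card G = 2520 * Nat.card O := by rw [← hcard, ← card_eq_card_quotient_mul_card_subgroup]
      have hOodd := Nat.odd_iff.1 hO
      refine Or.inr ⟨by rw [hG]; exact dvd_mul_of_dvd_left (by norm_num) _, ?_, d, s, hs,
        by rw [hC, hCt, hcd], ?_, by rw [hnum, hn, mul_comm]⟩
      · rw [hG]; omega
      · rw [hC2]
        exact Nat.mul_le_mul_right d (card_pair_le_twelve hD' ht' hv' htv' hne' hCt)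

end Cfsg.Lib.A4Stab
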