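import Cfsg.Agent.Lib.A4Stab.Small
import Mathlib.GroupTheory.Transfer

/-!
# The degree `91`
-/

set_option autoImplicit false
set_option linter.style.haveILetI false
set_option linter.unusedSectionVars false

namespace Cfsg.Lib.A4Stab

open Subgroup MulAction

universe u w

variable {G : Type u} [Group G] [Finite G] {Ω : Type w} [Finite Ω] [MulAction G Ω] [FaithfulSMul G Ω]

theorem prime_le_fix {g : G} {A : Set G} {q : ℕ} (hq : q.Prime) (hg : orderOf g = q) (hA : ∀ x ∈ A, Commute g x)
    {p : Ω} (hp : p ∈ (fix A : Set Ω)) (hgp : g • p ≠ p) : q ≤ (fix A : Set Ω).ncard := by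
  have hper : period g p = q := by
    rcases (Nat.dvd_prime hq).1 (hg ▸ period_dvd_orderOf g p) with h | h
    · refine absurd ?_ hgp
      have := pow_period_smul g p
      rwa [h, pow_one] at this
    · exact h
  have hmem : ∀ k : Fin q, g ^ (k : ℕ) • p ∈ (fix A : Set Ω) := fun k x hx => by
    rw [← mul_smul, ← ((hA x hx).pow_left k).eq, mul_smul, hp x hx]
  refine le_trans ?_ (Nat.card_coe_set_eq (fix A : Set Ω)).le
  calc q = Nat.card (Fin q) := (Nat.card_fin q).symm
    _ ≤ _ := Nat.card_le_card_of_injective (fun k => (⟨_, hmem k⟩ : (fix A : Set Ω))) fun k l h => by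
      have h' : g ^ (k : ℕ) • p = g ^ (l : ℕ) • p := congrArg Subtype.val h
      rw [← pow_mod_period_smul (k : ℕ), ← pow_mod_period_smul (l : ℕ), hper, Nat.mod_eq_of_lt k.2,
        Nat.mod_eq_of_lt l.2] at h'
      rcases le_total (k : ℕ) l with hle | hle
      · have : g ^ ((l : ℕ) - k) • p = p := by
          refine MulAction.injective (g ^ (k : ℕ)) ?_
          show g ^ (k : ℕ) • g ^ ((l : ℕ) - k) • p = g ^ (k : ℕ) • p
          rw [← mul_smul, ← pow_add, Nat.add_sub_cancel' hle, h']
        rw [pow_smul_eq_iff_period_dvd, hper] at this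
        refine Fin.ext ?_
        have := Nat.eq_zero_of_dvd_of_lt this (by omega)
        omega
      · have : g ^ ((k : ℕ) - l) • p = p := by
          refine MulAction.injective (g ^ (l : ℕ)) ?_
          show g ^ (l : ℕ) • g ^ ((k : ℕ) - l) • p = g ^ (l : ℕ) • p
          rw [← mul_smul, ← pow_add, Nat.add_sub_cancel' hle, h']
        rw [pow_smul_eq_iff_period_dvd, hper] at this
        refine Fin.ext ?_
        have := Nat.eq_zero_of_dvd_of_lt this (by omega)
        omega

theorem exists_fix_of_pGroup {r : ℕ} [Fact r.Prime] {R : Subgroup G} (hR : IsPGroup r R)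
    (h : ¬ r ∣ Nat.card Ω) : ∃ p : Ω, p ∈ (fix (R : Set G) : Set Ω) := by
  obtain ⟨p, hp⟩ := hR.nonempty_fixed_point_of_prime_not_dvd_card Ω h
  exact ⟨p, fun x hx => hp ⟨x, hx⟩⟩

namespace Base

variable {a b : Ω} {t v : G}

theorem card_dvd_twelve_of_fix (B : Base G a b t v) (R : Subgroup G) (h : 2 ≤ (fix (R : Set G) : Set Ω).ncard) :
    Nat.card R ∣ 12 := by
  obtain ⟨p, q, hp, hq, hne⟩ := (Set.one_lt_ncard_iff (Set.toFinite _)).1 h
  rw [← (B.toCtx.change hne).card_pairStab]
  exact card_dvd_of_le fun x hx => mem_pairStab.2 ⟨hp x hx, hq x hx⟩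

theorem false_ninetyOne (B : Base G a b t v) (hn : Nat.card Ω = 91) (hi : (fix {t} : Set Ω).ncard = 7)
    (hall : ∀ g : G, orderOf g = 2 → IsT G Ω g) : False := by
  haveI : Fact (Nat.Prime 13) := ⟨by norm_num⟩
  obtain ⟨hG, -, -⟩ := B.cards
  rw [hn, show 12 * (91 * (91 - 1)) = 98280 by norm_num] at hG
  obtain ⟨P⟩ : Nonempty (Sylow 13 G) := inferInstance
  obtain ⟨m, hm⟩ := IsPGroup.iff_card.1 P.2
  have hP : Nat.card (P : Subgroup G) = 13 := by
    have hd : Nat.card (P : Subgroup G) ∣ 98280 := hG ▸ card_subgroup_dvd_card _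
    have h1 : 13 ∣ Nat.card (P : Subgroup G) := by
      simpa using P.pow_dvd_card_of_pow_dvd_card (n := 1) (by rw [hG]; norm_num)
    rw [hm] at hd h1 ⊢
    rcases m with - | - | m
    · norm_num at h1
    · norm_num
    · exact absurd ((pow_dvd_pow 13 (show 2 ≤ m + 1 + 1 by omega)).trans hd) (by norm_num)
  obtain ⟨g, hg⟩ := exists_prime_orderOf_dvd_card' (G := (P : Subgroup G)) 13 (by rw [hP])
  have hgo : orderOf (g : G) = 13 := by rw [Subgroup.orderOf_coe, hg]
  have hfree : ∀ p : Ω, (g : G) • p ≠ p := by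
    intro p hp
    obtain ⟨q, hq⟩ : ∃ q : Ω, p ≠ q := by
      rcases eq_or_ne p a with e | e
      · exact ⟨b, e ▸ B.toCtx.ne⟩
      · exact ⟨a, e⟩
    obtain ⟨t', v', B'⟩ := exists_base (B.toCtx.change hq)
    obtain ⟨-, h2, -⟩ := B'.cards
    have h13 := Subgroup.orderOf_dvd_natCard (stabilizer G p) (mem_stabilizer_iff.2 hp : (g : G) ∈ stabilizer G p)
    rw [hgo, h2, hn] at h13
    norm_num at h13
  set C := centralizer ((P : Subgroup G) : Set G)
  have hcom : ∀ x ∈ C, Commute (g : G) x := fun x hx => mem_centralizer_iff.1 hx _ g.2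
  have hbig : ∀ R : Subgroup G, R ≤ C → (∃ p : Ω, p ∈ (fix (R : Set G) : Set Ω)) →
      13 ≤ (fix (R : Set G) : Set Ω).ncard := fun R hR ⟨p, hp⟩ =>
    prime_le_fix (by norm_num) hgo (fun x hx => hcom x (hR hx)) hp (hfree p)
  have h2 : ¬ 2 ∣ Nat.card C := by
    intro h
    haveI : Fact (Nat.Prime 2) := ⟨Nat.prime_two⟩
    obtain ⟨x, hx⟩ := exists_prime_orderOf_dvd_card' (G := C) 2 h
    have hxo : orderOf (x : G) = 2 := by rw [Subgroup.orderOf_coe, hx]
    obtain ⟨-, p, q, -, hp, -⟩ := id (hall _ hxo)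
    have h13 := prime_le_fix (A := {(x : G)}) (by norm_num) hgo
      (fun y hy => by rw [Set.mem_singleton_iff.1 hy]; exact hcom _ x.2) (mem_fix_singleton.2 hp) (hfree p)
    rw [B.fix_isT (hall _ hxo), hi] at h13
    omega
  have h5 : ¬ 5 ∣ Nat.card C := by
    intro h
    haveI : Fact (Nat.Prime 5) := ⟨by norm_num⟩
    obtain ⟨x, hx⟩ := exists_prime_orderOf_dvd_card' (G := C) 5 h
    have hxc : Nat.card (zpowers (x : G)) = 5 := by rw [Nat.card_zpowers, Subgroup.orderOf_coe, hx]
    have h13 := hbig _ (zpowers_le.2 x.2) (exists_fix_of_pGroup (r := 5)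
      (IsPGroup.of_card (n := 1) (by rw [hxc, pow_one])) (by rw [hn]; norm_num))
    have := B.card_dvd_twelve_of_fix (zpowers (x : G)) (by omega)
    rw [hxc] at this
    norm_num at this
  have h9 : ¬ 9 ∣ Nat.card C := by
    intro h
    haveI : Fact (Nat.Prime 3) := ⟨Nat.prime_three⟩
    obtain ⟨R, hR⟩ := Sylow.exists_subgroup_card_pow_prime (G := C) 3 (n := 2) (by simpa using h)
    have hRc : Nat.card (R.map C.subtype) = 9 := by
      rw [card_map_of_injective (subtype_injective _), hR]; norm_num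
    have h13 := hbig _ (map_subtype_le R) (exists_fix_of_pGroup (r := 3)
      (IsPGroup.of_card (n := 2) (by rw [hRc]; norm_num)) (by rw [hn]; norm_num))
    have := B.card_dvd_twelve_of_fix (R.map C.subtype) (by omega)
    rw [hRc] at this
    norm_num at this
  haveI hPcyc : IsCyclic (P : Subgroup G) := isCyclic_of_prime_card hP
  have hPC : (P : Subgroup G) ≤ C := fun x hx => mem_centralizer_iff.2 fun y hy =>
    congrArg Subtype.val ((IsCyclic.isMulCommutative (α := (P : Subgroup G))).is_comm.comm ⟨y, hy⟩ ⟨x, hx⟩)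
  obtain ⟨c, hc⟩ : 13 ∣ Nat.card C := hP ▸ card_dvd_of_le hPC
  have hc21 : c = 1 ∨ c = 3 ∨ c = 7 ∨ c = 21 := by
    have hd : 13 * c ∣ 13 * 7560 := by rw [← hc]; exact (card_subgroup_dvd_card C).trans (by rw [hG])
    have hc' : c ∣ 7560 := Nat.dvd_of_mul_dvd_mul_left (by norm_num) hd
    have hnd : ∀ r, ¬ r ∣ Nat.card C → ¬ r ∣ c := fun r hr h => hr (hc ▸ h.mul_left 13)
    have hco : Nat.Coprime c (2 ^ 3 * 5) :=
      Nat.Coprime.mul_right (Nat.Coprime.pow_right 3 ((Nat.prime_two.coprime_iff_not_dvd.2 (hnd 2 h2)).symm))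
        (((show Nat.Prime 5 by norm_num).coprime_iff_not_dvd.2 (hnd 5 h5)).symm)
    have h189 : c ∣ 189 := hco.dvd_of_dvd_mul_left (show c ∣ 2 ^ 3 * 5 * 189 by norm_num; exact hc')
    have hmem : c ∈ Nat.divisors 189 := Nat.mem_divisors.2 ⟨h189, by norm_num⟩
    rw [show Nat.divisors 189 = {1, 3, 7, 9, 21, 27, 63, 189} by decide] at hmem
    simp only [Finset.mem_insert, Finset.mem_singleton] at hmem
    have := hnd 9 h9
    omega
  set N := normalizer ((P : Subgroup G) : Set G)
  have he : (C.subgroupOf N).index ∣ 12 := by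
    have key := card_dvd_of_injective _ (QuotientGroup.kerLift_injective (P : Subgroup G).normalizerMonoidHom)
    rw [normalizerMonoidHom_ker, ← index, IsCyclic.card_mulAut, hP] at key
    exact key
  have hNC : Nat.card N = Nat.card C * (C.subgroupOf N).index := by
    rw [← (C.subgroupOf N).card_mul_index,
      Nat.card_congr (subgroupOfEquivOfLe (centralizer_le_normalizer _ : C ≤ N)).toEquiv]
  have hsyl : Nat.card (Sylow 13 G) * (c * (C.subgroupOf N).index) = 7560 := by
    have h := N.card_mul_index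
    rw [show N.index = Nat.card (Sylow 13 G) from (Sylow.card_eq_index_normalizer P).symm, hG, hNC, hc] at h
    refine Nat.eq_of_mul_eq_mul_left (show 0 < 13 by norm_num) ?_
    rw [show 13 * 7560 = 98280 by norm_num, ← h]
    ring
  have hmod : Nat.card (Sylow 13 G) % 13 = 1 := card_sylow_modEq_one 13 G
  have hone : (C.subgroupOf N).index = 1 := by
    have hmem : (C.subgroupOf N).index ∈ Nat.divisors 12 := Nat.mem_divisors.2 ⟨he, by norm_num⟩
    rw [show Nat.divisors 12 = {1, 2, 3, 4, 6, 12} by decide] at hmem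
    simp only [Finset.mem_insert, Finset.mem_singleton] at hmem
    rcases hc21 with rfl | rfl | rfl | rfl <;> rcases hmem with e | e | e | e | e | e <;> rw [e] at hsyl <;> omega
  have hle : N ≤ C := fun x hx => by
    have : (⟨x, hx⟩ : N) ∈ C.subgroupOf N := by rw [index_eq_one.1 hone]; exact mem_top _
    exact mem_subgroupOf.1 this
  set M := (MonoidHom.transferSylow P hle).ker
  have hM : Nat.card M = 7560 := by
    have : Nat.card M * Nat.card (P : Subgroup G) = Nat.card G :=
      (MonoidHom.ker_transferSylow_isComplement' P hle).card_mul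
    rw [hG, hP] at this
    omega
  have hMne : M ≠ ⊥ := fun h => by rw [h, card_bot] at hM; omega
  have hor : MulAction.orbit M a = Set.univ := Set.eq_univ_of_forall fun p => by
    obtain ⟨x, hx, hxa⟩ := B.transitive_of_normal M hMne p
    exact ⟨⟨x, hx⟩, hxa⟩
  have hMi := (stabilizer M a).card_mul_index
  rw [index_stabilizer, hor, Set.ncard_univ, hn, hM] at hMi
  have : 91 ∣ 7560 := ⟨_, (mul_comm _ _).trans hMi |>.symm⟩
  norm_num at this

end Base

end Cfsg.Lib.A4Stab
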