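import Cfsg.Agent.Lib.A4Stab.Point
import Cfsg.Agent.Lib.ZStar.Main

/-!
# Odd degree: the classes of involutions
-/

set_option autoImplicit false
set_option linter.style.haveILetI false
set_option linter.unusedSectionVars false

namespace Cfsg.Lib.A4Stab

open Subgroup MulAction

universe u w

variable {G : Type u} [Group G] [Finite G] {Ω : Type w} [Finite Ω] [MulAction G Ω] [FaithfulSMul G Ω]

/-- An isolated involution gives `G = C(z) O(G)`. -/
theorem centralizer_sup_oddCore {z : G} (hz : IsIsolatedInvolution z) :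
    centralizer ({z} : Set G) ⊔ Cfsg.oddCore G = ⊤ := by
  set O := Cfsg.oddCore G
  have hc := GW.DGroup.centralizer_lift O ZStar.odd_card_oddCore hz.1
  refine eq_top_iff.2 fun g _ => ?_
  have hg : QuotientGroup.mk' O g ∈ centralizer ({QuotientGroup.mk' O z} : Set (G ⧸ O)) := by
    rw [mem_centralizer_singleton_iff]
    have h1 : QuotientGroup.mk' O (z * g * z⁻¹ * g⁻¹) = 1 :=
      (QuotientGroup.eq_one_iff _).2 (ZStar.zStarHolds G z hz g)
    rw [map_mul, map_mul, map_mul, map_inv, map_inv] at h1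
    exact (mul_inv_eq_iff_eq_mul.1 (mul_inv_eq_one.1 h1)).symm
  rw [hc] at hg
  obtain ⟨c, hc', hce⟩ := hg
  have := mul_mem (mem_sup_left (T := O) hc') (mem_sup_right (S := centralizer ({z} : Set G))
    (QuotientGroup.eq.1 hce : c⁻¹ * g ∈ O))
  rwa [mul_inv_cancel_left] at this

/-- In odd degree an involution outside the class of `t` fixes exactly one point. -/
theorem fix_eq_one_of_not_isT (hn : Nat.card Ω % 2 = 1) {g : G} (hg : orderOf g = 2) (hnT : ¬ IsT G Ω g) :
    ∃ c : Ω, (fix {g} : Set Ω) = {c} := by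
  have h2 := card_fix_mod_two (Ω := Ω) hg
  rw [hn] at h2
  refine Set.ncard_eq_one.1 ?_
  by_contra hne
  obtain ⟨p, q, hp, hq, hpq⟩ := (Set.one_lt_ncard_iff (Set.toFinite _)).1
    (show 1 < (fix {g} : Set Ω).ncard by omega)
  exact hnT ⟨hg, p, q, hpq, mem_fix_singleton.1 hp, mem_fix_singleton.1 hq⟩

namespace Base

variable {a b : Ω} {t v : G}

/-- The number of involutions fixing exactly one point, per point. -/
theorem card_single (B : Base G a b t v) (hn : Nat.card Ω % 2 = 1) :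
    {g | (orderOf g = 2 ∧ ¬ IsT G Ω g) ∧ g • a = a}.ncard =
      {g | (orderOf g = 2 ∧ ¬ IsT G Ω g) ∧ Swaps g a b}.ncard := by
  set T := {g : G | orderOf g = 2 ∧ ¬ IsT G Ω g} with hT
  have htr : ∀ p ∈ (Set.univ : Set Ω), ∀ q ∈ (Set.univ : Set Ω), p ≠ q →
      ∃ k ∈ (⊤ : Subgroup G), k • p = a ∧ k • q = b := fun p _ q _ hne => by
    obtain ⟨g, hg⟩ := B.toCtx.two hne B.toCtx.ne
    exact ⟨g, mem_top g, hg⟩
  have hconj : ∀ k ∈ (⊤ : Subgroup G), ∀ u ∈ T, k * u * k⁻¹ ∈ T := by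
    rintro k - u ⟨h1, h2⟩
    refine ⟨by rw [Invol.orderOf_conj_eq, h1], fun h => h2 ?_⟩
    have := h.conj k⁻¹
    rwa [show k⁻¹ * (k * u * k⁻¹) * k⁻¹⁻¹ = u by group] at this
  have hone : ∀ u ∈ T, (fix {u} : Set Ω).ncard = 1 := fun u hu => by
    obtain ⟨c, hc⟩ := fix_eq_one_of_not_isT hn hu.1 hu.2
    rw [hc, Set.ncard_singleton]
  have hF := pair_count B.toCtx.ne ⊤ Set.univ (Set.mem_univ a) (Set.mem_univ b) (fun _ _ _ _ => Set.mem_univ _) htr
    T hconj (fun u p _ => u • p = p) (fun k u p q h => by show (k * u * k⁻¹) • k • p = k • p; rw [conj_smul, h])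
    (Nat.card Ω - 1) fun u hu => by
      obtain ⟨c, hc⟩ := fix_eq_one_of_not_isT hn hu.1 hu.2
      have e : {x : Ω × Ω | x.1 ∈ Set.univ ∧ x.2 ∈ Set.univ ∧ x.1 ≠ x.2 ∧ u • x.1 = x.1} =
          (fun q => (c, q)) '' ((Set.univ : Set Ω) \ {c}) := by
        ext ⟨p, q⟩
        constructor
        · rintro ⟨-, -, hne, hp⟩
          have hpc : p = c := by
            have : p ∈ (fix {u} : Set Ω) := mem_fix_singleton.2 hp
            rwa [hc, Set.mem_singleton_iff] at this
          subst hpc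
          exact ⟨q, ⟨Set.mem_univ q, fun h => hne (Set.mem_singleton_iff.1 h).symm⟩, rfl⟩
        · rintro ⟨q', ⟨-, hq'⟩, h⟩
          obtain ⟨rfl, rfl⟩ := Prod.ext_iff.1 h
          refine ⟨Set.mem_univ _, Set.mem_univ _, fun h => hq' (Set.mem_singleton_iff.2 h.symm), ?_⟩
          have : c ∈ (fix {u} : Set Ω) := by rw [hc]; rfl
          exact mem_fix_singleton.1 this
      rw [e, Set.ncard_image_of_injective _ (fun x y h => congrArg Prod.snd h),
        Set.ncard_diff_singleton_of_mem (Set.mem_univ c), Set.ncard_univ]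
  have hS := pair_count B.toCtx.ne ⊤ Set.univ (Set.mem_univ a) (Set.mem_univ b) (fun _ _ _ _ => Set.mem_univ _) htr
    T hconj (fun u p q => Swaps u p q) (fun k u p q h => h.conj) (Nat.card Ω - 1) fun u hu => by
      show {x : Ω × Ω | x.1 ∈ Set.univ ∧ x.2 ∈ Set.univ ∧ x.1 ≠ x.2 ∧ (u • x.1 = x.2 ∧ u • x.2 = x.1)}.ncard = _
      rw [card_swap_pairs _ (smul_smul_of_sq (Invol.inv_mul_self hu.1)) (fun _ _ => Set.mem_univ _),
        Set.univ_inter, hone u hu, Set.ncard_univ]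
  rw [Set.ncard_univ] at hF hS
  rw [hF] at hS
  have hlt := B.fix_lt
  have := B.two_le_fix₂.trans B.fix₂_le
  exact Nat.eq_of_mul_eq_mul_left (Nat.mul_pos (by omega) (by omega)) hS

/-- Three values `1, 3` of the count are impossible or give an isolated involution. -/
theorem central_small (B : Base G a b t v) (hn : Nat.card Ω % 2 = 1) {z : G} (hz : CentralSwap G a b z)
    (h : ¬ (IsT G Ω z ∧ IsT G Ω (z * v))) :
    ∃ J : G, orderOf J = 2 ∧ centralizer ({J} : Set G) ⊔ Cfsg.oddCore G = ⊤ := by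
  rcases B.central_beta hz with ⟨h1, h2, -⟩ | ⟨hzT, hzv, -⟩ | ⟨hzT, hzv, -⟩
  · exact absurd ⟨h1, h2⟩ h
  · exfalso
    have ht2 : orderOf (z * t) = 2 := Invol.orderOf_eq_two_of
      (fun e => B.not_swaps_of_mem (show z ∈ pairStab G a b by rw [mul_eq_one_iff_eq_inv.1 e]; exact inv_mem B.htH) hz.swaps)
      ((B.central_swap_invol hz).2 ⟨t, B.t_mem_four, rfl⟩).2
    have hsw : ∀ y ∈ B.toCtx.four, orderOf (z * y) = 2 := fun y hy => Invol.orderOf_eq_two_of
      (fun e => B.not_swaps_of_mem (show z ∈ pairStab G a b by rw [mul_eq_one_iff_eq_inv.1 e]; exact inv_mem hy.1) hz.swaps)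
      ((B.central_swap_invol hz).2 ⟨y, hy, rfl⟩).2
    have htvm : t * v ∈ B.toCtx.four := mul_mem B.t_mem_four B.v_mem_four
    have hnot : ∀ y ∈ B.toCtx.four, y ≠ 1 → ¬ IsT G Ω (z * y) := fun y hy hy1 h' =>
      hzv ((B.isT_mul_four hz hy hy1).1 h')
    obtain ⟨c, hc⟩ := fix_eq_one_of_not_isT hn (hsw v B.v_mem_four) hzv
    have hcv : (z * v) • c = c := mem_fix_singleton.1 (by rw [hc]; rfl)
    have hfixc : ∀ y ∈ B.toCtx.four, y ≠ 1 → (z * y) • c = c := by
      intro y hy hy1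
      have hcom : Commute (z * v) (z * y) :=
        ((Commute.refl z).mul_right (hz.comm y hy.1)).mul_left (((hz.comm v B.hvH).symm).mul_right
          (B.toCtx.commute_four B.v_mem_four hy))
      have : (z * y) • c ∈ (fix {z * v} : Set Ω) := mem_fix_singleton.2 (by rw [← mul_smul, hcom.eq, mul_smul, hcv])
      rwa [hc, Set.mem_singleton_iff] at this
    obtain ⟨q, hq⟩ : ∃ q : Ω, c ≠ q := by
      rcases eq_or_ne c a with e | e
      · exact ⟨b, e ▸ B.toCtx.ne⟩
      · exact ⟨a, e⟩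
    obtain ⟨k, hka, hkb⟩ := B.toCtx.two B.toCtx.ne hq
    -- exactly three at `c`
    have hU : {g | (orderOf g = 2 ∧ ¬ IsT G Ω g) ∧ g • c = c} = {z * t, z * v, z * (t * v)} := by
      have h3 : ({z * t, z * v, z * (t * v)} : Set G).ncard = 3 := by
        rw [show ({z * t, z * v, z * (t * v)} : Set G) = (z * ·) '' {t, v, t * v} by
          simp [Set.image_insert_eq], Set.ncard_image_of_injective _ (mul_right_injective z), B.ncard_three]
      refine (Set.eq_of_subset_of_ncard_le ?_ ?_).symm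
      · rintro g (rfl | rfl | rfl)
        · exact ⟨⟨ht2, hnot t B.t_mem_four (Invol.ne_one B.ht)⟩, hfixc t B.t_mem_four (Invol.ne_one B.ht)⟩
        · exact ⟨⟨hsw v B.v_mem_four, hzv⟩, hcv⟩
        · exact ⟨⟨hsw _ htvm, hnot _ htvm B.tv_ne_one⟩, hfixc _ htvm B.tv_ne_one⟩
      · have e : {g | (orderOf g = 2 ∧ ¬ IsT G Ω g) ∧ g • c = c} =
            (fun g => k * g * k⁻¹) '' {g | (orderOf g = 2 ∧ ¬ IsT G Ω g) ∧ g • a = a} := by
          ext g
          constructor
          · rintro ⟨⟨h1, h2⟩, h3'⟩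
            refine ⟨k⁻¹ * g * k, ⟨⟨?_, fun h => h2 ?_⟩, ?_⟩, by group⟩
            · rw [show k⁻¹ * g * k = k⁻¹ * g * k⁻¹⁻¹ by rw [inv_inv], Invol.orderOf_conj_eq, h1]
            · have := h.conj k
              rwa [show k * (k⁻¹ * g * k) * k⁻¹ = g by group] at this
            · rw [mul_smul, mul_smul, hka, h3', ← hka, inv_smul_smul]
          · rintro ⟨g', ⟨⟨h1, h2⟩, h3'⟩, rfl⟩
            refine ⟨⟨by rw [Invol.orderOf_conj_eq, h1], fun h => h2 ?_⟩, by rw [← hka, conj_smul, h3']⟩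
            have := h.conj k⁻¹
            rwa [show k⁻¹ * (k * g' * k⁻¹) * k⁻¹⁻¹ = g' by group] at this
        rw [e, Set.ncard_image_of_injective _ (fun x y h => mul_left_cancel (mul_right_cancel h)), B.card_single hn, h3]
        refine le_trans (Set.ncard_le_ncard (t := ({z * t, z * v, z * (t * v)} : Set G)) ?_) h3.le
        rintro g ⟨⟨hg, hgT⟩, hgs⟩
        obtain ⟨y, hy, rfl⟩ := (B.central_swap_invol hz).1 ⟨hgs, Invol.inv_mul_self hg⟩
        rcases B.four_cases hy with rfl | rfl | rfl | rfl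
        · exact absurd (by rwa [mul_one]) hgT
        all_goals simp
    -- their product `z` is central in the stabilizer of `c`
    have hzc : ∀ g : G, g • c = c → Commute g z := by
      intro g hg
      have hperm : ∀ y ∈ B.toCtx.four, y ≠ 1 → ∃ y' ∈ B.toCtx.four, y' ≠ 1 ∧ g * (z * y) * g⁻¹ = z * y' := by
        intro y hy hy1
        have hm : g * (z * y) * g⁻¹ ∈ {g | (orderOf g = 2 ∧ ¬ IsT G Ω g) ∧ g • c = c} := by
          refine ⟨⟨by rw [Invol.orderOf_conj_eq, hsw y hy], fun h => hnot y hy hy1 ?_⟩, ?_⟩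
          · have := h.conj g⁻¹
            rwa [show g⁻¹ * (g * (z * y) * g⁻¹) * g⁻¹⁻¹ = z * y by group] at this
          · rw [mul_smul, mul_smul, inv_smul_eq_iff.2 hg.symm, hfixc y hy hy1, hg]
        rw [hU] at hm
        rcases hm with e | e | e
        · exact ⟨t, B.t_mem_four, Invol.ne_one B.ht, e⟩
        · exact ⟨v, B.v_mem_four, Invol.ne_one B.hv, e⟩
        · exact ⟨t * v, htvm, B.tv_ne_one, e⟩
      obtain ⟨y1, hy1, hy11, e1⟩ := hperm t B.t_mem_four (Invol.ne_one B.ht)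
      obtain ⟨y2, hy2, hy21, e2⟩ := hperm v B.v_mem_four (Invol.ne_one B.hv)
      obtain ⟨y3, hy3, hy31, e3⟩ := hperm (t * v) htvm B.tv_ne_one
      have hne12 : y1 ≠ y2 := fun e => B.htv (mul_left_cancel (mul_left_cancel (mul_right_cancel (e1.trans (e ▸ e2.symm)))))
      have hne13 : y1 ≠ y3 := fun e => Invol.ne_one B.hv
        (mul_eq_left.1 (mul_left_cancel (mul_left_cancel (mul_right_cancel (e1.trans (e ▸ e3.symm))))).symm)
      have hne23 : y2 ≠ y3 := fun e => Invol.ne_one B.ht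
        (mul_eq_right.1 (mul_left_cancel (mul_left_cancel (mul_right_cancel (e2.trans (e ▸ e3.symm))))).symm)
      haveI := B.toCtx.isKleinFour_four
      have hprod : y3 = y1 * y2 :=
        ((Invol.klein_mem_cases hy1 hy2 hy11 hy21 hne12 hy3 hy31).resolve_left hne13.symm).resolve_left hne23.symm
      have hzy : ∀ y y' : G, y ∈ B.toCtx.four → y' ∈ B.toCtx.four → z * y * (z * y') * (z * (y * y')) = z := by
        intro y y' hy hy'
        rw [(hz.comm y hy.1).symm.mul_mul_mul_comm, Invol.inv_mul_self hz.ord, one_mul, ← mul_assoc,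
          ← (hz.comm (y * y') (mul_mem hy.1 hy'.1)).eq, mul_assoc, (mul_mem hy hy' : y * y' ∈ B.toCtx.four).2, mul_one]
      have e : g * z * g⁻¹ = z := by
        conv_lhs => rw [← hzy t v B.t_mem_four B.v_mem_four]
        rw [show g * (z * t * (z * v) * (z * (t * v))) * g⁻¹ =
          (g * (z * t) * g⁻¹) * (g * (z * v) * g⁻¹) * (g * (z * (t * v)) * g⁻¹) by group, e1, e2, e3, hprod]
        exact hzy y1 y2 hy1 hy2
      exact mul_inv_eq_iff_eq_mul.1 e
    have hzfix : z • c = c := by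
      have h1 := hfixc t B.t_mem_four (Invol.ne_one B.ht)
      have h2 := hfixc v B.v_mem_four (Invol.ne_one B.hv)
      have h3 := hfixc _ htvm B.tv_ne_one
      have e : z = z * t * (z * v) * (z * (t * v)) := by
        rw [(hz.comm t B.htH).symm.mul_mul_mul_comm, Invol.inv_mul_self hz.ord, one_mul, ← mul_assoc,
          ← (hz.comm (t * v) (mul_mem B.htH B.hvH)).eq, mul_assoc, (htvm : t * v ∈ B.toCtx.four).2, mul_one]
      rw [e, mul_smul, mul_smul, h3, h2, h1]
    obtain ⟨-, p, p', hne, hp, hp'⟩ := hzT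
    obtain ⟨p₀, hp₀, hpc⟩ : ∃ p₀, z • p₀ = p₀ ∧ p₀ ≠ c := by
      rcases eq_or_ne p c with rfl | h
      · exact ⟨p', hp', hne.symm⟩
      · exact ⟨p, hp, h⟩
    refine Invol.ne_one hz.ord (eq_one_of_fix_univ (Ω := Ω) fun x => ?_)
    rcases eq_or_ne x c with rfl | hx
    · exact hzfix
    obtain ⟨g, hgc, hgx⟩ := B.toCtx.two hpc.symm hx.symm
    rw [← hgx, ← mul_smul, ← (hzc g hgc).eq, mul_smul, hp₀]
  · refine ⟨z, hz.ord, centralizer_sup_oddCore ⟨hz.ord, fun g hg => ?_⟩⟩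
    obtain ⟨c, hc⟩ := fix_eq_one_of_not_isT hn hz.ord hzT
    have hgz : ¬ IsT G Ω (g * z * g⁻¹) := fun h => hzT (by
      have := h.conj g⁻¹
      rwa [show g⁻¹ * (g * z * g⁻¹) * g⁻¹⁻¹ = z by group] at this)
    have hzc : z • c = c := mem_fix_singleton.1 (by rw [hc]; rfl)
    have hgc : (g * z * g⁻¹) • c = c := by
      have : (g * z * g⁻¹) • c ∈ (fix {z} : Set Ω) := mem_fix_singleton.2 (by rw [← mul_smul, hg.eq, mul_smul, hzc])
      rwa [hc, Set.mem_singleton_iff] at this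
    obtain ⟨q, hq⟩ : ∃ q : Ω, c ≠ q := by
      rcases eq_or_ne c a with e | e
      · exact ⟨b, e ▸ B.toCtx.ne⟩
      · exact ⟨a, e⟩
    obtain ⟨k, hka, -⟩ := B.toCtx.two hq B.toCtx.ne
    have h1 : {g | (orderOf g = 2 ∧ ¬ IsT G Ω g) ∧ g • a = a}.ncard ≤ 1 := by
      rw [B.card_single hn]
      refine (Set.ncard_le_ncard (t := ({z} : Set G)) ?_).trans (by rw [Set.ncard_singleton])
      rintro x ⟨⟨hx, hxT⟩, hxs⟩
      obtain ⟨y, hy, rfl⟩ := (B.central_swap_invol hz).1 ⟨hxs, Invol.inv_mul_self hx⟩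
      by_cases hy1 : y = 1
      · simp [hy1]
      · exact absurd ((B.isT_mul_four hz hy hy1).2 hzv) hxT
    have hm : ∀ x : G, orderOf x = 2 → ¬ IsT G Ω x → x • c = c →
        k * x * k⁻¹ ∈ {g | (orderOf g = 2 ∧ ¬ IsT G Ω g) ∧ g • a = a} := fun x hx hxT hxc => by
      refine ⟨⟨by rw [Invol.orderOf_conj_eq, hx], fun h => hxT ?_⟩, by rw [← hka, conj_smul, hxc]⟩
      have := h.conj k⁻¹
      rwa [show k⁻¹ * (k * x * k⁻¹) * k⁻¹⁻¹ = x by group] at this
    exact mul_left_cancel (mul_right_cancel ((Set.ncard_le_one (Set.toFinite _)).1 h1 _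
      (hm _ (by rw [Invol.orderOf_conj_eq, hz.ord]) hgz hgc) _ (hm z hz.ord hzT hzc)))

/-- Otherwise all involutions fix at least two points. -/
theorem all_isT (B : Base G a b t v)
    (h : ∀ z : G, CentralSwap G a b z → IsT G Ω z ∧ IsT G Ω (z * v)) {g : G} (hg : orderOf g = 2) : IsT G Ω g := by
  obtain ⟨p, hp⟩ : ∃ p : Ω, g • p ≠ p := by
    by_contra hc
    push Not at hc
    exact Invol.ne_one hg (eq_one_of_fix_univ hc)
  obtain ⟨k, hka, hkb⟩ := B.toCtx.two hp.symm B.toCtx.ne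
  have hs : Swaps (k * g * k⁻¹) a b := ⟨by rw [← hka, conj_smul, hkb], by
    rw [← hkb, conj_smul, smul_smul_of_sq (Invol.inv_mul_self hg), hka]⟩
  have hT : IsT G Ω (k * g * k⁻¹) := by
    rcases B.dichotomy with ⟨z, hz⟩ | ⟨u, hu⟩
    · obtain ⟨y, hy, e⟩ := (B.central_swap_invol hz).1 ⟨hs, Invol.inv_mul_self (by rw [Invol.orderOf_conj_eq, hg])⟩
      rw [e]
      by_cases hy1 : y = 1
      · rw [hy1, mul_one]; exact (h z hz).1
      · exact (B.isT_mul_four hz hy hy1).2 (h z hz).2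
    · exact B.outer_isT hu (by rw [Invol.orderOf_conj_eq, hg]) hs
  have := hT.conj k⁻¹
  rwa [show k⁻¹ * (k * g * k⁻¹) * k⁻¹⁻¹ = g by group] at this

end Base

end Cfsg.Lib.A4Stab
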