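import Cfsg.Agent.Lib.A4Stab.CentralOdd
import Cfsg.Agent.S0016

/-!
# Odd degree: an outer swap
-/

set_option autoImplicit false
set_option linter.style.haveILetI false
set_option linter.unusedSectionVars false

namespace Cfsg.Lib.A4Stab

open Subgroup MulAction

universe u w

/-- A two-group with one involution and at most two elements squaring to it is cyclic. -/
theorem isCyclic_of_two_roots {R : Type*} [Group R] [Finite R] (hR : IsPGroup 2 R) {y t : R} (hy : y * y = t)
    (ht : orderOf t = 2) (hu : ∀ x : R, orderOf x = 2 → x = t)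
    (hroot : ∀ g : R, g * g = t → g = y ∨ g = y * t) : IsCyclic R := by
  haveI : Fact (Nat.Prime 2) := ⟨Nat.prime_two⟩
  have huniq : ∀ H K : Subgroup R, Nat.card H = 2 → Nat.card K = 2 → H = K := by
    have key : ∀ H : Subgroup R, Nat.card H = 2 → H = zpowers t := by
      intro H hH
      obtain ⟨x, hx⟩ := exists_prime_orderOf_dvd_card' (G := H) 2 (by rw [hH])
      have hxt : (x : R) = t := hu _ (by rw [Subgroup.orderOf_coe, hx])
      refine (eq_of_le_of_card_ge (zpowers_le.2 (hxt ▸ x.2)) ?_).symm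
      rw [Nat.card_zpowers, ht, hH]
    intro H K hH hK
    rw [key H hH, key K hK]
  rcases Cfsg.Agent.S0016.result 2 hR huniq with h | ⟨-, n, ⟨e⟩⟩
  · exact h
  have hy4 : orderOf y = 4 := orderOf_eq_prime_pow (p := 2) (n := 1)
    (by rw [pow_one, pow_two, hy]; exact Invol.ne_one ht)
    (by rw [show 2 ^ (1 + 1) = 2 * 2 by rfl, pow_mul, pow_two y, hy, pow_two, Invol.inv_mul_self ht])
  rcases Nat.eq_zero_or_pos n with rfl | hn
  · refine isCyclic_of_orderOf_eq_card y ?_
    rw [hy4, Nat.card_congr e.toEquiv, Nat.card_eq_fintype_card, QuaternionGroup.card]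
    norm_num
  exfalso
  set m := 2 ^ n with hm
  haveI : NeZero m := ⟨by positivity⟩
  have h2m : 2 ≤ m := by
    rw [hm]
    calc 2 = 2 ^ 1 := rfl
      _ ≤ 2 ^ n := Nat.pow_le_pow_right two_pos hn
  have hsq : ∀ i : ZMod (2 * m), e.symm (QuaternionGroup.xa i) * e.symm (QuaternionGroup.xa i) = t := fun i => by
    have h4 := QuaternionGroup.orderOf_xa (n := m) i
    rw [← e.symm.orderOf_eq] at h4
    refine hu _ ?_
    rw [← pow_two, orderOf_pow, h4]
    rfl
  have hne : ∀ i k : ℕ, i < 3 → k < 3 → i ≠ k →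
      e.symm (QuaternionGroup.xa (i : ZMod (2 * m))) ≠ e.symm (QuaternionGroup.xa (k : ZMod (2 * m))) := by
    intro i k hi hk hik h
    have h' := e.symm.injective h
    rw [QuaternionGroup.xa.injEq, ZMod.natCast_eq_natCast_iff'] at h'
    rw [Nat.mod_eq_of_lt (by omega), Nat.mod_eq_of_lt (by omega)] at h'
    exact hik h'
  rcases hroot _ (hsq ((0 : ℕ) : ZMod (2 * m))) with e0 | e0 <;>
    rcases hroot _ (hsq ((1 : ℕ) : ZMod (2 * m))) with e1 | e1 <;>
      rcases hroot _ (hsq ((2 : ℕ) : ZMod (2 * m))) with e2 | e2 <;>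
        first
          | exact hne 0 1 (by norm_num) (by norm_num) (by norm_num) (e0.trans e1.symm)
          | exact hne 0 2 (by norm_num) (by norm_num) (by norm_num) (e0.trans e2.symm)
          | exact hne 1 2 (by norm_num) (by norm_num) (by norm_num) (e1.trans e2.symm)

variable {G : Type u} [Group G] [Finite G] {Ω : Type w} [Finite Ω] [MulAction G Ω] [FaithfulSMul G Ω]

namespace Base

variable {a b : Ω} {t v u : G}

theorem outer_no_central (B : Base G a b t v) (hu : OuterSwap G a b t v u) (z : G) (hz : CentralSwap G a b z) :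
    False :=
  hu.none z hz.swaps (hz.comm t B.htH) (hz.comm v B.hvH)

theorem outer_all (B : Base G a b t v) (hu : OuterSwap G a b t v u) {g : G} (hg : orderOf g = 2) : IsT G Ω g :=
  B.all_isT (fun z hz => (B.outer_no_central hu z hz).elim) hg

theorem outer_everywhere (B : Base G a b t v) (hu : OuterSwap G a b t v u) {p q : Ω} {t' v' : G}
    (B' : Base G p q t' v') : ∃ u', OuterSwap G p q t' v' u' := by
  rcases B'.dichotomy with ⟨z, hz⟩ | h
  · exfalso
    have e := B.beta_const B'
    rw [B.outer_beta hu] at e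
    rcases B'.central_beta hz with ⟨-, -, h⟩ | ⟨-, -, h⟩ | ⟨-, -, h⟩ <;> omega
  · exact h

/-- A new base at which the outer swap fixes a base point. -/
theorem exists_outer_fixed (B : Base G a b t v) (hn : Nat.card Ω % 2 = 1) (hu : OuterSwap G a b t v u) :
    ∃ c q : Ω, Base G c q t v ∧ u • c = c := by
  have huu : u * u = 1 := Invol.inv_mul_self hu.ord
  have huN : u ∈ normalizer (B.toCtx.four : Set G) := B.mem_normalizer_of_conj hu.comm (by
    rw [hu.moves]; exact mul_mem B.t_mem_four B.v_mem_four)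
  obtain ⟨c, hc, huc⟩ := exists_fixed_of_odd (fix {t, v}) (by rw [B.fix₂_mod_two]; exact hn)
    (fun p hp => B.fix_smul_normalizer huN hp) (fun p _ => smul_smul_of_sq huu p)
  obtain ⟨q, hq, hcq⟩ : ∃ q ∈ (fix {t, v} : Set Ω), c ≠ q := by
    rcases eq_or_ne c a with e | e
    · exact ⟨b, B.b_mem_fix₂, e ▸ B.toCtx.ne⟩
    · exact ⟨a, B.a_mem_fix₂, e⟩
  exact ⟨c, q, B.change hcq hc hq, huc⟩

theorem outer_pair_half (B : Base G a b t v) (hua : u • a = a) (hut : Commute u t) (huv : u * v * u⁻¹ = t * v) :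
    Nat.card ↥(centralizer ({t, v} : Set G) ⊓ stabilizer G a) = 2 * ((fix {t, v} : Set Ω).ncard - 1) := by
  obtain ⟨-, -, -, -, -, -, hK⟩ := B.cards
  rcases B.card_pair_cases with h | h
  · exfalso
    have hle : centralizer ({t, v} : Set G) ⊓ stabilizer G a ≤
        centralizer ({t} : Set G) ⊓ normalizer (B.toCtx.four : Set G) ⊓ stabilizer G a := fun g hg => by
      obtain ⟨h1, h2⟩ := mem_inf.1 hg
      rw [centralizer_pair] at h1
      obtain ⟨h3, h4⟩ := mem_inf.1 h1
      exact mem_inf.2 ⟨mem_inf.2 ⟨h3, B.mem_normalizer_of_commute (mem_centralizer_singleton_iff.1 h3)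
        (mem_centralizer_singleton_iff.1 h4)⟩, h2⟩
    have he := eq_of_le_of_card_ge hle (by rw [h, hK])
    have hu' : u ∈ centralizer ({t} : Set G) ⊓ normalizer (B.toCtx.four : Set G) ⊓ stabilizer G a :=
      mem_inf.2 ⟨mem_inf.2 ⟨mem_centralizer_singleton_iff.2 hut.eq, B.mem_normalizer_of_conj hut (by
        rw [huv]; exact mul_mem B.t_mem_four B.v_mem_four)⟩, hua⟩
    rw [← he] at hu'
    have hc : v * u = u * v := mem_centralizer_iff.1 (mem_inf.1 hu').1 v (by simp)
    rw [← hc, mul_inv_cancel_right] at huv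
    exact Invol.ne_one B.ht (mul_eq_right.1 huv.symm)
  · omega

/-- The square roots of `t` fixing `a`. -/
theorem root_cases (B : Base G a b t v) (hn : Nat.card Ω % 2 = 1) {u₁ : G} (h₁ : OuterSwap G a b t v u₁)
    (huo : orderOf u = 2) (hua : u • a = a) (hut : Commute u t) (huv : u * v * u⁻¹ = t * v) :
    u * v * (u * v) = t ∧ ∀ g : G, g * g = t → g • a = a → g = u * v ∨ g = u * v * t := by
  have huu : u * u = 1 := Invol.inv_mul_self huo
  have hy : u * v * (u * v) = t := by
    calc u * v * (u * v) = (u * v * u) * v := by group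
      _ = t * v * v := by rw [← huv, Invol.inv_eq_self huo]
      _ = t := by rw [mul_assoc, B.hvv, mul_one]
  refine ⟨hy, ?_⟩
  set T := {g : G | g ∈ centralizer ({t} : Set G) ∧ g * g = t}
  have hmem : ∀ g : G, g * g = t → g ∈ T := fun g hg =>
    ⟨mem_centralizer_singleton_iff.2 (by rw [← hg, mul_assoc]), hg⟩
  have hsw : {g | g ∈ T ∧ Swaps g a b} ⊆ {u₁ * v, u₁ * (t * v)} := by
    rintro g ⟨⟨hgC, hgg⟩, hs⟩
    have h4 : u₁⁻¹ * g ∈ B.toCtx.four := B.mem_four_of_commute (h₁.swaps.inv.mul_mem hs)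
      ((h₁.comm.inv_left).mul_left (mem_centralizer_singleton_iff.1 hgC))
    rcases B.four_cases h4 with e | e | e | e
    · refine absurd ?_ (Invol.ne_one B.ht)
      rw [← hgg, ← inv_mul_eq_one.1 e, Invol.inv_mul_self h₁.ord]
    · refine absurd ?_ (Invol.ne_one B.ht)
      rw [← hgg, inv_mul_eq_iff_eq_mul.1 e, h₁.comm.symm.mul_mul_mul_comm, Invol.inv_mul_self h₁.ord, B.htt,
        one_mul]
    · exact Or.inl (inv_mul_eq_iff_eq_mul.1 e)
    · exact Or.inr (inv_mul_eq_iff_eq_mul.1 e)
  have h2 : {g | g ∈ T ∧ g • a = a}.ncard ≤ 2 := by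
    rw [B.root_count hn]
    refine (Set.ncard_le_ncard hsw).trans ((Set.ncard_insert_le _ _).trans ?_)
    rw [Set.ncard_singleton]
  have hva : v • a = a := B.v_mem_stab
  have hta : t • a = a := B.t_mem_stab
  have hsub : ({u * v, u * v * t} : Set G) ⊆ {g | g ∈ T ∧ g • a = a} := by
    rintro g (rfl | rfl)
    · exact ⟨hmem _ hy, by rw [mul_smul, hva, hua]⟩
    · refine ⟨hmem _ ?_, by rw [mul_smul, mul_smul, hta, hva, hua]⟩
      rw [(hut.mul_left B.commute_tv.symm).symm.mul_mul_mul_comm, hy, B.htt, mul_one]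
  have heq := Set.eq_of_subset_of_ncard_le hsub (by
    rw [Set.ncard_pair fun e => Invol.ne_one B.ht (mul_eq_left.1 e.symm)]; exact h2)
  intro g hg hga
  exact heq.ge ⟨hmem g hg, hga⟩

theorem twoCycDih_outer (B : Base G a b t v) (hn : Nat.card Ω % 2 = 1) {u₁ : G} (h₁ : OuterSwap G a b t v u₁)
    (huo : orderOf u = 2) (hua : u • a = a) (hut : Commute u t) (huv : u * v * u⁻¹ = t * v) :
    GW.TwoCycDih ↥(stabilizer G a) := by
  haveI : Fact (Nat.Prime 2) := ⟨Nat.prime_two⟩
  have hall : ∀ g ∈ stabilizer G a, orderOf g = 2 → IsT G Ω g := fun g _ hg => B.outer_all h₁ hg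
  obtain ⟨hy, hroot⟩ := B.root_cases hn h₁ huo hua hut huv
  set tH : stabilizer G a := ⟨t, B.t_mem_stab⟩
  have htH : orderOf tH = 2 := by rw [Subgroup.orderOf_mk, B.ht]
  set yH : stabilizer G a := ⟨u * v, show (u * v) • a = a by
    rw [mul_smul, show v • a = a from B.v_mem_stab, hua]⟩
  have hyH : yH * yH = tH := Subtype.ext hy
  set C := centralizer ({tH} : Set ↥(stabilizer G a))
  have hyC : yH ∈ C := mem_centralizer_singleton_iff.2 (by rw [← hyH, mul_assoc])
  -- a Sylow subgroup of the centralizer containing `y`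
  have hP : IsPGroup 2 (zpowers (⟨yH, hyC⟩ : C)) := by
    refine IsPGroup.of_card (n := 2) ?_
    rw [Nat.card_zpowers, Subgroup.orderOf_mk]
    refine orderOf_eq_prime_pow (p := 2) (n := 1) ?_ ?_
    · rw [pow_one, pow_two, hyH]; exact Invol.ne_one htH
    · rw [show 2 ^ (1 + 1) = 2 * 2 by rfl, pow_mul, pow_two yH, hyH, pow_two, Invol.inv_mul_self htH]
  obtain ⟨S, hS⟩ := hP.exists_le_sylow
  -- it is a Sylow subgroup of the stabilizer
  have hodd : ¬ 2 ∣ ((S : Subgroup C).map C.subtype).index := by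
    rw [index_map_of_injective _ (subtype_injective _), range_subtype]
    refine Nat.Prime.not_dvd_mul Nat.prime_two S.not_dvd_index fun h => ?_
    have hidx : C.index = numInv ↥(stabilizer G a) := Nat.eq_of_mul_eq_mul_left (Nat.card_pos (α := C))
      (C.card_mul_index.trans (card_eq_centralizer_mul_numInv (B.oneClass_stab hall) htH))
    rw [hidx, B.numInv_stab hall, B.outer_beta h₁] at h
    omega
  set S' : Sylow 2 ↥(stabilizer G a) := (S.2.map C.subtype).toSylow hodd
  refine GW.TwoCycDih.of_sylow S' ?_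
  have e : (S : Subgroup C) ≃* (S' : Subgroup ↥(stabilizer G a)) :=
    (S : Subgroup C).equivMapOfInjective C.subtype (subtype_injective _)
  refine GW.CycDih.of_equiv e.symm ?_
  set yS : (S : Subgroup C) := ⟨⟨yH, hyC⟩, hS (mem_zpowers _)⟩
  set tS : (S : Subgroup C) := yS * yS
  have htS : ((tS : C) : stabilizer G a) = tH := hyH
  have htSo : orderOf tS = 2 := by
    rw [← Subgroup.orderOf_coe, ← Subgroup.orderOf_coe, htS, htH]
  have hinj : ∀ {p q : (S : Subgroup C)}, (((p : C) : stabilizer G a) : G) = ((q : C) : stabilizer G a) → p = q :=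
    fun h => Subtype.ext (Subtype.ext (Subtype.ext h))
  have hrootS : ∀ g : (S : Subgroup C), g * g = tS → g = yS ∨ g = yS * tS := by
    intro g hg
    rcases hroot (((g : C) : stabilizer G a) : G)
        ((congrArg (fun p : (S : Subgroup C) => (((p : C) : stabilizer G a) : G)) hg).trans hy)
        ((g : C) : stabilizer G a).2 with h | h
    · exact Or.inl (hinj h)
    · refine Or.inr (hinj (h.trans ?_))
      show u * v * t = u * v * (u * v * (u * v))
      rw [hy]
  have htc : ∀ g : (S : Subgroup C), Commute g tS := fun g => by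
    refine hinj ?_
    show (((g : C) : stabilizer G a) : G) * (u * v * (u * v)) = (u * v * (u * v)) * (((g : C) : stabilizer G a) : G)
    rw [hy]
    exact congrArg Subtype.val (mem_centralizer_singleton_iff.1 (g : C).2)
  set R := centralizer ({yS} : Set (S : Subgroup C))
  have hyR : yS ∈ R := mem_centralizer_singleton_iff.2 rfl
  have hR2 : R.index ≤ 2 := by
    rw [index_eq_card]
    refine (Nat.card_le_card_of_injective (α := _ ⧸ R) (β := ↥({yS, yS * tS} : Set (S : Subgroup C)))
      (fun q => Quotient.liftOn' q (fun g => (⟨g * yS * g⁻¹, hrootS _ ?_⟩ : ↥({yS, yS * tS} : Set (S : Subgroup C))))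
        ?_) ?_).trans ?_
    · calc g * yS * g⁻¹ * (g * yS * g⁻¹) = g * (yS * yS) * g⁻¹ := by group
        _ = tS := by rw [show yS * yS = tS from rfl, (htc g).eq, mul_inv_cancel_right]
    · intro p q hpq
      rw [QuotientGroup.leftRel_apply] at hpq
      exact Subtype.ext (Invol.coset_iff_conj.1 hpq).symm
    · rintro ⟨p⟩ ⟨q⟩ hpq
      exact QuotientGroup.eq.2 (Invol.coset_iff_conj.2 (congrArg Subtype.val hpq).symm)
    · rw [Nat.card_coe_set_eq]
      exact (Set.ncard_insert_le _ _).trans (by rw [Set.ncard_singleton])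
  have hyroot : ∀ h : (S : Subgroup C), h * h = tS → Commute h yS := fun h hh => by
    rcases hrootS h hh with e | e
    · exact e ▸ Commute.refl _
    · exact e ▸ (Commute.refl yS).mul_left (htc yS).symm
  have hinv : ∀ x : R, orderOf x = 2 → x = (⟨yS, hyR⟩ : R) * ⟨yS, hyR⟩ := fun x hx => by
    have hx2 : orderOf (x : (S : Subgroup C)) = 2 := by rw [Subgroup.orderOf_coe, hx]
    have hxy : Commute (x : (S : Subgroup C)) yS := mem_centralizer_singleton_iff.1 x.2
    refine Subtype.ext ?_
    show (x : (S : Subgroup C)) = tS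
    rcases hrootS (x * yS) (by rw [hxy.symm.mul_mul_mul_comm, Invol.inv_mul_self hx2, one_mul]) with e | e
    · exact absurd (mul_eq_right.1 e) (Invol.ne_one hx2)
    · exact mul_right_cancel (e.trans (htc yS).eq)
  have hS2 : IsPGroup 2 (S : Subgroup C) := S.2
  have hcyc : IsCyclic R := by
    refine isCyclic_of_two_roots (hS2.to_subgroup R) (y := ⟨yS, hyR⟩) rfl ?_ hinv fun g hg => ?_
    · rw [← Subgroup.orderOf_coe]; exact htSo
    · rcases hrootS g (congrArg Subtype.val hg) with e | e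
      exacts [Or.inl (Subtype.ext e), Or.inr (Subtype.ext e)]
  refine ⟨R, hcyc, hR2, fun g hgR => ?_⟩
  by_contra hgg
  have hg2 : g * g ∈ R := by
    by_cases h1 : R.index = 1
    · rw [index_eq_one.1 h1]; exact mem_top _
    · exact mul_self_mem_of_index_two (by have h0 : R.index ≠ 0 := index_ne_zero_of_finite; omega) g
  obtain ⟨m, hm⟩ := IsPGroup.iff_orderOf.1 hS2 (g * g)
  have hmpos : 0 < m := Nat.pos_of_ne_zero fun h => hgg (orderOf_eq_one_iff.1 (by rw [hm, h, pow_zero]))
  obtain ⟨m, rfl⟩ := Nat.exists_eq_succ_of_ne_zero hmpos.ne'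
  have hp2 : orderOf ((g * g) ^ 2 ^ m) = 2 := by
    rw [orderOf_pow_of_dvd (pow_ne_zero _ two_ne_zero) (hm ▸ pow_dvd_pow 2 m.le_succ), hm, pow_succ,
      Nat.mul_div_cancel_left _ (pow_pos two_pos m)]
  have hpt : (g * g) ^ 2 ^ m = tS := congrArg Subtype.val
    (hinv ⟨_, pow_mem hg2 _⟩ (by rw [← Subgroup.orderOf_coe]; exact hp2))
  refine hgR (mem_centralizer_singleton_iff.2 ?_)
  rcases Nat.eq_zero_or_pos m with rfl | hm0
  · rw [pow_zero, pow_one] at hpt
    exact (hyroot g hpt).eq
  · set h := (g * g) ^ 2 ^ (m - 1)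
    have hgh : Commute g h := ((Commute.refl g).mul_right (Commute.refl g)).pow_right _
    have hh : h * h = tS := by
      rw [← pow_two, ← pow_mul, ← pow_succ, show m - 1 + 1 = m by omega]
      exact hpt
    rcases hrootS h hh with e | e
    · exact (e ▸ hgh).eq
    · have : Commute g (h * tS) := hgh.mul_right (htc g)
      rw [e, mul_assoc, Invol.inv_mul_self htSo, mul_one] at this
      exact this.eq

/-- An outer swap in odd degree: fifteen or ninety-one points. -/
theorem outer_odd (B : Base G a b t v) (hn : Nat.card Ω % 2 = 1) (hu : OuterSwap G a b t v u) :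
    (Nat.card Ω = 91 ∧ (fix {t} : Set Ω).ncard = 7 ∧ ∀ g : G, orderOf g = 2 → IsT G Ω g) ∨
    (Nat.card Ω = 15 ∧ (fix {t} : Set Ω).ncard = 3 ∧ (∀ g : G, orderOf g = 2 → IsT G Ω g) ∧
      ∃ c : Ω, GW.TwoCycDih ↥(stabilizer G c)) := by
  have hall : ∀ g : G, orderOf g = 2 → IsT G Ω g := fun g hg => B.outer_all hu hg
  obtain ⟨c, q, B1, huc⟩ := B.exists_outer_fixed hn hu
  obtain ⟨u₁, h₁⟩ := B.outer_everywhere hu B1
  have hD := B1.twoCycDih_outer hn h₁ hu.ord huc hu.comm hu.moves
  have hpair := B1.outer_pair_half huc hu.comm hu.moves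
  have hloc := B1.local_stab hD fun g _ hg => hall g hg
  have hcount := B1.count_eq
  rw [B1.outer_beta h₁] at hloc hcount
  rw [hpair] at hloc
  have hj2 := B1.two_le_fix₂
  have hlt := B1.fix_lt
  have hjm := B1.fix₂_mod_two
  have him := card_fix_mod_two (Ω := Ω) B1.ht
  rw [hn] at hjm him
  obtain ⟨-, hH, -, hC, -⟩ := B1.cards
  have hshape : (fix {t} : Set Ω).ncard = (fix {t, v} : Set Ω).ncard ∨
      (fix {t} : Set Ω).ncard = (fix {t, v} : Set Ω).ncard * (fix {t, v} : Set Ω).ncard := by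
    rcases B1.fix_cases with h | h | ⟨-, z, hz⟩
    exacts [Or.inl h, Or.inr h, (B1.outer_no_central h₁ z hz).elim]
  set i := (fix {t} : Set Ω).ncard
  set j := (fix {t, v} : Set Ω).ncard
  rcases hloc with ⟨μ, s, D, hs, hD', hμ, h5, h6, h7⟩ | ⟨-, h16, d, s, hs, h6, h8, h9⟩
  · have hD0 : 0 < D := hD'.pos
    rcases hshape with hij | hij
    · have hμs : μ * s = 2 := Nat.eq_of_mul_eq_mul_right hD0 (by omega)
      obtain ⟨rfl, rfl⟩ : μ = 2 ∧ s = 1 := by
        have hsd : s ∣ 2 := ⟨μ, by rw [← hμs, mul_comm]⟩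
        rcases (Nat.dvd_prime Nat.prime_two).1 hsd with h | h
        · subst h; exact ⟨by omega, rfl⟩
        · subst h; exact absurd hs (by decide)
      have hi : i = 7 ∨ i = 3 := by omega
      rcases hi with hi | hi <;> rw [hi] at hcount
      · exact Or.inl ⟨by omega, hi, hall⟩
      · exact Or.inr ⟨by omega, hi, hall, c, hD⟩
    · exfalso
      obtain ⟨j', hj'⟩ : ∃ j', j = j' + 1 := ⟨j - 1, by omega⟩
      rw [hj'] at hij h5 hj2
      have hj2D : j' = 2 * D := by omega
      have hμs : μ * s = 2 * (j' + 2) := by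
        refine Nat.eq_of_mul_eq_mul_right hD0 ?_
        rw [← h6, hij, show (j' + 1) * (j' + 1) = j' * (j' + 2) + 1 by ring, Nat.add_sub_cancel, hj2D]
        ring
      have hb1 : 3 * (μ * μ) ≤ (4 * μ - 1) * (2 * μ - 1) := by
        obtain ⟨μ', rfl⟩ : ∃ μ', μ = μ' + 1 := ⟨μ - 1, by omega⟩
        rw [show 4 * (μ' + 1) - 1 = 4 * μ' + 3 by omega, show 2 * (μ' + 1) - 1 = 2 * μ' + 1 by omega]
        nlinarith
      have hb2 : (4 * μ - 1) * (2 * μ - 1) ≤ (4 * μ + 1) * (2 * μ + 1) :=
        Nat.mul_le_mul (by omega) (by omega)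
      have hge : 3 * (μ * s) * (μ * s) ≤ 3 + 6 * i := by
        rcases h7 with h | h <;> rw [h]
        · calc 3 * (μ * s) * (μ * s) = s * s * (3 * (μ * μ)) := by ring
            _ ≤ _ := Nat.mul_le_mul_left _ (hb1.trans hb2)
        · calc 3 * (μ * s) * (μ * s) = s * s * (3 * (μ * μ)) := by ring
            _ ≤ _ := Nat.mul_le_mul_left _ hb1
      rw [hμs, hij] at hge
      nlinarith
  · exfalso
    rcases hshape with hij | hij
    · have hd : 0 < d * s := by omega
      have hs1 : s = 1 := by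
        have h12 : d * s ≤ d * 1 := by omega
        have := Nat.le_of_mul_le_mul_left h12 (Nat.pos_of_ne_zero fun h => by rw [h, zero_mul] at hd; omega)
        have := hs.pos
        omega
      subst hs1
      omega
    · obtain ⟨k, hk⟩ : ∃ k, j = 2 * k + 1 := ⟨j / 2, by omega⟩
      refine h16 ?_
      rw [← hH]
      refine dvd_trans ?_ (card_dvd_of_le (inf_le_right : centralizer ({t} : Set G) ⊓ stabilizer G c ≤ stabilizer G c))
      rw [hC, hij, hk, show (2 * k + 1) * (2 * k + 1) = 4 * (k * (k + 1)) + 1 by ring, Nat.add_sub_cancel]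
      exact ⟨k * (k + 1), by ring⟩

end Base

end Cfsg.Lib.A4Stab
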