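import Cfsg.Agent.Lib.A4Stab.Beta

/-!
# The point stabilizer
-/

set_option autoImplicit false
set_option linter.style.haveILetI false
set_option linter.unusedSectionVars false

namespace Cfsg.Lib.A4Stab

open Subgroup MulAction

universe u w

variable {G : Type u} [Group G] [Finite G] {Ω : Type w} [Finite Ω] [MulAction G Ω] [FaithfulSMul G Ω]

theorem card_fix_mod_two {g : G} (hg : orderOf g = 2) : (fix {g} : Set Ω).ncard % 2 = Nat.card Ω % 2 := by
  haveI : Fact (Nat.Prime 2) := ⟨Nat.prime_two⟩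
  have hp : IsPGroup 2 (zpowers g) := IsPGroup.of_card (n := 1) (by rw [Nat.card_zpowers, hg, pow_one])
  have h := hp.card_modEq_card_fixedPoints Ω
  have e : fixedPoints (zpowers g) Ω = (fix {g} : Set Ω) := by
    ext p
    constructor
    · exact fun hp => mem_fix_singleton.2 (hp ⟨g, mem_zpowers g⟩)
    · intro hp k
      obtain ⟨i, hi⟩ := mem_zpowers_iff.1 k.2
      show (k : G) • p = p
      rw [← hi]
      exact MulAction.mem_stabilizer_iff.1 (zpow_mem (mem_stabilizer_iff.2 (mem_fix_singleton.1 hp)) i)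
  rw [e, Nat.card_coe_set_eq] at h
  exact h.symm

theorem card_subgroupOf_singleton (X : Subgroup G) (x : X) :
    Nat.card (centralizer ({x} : Set X)) = Nat.card ↥(centralizer ({(x : G)} : Set G) ⊓ X) :=
  Nat.card_congr
    { toFun := fun y => ⟨y.1.1, mem_inf.2 ⟨mem_centralizer_singleton_iff.2
        (congrArg Subtype.val (mem_centralizer_singleton_iff.1 y.2)), y.1.2⟩⟩
      invFun := fun y => ⟨⟨y.1, (mem_inf.1 y.2).2⟩, mem_centralizer_singleton_iff.2
        (Subtype.ext (mem_centralizer_singleton_iff.1 (mem_inf.1 y.2).1))⟩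
      left_inv := fun y => rfl
      right_inv := fun y => rfl }

theorem card_subgroupOf_pair (X : Subgroup G) (x y : X) :
    Nat.card (centralizer ({x, y} : Set X)) = Nat.card ↥(centralizer ({(x : G), (y : G)} : Set G) ⊓ X) :=
  Nat.card_congr
    { toFun := fun w => ⟨w.1.1, mem_inf.2 ⟨by
        rw [centralizer_pair, mem_inf]
        exact ⟨mem_centralizer_singleton_iff.2 (congrArg Subtype.val (mem_centralizer_iff.1 w.2 x (by simp))).symm,
          mem_centralizer_singleton_iff.2 (congrArg Subtype.val (mem_centralizer_iff.1 w.2 y (by simp))).symm⟩, w.1.2⟩⟩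
      invFun := fun w => ⟨⟨w.1, (mem_inf.1 w.2).2⟩, by
        rw [centralizer_pair, mem_inf]
        exact ⟨mem_centralizer_singleton_iff.2 (Subtype.ext (mem_centralizer_iff.1 (mem_inf.1 w.2).1 _ (by simp)).symm),
          mem_centralizer_singleton_iff.2 (Subtype.ext (mem_centralizer_iff.1 (mem_inf.1 w.2).1 _ (by simp)).symm)⟩⟩
      left_inv := fun w => rfl
      right_inv := fun w => rfl }

namespace Base

variable {a b : Ω} {t v : G}

theorem t_mem_stab (B : Base G a b t v) : t ∈ stabilizer G a := B.htH.1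
theorem v_mem_stab (B : Base G a b t v) : v ∈ stabilizer G a := B.hvH.1

/-- Involutions fixing `a` and another point are conjugate to `t` in the stabilizer of `a`. -/
theorem exists_stab_conj (B : Base G a b t v) {g : G} (hg : IsT G Ω g) (hga : g • a = a) :
    ∃ k ∈ stabilizer G a, k * t * k⁻¹ = g := by
  obtain ⟨k, hk⟩ := B.exists_conj_t hg
  have hp : k⁻¹ • a ∈ (fix {t} : Set Ω) := by
    rw [mem_fix_singleton]
    have h := congrArg (k⁻¹ • ·) hga
    simpa [← hk, mul_smul] using h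
  obtain ⟨c, hc, hca⟩ : ∃ c ∈ centralizer ({t} : Set G), c • (k⁻¹ • a) = a := by
    rcases eq_or_ne (k⁻¹ • a) b with e | e
    · obtain ⟨c, hc, h1, -⟩ := B.exists_centralizer_map B.toCtx.ne.symm (mem_fix_singleton.1 B.b_mem_fix)
        (mem_fix_singleton.1 B.a_mem_fix)
      exact ⟨c, hc, by rw [e, h1]⟩
    · obtain ⟨c, hc, h1, -⟩ := B.exists_centralizer_map e (mem_fix_singleton.1 hp) (mem_fix_singleton.1 B.b_mem_fix)
      exact ⟨c, hc, h1⟩
  refine ⟨k * c⁻¹, mem_stabilizer_iff.2 ?_, ?_⟩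
  · calc (k * c⁻¹) • a = (k * c⁻¹) • c • k⁻¹ • a := by rw [hca]
      _ = a := by rw [mul_smul, inv_smul_smul, smul_inv_smul]
  · rw [← hk, show k * c⁻¹ * t * (k * c⁻¹)⁻¹ = k * (c⁻¹ * t * c) * k⁻¹ by group,
      show c⁻¹ * t * c = t by rw [mul_assoc, ← mem_centralizer_singleton_iff.1 hc, inv_mul_cancel_left]]

theorem oneClass_stab (B : Base G a b t v) (hall : ∀ g ∈ stabilizer G a, orderOf g = 2 → IsT G Ω g) :
    OneClass ↥(stabilizer G a) := by
  intro x y hx hy
  obtain ⟨k, hk, hk'⟩ := B.exists_stab_conj (hall _ x.2 (by rw [Subgroup.orderOf_coe, hx])) x.2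
  obtain ⟨l, hl, hl'⟩ := B.exists_stab_conj (hall _ y.2 (by rw [Subgroup.orderOf_coe, hy])) y.2
  refine ⟨⟨l * k⁻¹, mul_mem hl (inv_mem hk)⟩, Subtype.ext ?_⟩
  show l * k⁻¹ * (x : G) * (l * k⁻¹)⁻¹ = y
  rw [← hl', ← hk']
  group

/-- The order of `C(t, v)` in the stabilizer of `a`. -/
theorem card_pair_cases (B : Base G a b t v) :
    Nat.card ↥(centralizer ({t, v} : Set G) ⊓ stabilizer G a) = 4 * ((fix {t, v} : Set Ω).ncard - 1) ∨
      2 * Nat.card ↥(centralizer ({t, v} : Set G) ⊓ stabilizer G a) = 4 * ((fix {t, v} : Set Ω).ncard - 1) := by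
  obtain ⟨-, -, -, -, -, -, h8⟩ := B.cards
  set N := centralizer ({t} : Set G) ⊓ normalizer (B.toCtx.four : Set G) ⊓ stabilizer G a with hN
  have hle : centralizer ({t, v} : Set G) ⊓ stabilizer G a ≤ N := by
    refine le_inf (le_inf (inf_le_left.trans (centralizer_le (by simp))) ?_) inf_le_right
    refine inf_le_left.trans (fun g hg => centralizer_le_normalizer _ (mem_centralizer_iff.2 fun x hx => ?_))
    have h1 : Commute g t := (mem_centralizer_iff.1 hg t (by simp)).symm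
    have h2 : Commute g v := (mem_centralizer_iff.1 hg v (by simp)).symm
    exact (B.commute_four_of h1 h2 hx).symm.eq
  have hidx : ((centralizer ({t, v} : Set G) ⊓ stabilizer G a).subgroupOf N).index ≤ 2 := by
    classical
    rw [index_eq_card]
    refine (Nat.card_le_card_of_injective (α := ↥N ⧸ (centralizer ({t, v} : Set G) ⊓ stabilizer G a).subgroupOf N)
      (β := ↥({v, t * v} : Set G)) (fun q => Quotient.liftOn' q (fun g : N => (⟨(g : G) * v * (g : G)⁻¹, ?_⟩ : ↥({v, t * v} : Set G))) ?_) ?_).trans ?_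
    · obtain ⟨⟨h1, h2⟩, h3⟩ : ((g : G) ∈ centralizer ({t} : Set G) ∧ (g : G) ∈ normalizer (B.toCtx.four : Set G)) ∧
          (g : G) ∈ stabilizer G a := ⟨⟨(mem_inf.1 (mem_inf.1 g.2).1).1, (mem_inf.1 (mem_inf.1 g.2).1).2⟩, (mem_inf.1 g.2).2⟩
      have hgt : (g : G) * t * (g : G)⁻¹ = t := by rw [mem_centralizer_singleton_iff.1 h1, mul_inv_cancel_right]
      rcases B.four_cases ((mem_normalizer_iff.1 h2 v).1 B.v_mem_four) with e | e | e | e
      · exact absurd (conj_eq_one_iff.1 e) (Invol.ne_one B.hv)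
      · exact absurd (mul_left_cancel (mul_right_cancel (e.trans hgt.symm))) (Ne.symm B.htv)
      · exact Or.inl e
      · exact Or.inr e
    · intro p q hpq
      rw [QuotientGroup.leftRel_apply, mem_subgroupOf] at hpq
      have := (mem_inf.1 hpq).1
      rw [centralizer_pair] at this
      exact Subtype.ext (Invol.coset_iff_conj.1 (mem_inf.1 this).2).symm
    · rintro ⟨p⟩ ⟨q⟩ hpq
      refine QuotientGroup.eq.2 (mem_subgroupOf.2 (mem_inf.2 ⟨?_, (mem_inf.1 (p⁻¹ * q).2).2⟩))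
      rw [centralizer_pair]
      exact mem_inf.2 ⟨(mem_inf.1 (mem_inf.1 (p⁻¹ * q).2).1).1, Invol.coset_iff_conj.2 (congrArg Subtype.val hpq).symm⟩
    · rw [Nat.card_coe_set_eq]
      exact (Set.ncard_insert_le _ _).trans (by rw [Set.ncard_singleton])
  have h := ((centralizer ({t, v} : Set G) ⊓ stabilizer G a).subgroupOf N).card_mul_index
  rw [Nat.card_congr (subgroupOfEquivOfLe hle).toEquiv, h8] at h
  have h0 : ((centralizer ({t, v} : Set G) ⊓ stabilizer G a).subgroupOf N).index ≠ 0 := index_ne_zero_of_finite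
  rcases (show ((centralizer ({t, v} : Set G) ⊓ stabilizer G a).subgroupOf N).index = 1 ∨
      ((centralizer ({t, v} : Set G) ⊓ stabilizer G a).subgroupOf N).index = 2 by omega) with e | e <;> rw [e] at h
  · exact Or.inl (by omega)
  · exact Or.inr (by omega)

theorem four_dvd_pair (B : Base G a b t v) :
    4 ∣ Nat.card ↥(centralizer ({t, v} : Set G) ⊓ stabilizer G a) := by
  rw [← B.toCtx.card_four]
  refine card_dvd_of_le (le_inf (fun x hx => mem_centralizer_iff.2 ?_) (fun x hx => hx.1.1))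
  rintro y (rfl | rfl)
  · exact (B.toCtx.commute_four B.t_mem_four hx).eq
  · exact (B.toCtx.commute_four B.v_mem_four hx).eq

theorem numInv_stab (B : Base G a b t v) (hall : ∀ g ∈ stabilizer G a, orderOf g = 2 → IsT G Ω g) :
    numInv ↥(stabilizer G a) =
      3 + {g | IsT G Ω g ∧ Swaps g a b}.ncard * (fix {t} : Set Ω).ncard := by
  obtain ⟨-, h2, -, h4, -, -, -⟩ := B.cards
  have h := card_eq_centralizer_mul_numInv (B.oneClass_stab hall) (t := ⟨t, B.t_mem_stab⟩) (by rw [Subgroup.orderOf_mk, B.ht])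
  rw [card_subgroupOf_singleton, h4, h2] at h
  have he := B.count_eq
  have hlt := B.fix_lt
  have hi : 2 ≤ (fix {t} : Set Ω).ncard := B.two_le_fix₂.trans B.fix₂_le
  obtain ⟨i', hi'⟩ : ∃ i', (fix {t} : Set Ω).ncard = i' + 1 := ⟨(fix {t} : Set Ω).ncard - 1, by omega⟩
  rw [hi'] at he h hlt ⊢
  simp only [Nat.add_sub_cancel] at he h
  refine Nat.eq_of_mul_eq_mul_left (show 0 < i' by omega) ?_
  have e3 : 4 * i' * numInv ↥(stabilizer G a) = 4 * (i' * numInv ↥(stabilizer G a)) := mul_assoc _ _ _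
  rw [mul_add, show i' * ({g | IsT G Ω g ∧ Swaps g a b}.ncard * (i' + 1)) =
    {g | IsT G Ω g ∧ Swaps g a b}.ncard * ((i' + 1) * i') by ring, ← he]
  omega

/-- The consequences of the local theorem, in terms of fixed point numbers. -/
theorem local_stab (B : Base G a b t v) (hD : GW.TwoCycDih ↥(stabilizer G a))
    (hall : ∀ g ∈ stabilizer G a, orderOf g = 2 → IsT G Ω g) :
    (∃ μ s D, Odd s ∧ Odd D ∧ 0 < μ ∧
        Nat.card ↥(centralizer ({t, v} : Set G) ⊓ stabilizer G a) = 4 * D ∧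
        (fix {t} : Set Ω).ncard - 1 = μ * s * D ∧
        (3 + {g | IsT G Ω g ∧ Swaps g a b}.ncard * (fix {t} : Set Ω).ncard = s * s * ((4 * μ + 1) * (2 * μ + 1)) ∨
          3 + {g | IsT G Ω g ∧ Swaps g a b}.ncard * (fix {t} : Set Ω).ncard = s * s * ((4 * μ - 1) * (2 * μ - 1)))) ∨
    (8 ∣ 12 * (Nat.card Ω - 1) ∧ ¬ 16 ∣ 12 * (Nat.card Ω - 1) ∧ ∃ d s, Odd s ∧
        (fix {t} : Set Ω).ncard - 1 = 6 * (d * s) ∧
        Nat.card ↥(centralizer ({t, v} : Set G) ⊓ stabilizer G a) ≤ 12 * d ∧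
        3 + {g | IsT G Ω g ∧ Swaps g a b}.ncard * (fix {t} : Set Ω).ncard = 105 * (s * s)) := by
  obtain ⟨-, h2, -, h4, -, -, -⟩ := B.cards
  have h := local_data hD (B.oneClass_stab hall) (t := ⟨t, B.t_mem_stab⟩) (v := ⟨v, B.v_mem_stab⟩)
    (by rw [Subgroup.orderOf_mk, B.ht]) (by rw [Subgroup.orderOf_mk, B.hv]) (Subtype.ext B.commute_tv.eq)
    (fun e => B.htv (congrArg Subtype.val e))
  unfold LocalData at h
  rw [card_subgroupOf_singleton, card_subgroupOf_pair, h4, h2, B.numInv_stab hall] at h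
  rcases h with ⟨μ, s, D, hs, hDo, hμ, h5, h6, h7⟩ | ⟨h5, h6, d, s, hs, h7, h8, h9⟩
  · exact Or.inl ⟨μ, s, D, hs, hDo, hμ, h5, by omega, h7⟩
  · exact Or.inr ⟨h5, h6, d, s, hs, by omega, h8, h9⟩

end Base

end Cfsg.Lib.A4Stab
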