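import Cfsg.Agent.Lib.A4Stab.Basic

/-!
# Doubly transitive groups with two-point stabilizer `A₄`: orders and counting
-/

set_option autoImplicit false
set_option linter.style.haveILetI false
set_option linter.unusedSectionVars false

namespace Cfsg.Lib.A4Stab

open Subgroup MulAction

universe u w

variable {G : Type u} [Group G] [Finite G] {Ω : Type w} [Finite Ω] [MulAction G Ω] [FaithfulSMul G Ω]

/-- An element exchanging `a` and `b`. -/
def Swaps (g : G) (a b : Ω) : Prop := g • a = b ∧ g • b = a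

theorem Swaps.conj {g k : G} {p q : Ω} (h : Swaps g p q) : Swaps (k * g * k⁻¹) (k • p) (k • q) :=
  ⟨by rw [conj_smul, h.1], by rw [conj_smul, h.2]⟩

/-- An involution fixing two points. -/
def IsT (G : Type u) [Group G] (Ω : Type w) [MulAction G Ω] (g : G) : Prop :=
  orderOf g = 2 ∧ ∃ p q : Ω, p ≠ q ∧ g • p = p ∧ g • q = q

theorem IsT.conj {g : G} (h : IsT G Ω g) (k : G) : IsT G Ω (k * g * k⁻¹) := by
  obtain ⟨ho, p, q, hne, hp, hq⟩ := h
  exact ⟨by rw [Invol.orderOf_conj_eq, ho], k • p, k • q, fun e => hne (MulAction.injective k e),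
    by rw [conj_smul, hp], by rw [conj_smul, hq]⟩

theorem fix_conj_pair (k x y : G) :
    (fix {k * x * k⁻¹, k * y * k⁻¹} : Set Ω) = (fun p => k • p) '' (fix {x, y} : Set Ω) := by
  ext p
  constructor
  · intro hp
    obtain ⟨h1, h2⟩ := mem_fix_pair.1 hp
    refine ⟨k⁻¹ • p, mem_fix_pair.2 ⟨?_, ?_⟩, smul_inv_smul k p⟩
    · have := congrArg (k⁻¹ • ·) h1
      simpa [mul_smul] using this
    · have := congrArg (k⁻¹ • ·) h2
      simpa [mul_smul] using this
  · rintro ⟨q, hq, rfl⟩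
    obtain ⟨h1, h2⟩ := mem_fix_pair.1 hq
    exact mem_fix_pair.2 ⟨by rw [conj_smul, h1], by rw [conj_smul, h2]⟩

theorem fix_conj_singleton (k x : G) : (fix {k * x * k⁻¹} : Set Ω) = (fun p => k • p) '' (fix {x} : Set Ω) := by
  have := fix_conj_pair (Ω := Ω) k x x
  simpa using this

theorem fix_pair_mul (x y : G) : (fix {x, x * y} : Set Ω) = fix {x, y} := by
  ext p
  simp only [mem_fix_pair, mul_smul]
  constructor
  · rintro ⟨h1, h2⟩
    exact ⟨h1, MulAction.injective x (h2.trans h1.symm)⟩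
  · rintro ⟨h1, h2⟩
    exact ⟨h1, by rw [h2, h1]⟩

theorem eq_one_of_fix_univ {g : G} (h : ∀ p : Ω, g • p = p) : g = 1 :=
  FaithfulSMul.eq_of_smul_eq_smul (α := Ω) fun p => by rw [one_smul, h]

theorem smul_smul_of_sq {u : G} (h : u * u = 1) (p : Ω) : u • u • p = p := by rw [← mul_smul, h, one_smul]

theorem odd_of_swaps_mem {K : Subgroup G} {g : G} (hg : g * g ∈ K) (hnot : g ∉ K) : 2 ∣ orderOf g := by
  by_contra h
  obtain ⟨m, hm⟩ := Nat.odd_iff.2 (Nat.two_dvd_ne_zero.1 h)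
  refine hnot ?_
  rw [show g = ((g * g) ^ m)⁻¹ by
    rw [eq_inv_iff_mul_eq_one, ← pow_two, ← pow_mul, ← pow_succ', ← hm, pow_orderOf_eq_one]]
  exact inv_mem (pow_mem hg m)

namespace Base

variable {a b : Ω} {t v : G}

theorem toCtx' (B : Base G a b t v) : Ctx G a b := B.toCtx

theorem t_mem_four (B : Base G a b t v) : t ∈ B.toCtx.four := B.toCtx.four_mem_of_orderOf B.htH B.ht

theorem v_mem_four (B : Base G a b t v) : v ∈ B.toCtx.four := B.toCtx.four_mem_of_orderOf B.hvH B.hv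

theorem htt (B : Base G a b t v) : t * t = 1 := Invol.inv_mul_self B.ht

theorem hvv (B : Base G a b t v) : v * v = 1 := Invol.inv_mul_self B.hv

theorem commute_tv (B : Base G a b t v) : Commute t v := B.toCtx.commute_four B.t_mem_four B.v_mem_four

theorem tv_ne_one (B : Base G a b t v) : t * v ≠ 1 := fun h =>
  B.htv ((mul_eq_one_iff_eq_inv.1 h).trans (Invol.inv_eq_self B.hv))

theorem orderOf_tv (B : Base G a b t v) : orderOf (t * v) = 2 :=
  Invol.orderOf_eq_two_of B.tv_ne_one (mul_mem B.t_mem_four B.v_mem_four : t * v ∈ B.toCtx.four).2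

theorem four_cases (B : Base G a b t v) {x : G} (hx : x ∈ B.toCtx.four) :
    x = 1 ∨ x = t ∨ x = v ∨ x = t * v := by
  haveI := B.toCtx.isKleinFour_four
  by_cases hx1 : x = 1
  · exact Or.inl hx1
  · exact Or.inr (Invol.klein_mem_cases B.t_mem_four B.v_mem_four (Invol.ne_one B.ht) (Invol.ne_one B.hv) B.htv hx hx1)

theorem four_fix (B : Base G a b t v) {p : Ω} (hp : p ∈ (fix {t, v} : Set Ω)) {x : G} (hx : x ∈ B.toCtx.four) :
    x • p = p := by
  obtain ⟨h1, h2⟩ := mem_fix_pair.1 hp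
  rcases B.four_cases hx with rfl | rfl | rfl | rfl
  · exact one_smul G p
  · exact h1
  · exact h2
  · rw [mul_smul, h2, h1]

theorem conj_mem_four (B : Base G a b t v) {h x : G} (hh : h ∈ pairStab G a b) (hx : x ∈ B.toCtx.four) :
    h * x * h⁻¹ ∈ B.toCtx.four :=
  ⟨mul_mem (mul_mem hh hx.1) (inv_mem hh), by
    rw [show h * x * h⁻¹ * (h * x * h⁻¹) = h * (x * x) * h⁻¹ by group, hx.2, mul_one, mul_inv_cancel]⟩

theorem pairStab_le_normalizer (B : Base G a b t v) :
    pairStab G a b ≤ normalizer (B.toCtx.four : Set G) := fun h hh =>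
  mem_normalizer_iff.2 fun x => ⟨B.conj_mem_four hh, fun hx => by
    simpa [mul_assoc] using B.conj_mem_four (inv_mem hh) hx⟩

/-- An element mapping two common fixed points to `a, b` normalizes the four group. -/
theorem mem_normalizer_of_map (B : Base G a b t v) {g : G} {p q : Ω} (hp : p ∈ (fix {t, v} : Set Ω))
    (hq : q ∈ (fix {t, v} : Set Ω)) (hga : g • p = a) (hgb : g • q = b) :
    g ∈ normalizer (B.toCtx.four : Set G) := by
  have hsub : ∀ x ∈ B.toCtx.four, g * x * g⁻¹ ∈ B.toCtx.four := fun x hx =>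
    ⟨mem_pairStab.2 ⟨by rw [← hga, conj_smul, B.four_fix hp hx], by rw [← hgb, conj_smul, B.four_fix hq hx]⟩, by
      rw [show g * x * g⁻¹ * (g * x * g⁻¹) = g * (x * x) * g⁻¹ by group, hx.2, mul_one, mul_inv_cancel]⟩
  have heq : B.toCtx.four.map (MulAut.conj g).toMonoidHom = B.toCtx.four :=
    eq_of_le_of_card_ge (by rintro _ ⟨x, hx, rfl⟩; exact hsub x hx)
      (by rw [card_map_of_injective (MulAut.conj g).injective])
  refine mem_normalizer_iff.2 fun x => ⟨hsub x, fun hx => ?_⟩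
  rw [← heq] at hx
  obtain ⟨y, hy, hye⟩ := hx
  rwa [(MulAut.conj g).injective hye] at hy

theorem exists_centralizer_map (B : Base G a b t v) {p q : Ω} (hne : p ≠ q) (hp : t • p = p) (hq : t • q = q) :
    ∃ k ∈ centralizer ({t} : Set G), k • p = a ∧ k • q = b := by
  obtain ⟨g, hga, hgb⟩ := B.toCtx.two hne B.toCtx.ne
  have hm : g * t * g⁻¹ ∈ pairStab G a b :=
    mem_pairStab.2 ⟨by rw [← hga, conj_smul, hp], by rw [← hgb, conj_smul, hq]⟩
  obtain ⟨h, hh, hconj⟩ := B.toCtx.exists_conj hm B.htH (by rw [Invol.orderOf_conj_eq, B.ht]) B.ht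
  refine ⟨h * g, mem_centralizer_singleton_iff.2 ?_, ?_, ?_⟩
  · calc h * g * t = (h * (g * t * g⁻¹) * h⁻¹) * (h * g) := by group
      _ = t * (h * g) := by rw [hconj]
  · rw [mul_smul, hga]; exact (mem_pairStab.1 hh).1
  · rw [mul_smul, hgb]; exact (mem_pairStab.1 hh).2

theorem exists_normalizer_map (B : Base G a b t v) {p q : Ω} (hne : p ≠ q) (hp : p ∈ (fix {t, v} : Set Ω))
    (hq : q ∈ (fix {t, v} : Set Ω)) :
    ∃ k ∈ centralizer ({t} : Set G) ⊓ normalizer (B.toCtx.four : Set G), k • p = a ∧ k • q = b := by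
  obtain ⟨g, hg, hga, hgb⟩ := B.exists_centralizer_map hne (mem_fix_pair.1 hp).1 (mem_fix_pair.1 hq).1
  exact ⟨g, mem_inf.2 ⟨hg, B.mem_normalizer_of_map hp hq hga hgb⟩, hga, hgb⟩

theorem fix_smul_centralizer {k : G} (hk : k ∈ centralizer ({t} : Set G)) {p : Ω} (hp : p ∈ (fix {t} : Set Ω)) :
    k • p ∈ (fix {t} : Set Ω) := by
  rw [mem_fix_singleton] at hp ⊢
  rw [← mul_smul, ← mem_centralizer_singleton_iff.1 hk, mul_smul, hp]

theorem fix_smul_normalizer (B : Base G a b t v) {k : G} (hk : k ∈ normalizer (B.toCtx.four : Set G)) {p : Ω}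
    (hp : p ∈ (fix {t, v} : Set Ω)) : k • p ∈ (fix {t, v} : Set Ω) := by
  have key : ∀ x ∈ B.toCtx.four, x • k • p = k • p := fun x hx => by
    have h := B.four_fix hp ((mem_normalizer_iff.1 hk (k⁻¹ * x * k)).2 (by simpa [mul_assoc] using hx))
    rwa [mul_smul, mul_smul, inv_smul_eq_iff] at h
  exact mem_fix_pair.2 ⟨key t B.t_mem_four, key v B.v_mem_four⟩

theorem a_mem_fix (B : Base G a b t v) : a ∈ (fix {t} : Set Ω) := mem_fix_singleton.2 (mem_pairStab.1 B.htH).1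
theorem b_mem_fix (B : Base G a b t v) : b ∈ (fix {t} : Set Ω) := mem_fix_singleton.2 (mem_pairStab.1 B.htH).2
theorem a_mem_fix₂ (B : Base G a b t v) : a ∈ (fix {t, v} : Set Ω) :=
  mem_fix_pair.2 ⟨(mem_pairStab.1 B.htH).1, (mem_pairStab.1 B.hvH).1⟩
theorem b_mem_fix₂ (B : Base G a b t v) : b ∈ (fix {t, v} : Set Ω) :=
  mem_fix_pair.2 ⟨(mem_pairStab.1 B.htH).2, (mem_pairStab.1 B.hvH).2⟩

theorem centralizer_inf_pairStab (B : Base G a b t v) :
    centralizer ({t} : Set G) ⊓ pairStab G a b = B.toCtx.four := by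
  refine le_antisymm (fun h hh => ?_) (fun x hx => mem_inf.2 ⟨mem_centralizer_singleton_iff.2
    (B.toCtx.commute_four hx B.t_mem_four).eq, hx.1⟩)
  obtain ⟨h1, h2⟩ := mem_inf.1 hh
  exact ⟨h2, B.toCtx.sq_of_commute B.htH h2 B.ht (mem_centralizer_singleton_iff.1 h1)⟩

/-- The orders. -/
theorem cards (B : Base G a b t v) :
    Nat.card G = 12 * (Nat.card Ω * (Nat.card Ω - 1)) ∧
    Nat.card (stabilizer G a) = 12 * (Nat.card Ω - 1) ∧
    Nat.card (centralizer ({t} : Set G)) = 4 * ((fix {t} : Set Ω).ncard * ((fix {t} : Set Ω).ncard - 1)) ∧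
    Nat.card ↥(centralizer ({t} : Set G) ⊓ stabilizer G a) = 4 * ((fix {t} : Set Ω).ncard - 1) ∧
    Nat.card (normalizer (B.toCtx.four : Set G)) =
      12 * ((fix {t, v} : Set Ω).ncard * ((fix {t, v} : Set Ω).ncard - 1)) ∧
    Nat.card ↥(normalizer (B.toCtx.four : Set G) ⊓ stabilizer G a) = 12 * ((fix {t, v} : Set Ω).ncard - 1) ∧
    Nat.card ↥(centralizer ({t} : Set G) ⊓ normalizer (B.toCtx.four : Set G) ⊓ stabilizer G a) =
      4 * ((fix {t, v} : Set Ω).ncard - 1) := by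
  obtain ⟨h1, h2⟩ := card_of_pairs B.toCtx.ne (⊤ : Subgroup G) Set.univ (Set.mem_univ a) (Set.mem_univ b)
    (fun _ _ _ _ => Set.mem_univ _) fun p _ q _ hne => by
      obtain ⟨g, hg⟩ := B.toCtx.two hne B.toCtx.ne
      exact ⟨g, mem_top g, hg⟩
  rw [top_inf_eq, B.toCtx.card_pairStab, Set.ncard_univ, card_top] at h1
  rw [top_inf_eq, top_inf_eq, B.toCtx.card_pairStab, Set.ncard_univ] at h2
  obtain ⟨h3, h4⟩ := card_of_pairs B.toCtx.ne (centralizer ({t} : Set G)) (fix {t}) B.a_mem_fix B.b_mem_fix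
    (fun k hk p hp => fix_smul_centralizer hk hp) fun p hp q hq hne =>
      B.exists_centralizer_map hne (mem_fix_singleton.1 hp) (mem_fix_singleton.1 hq)
  rw [B.centralizer_inf_pairStab, B.toCtx.card_four] at h3 h4
  obtain ⟨h5, h6⟩ := card_of_pairs B.toCtx.ne (normalizer (B.toCtx.four : Set G)) (fix {t, v})
    B.a_mem_fix₂ B.b_mem_fix₂ (fun k hk p hp => B.fix_smul_normalizer hk hp) fun p hp q hq hne => by
      obtain ⟨g, hga, hgb⟩ := B.toCtx.two hne B.toCtx.ne
      exact ⟨g, B.mem_normalizer_of_map hp hq hga hgb, hga, hgb⟩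
  rw [inf_eq_right.2 B.pairStab_le_normalizer, B.toCtx.card_pairStab] at h5 h6
  obtain ⟨-, h8⟩ := card_of_pairs B.toCtx.ne (centralizer ({t} : Set G) ⊓ normalizer (B.toCtx.four : Set G))
    (fix {t, v}) B.a_mem_fix₂ B.b_mem_fix₂ (fun k hk p hp => B.fix_smul_normalizer (mem_inf.1 hk).2 hp)
    fun p hp q hq hne => B.exists_normalizer_map hne hp hq
  have e : centralizer ({t} : Set G) ⊓ normalizer (B.toCtx.four : Set G) ⊓ pairStab G a b = B.toCtx.four := by
    rw [inf_assoc, inf_eq_right.2 B.pairStab_le_normalizer, B.centralizer_inf_pairStab]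
  rw [e, B.toCtx.card_four] at h8
  exact ⟨h1, h2, h3, h4, h5, h6, h8⟩

theorem two_le_fix₂ (B : Base G a b t v) : 2 ≤ (fix {t, v} : Set Ω).ncard := by
  rw [← Set.ncard_pair B.toCtx.ne]
  exact Set.ncard_le_ncard (Set.insert_subset B.a_mem_fix₂ (Set.singleton_subset_iff.2 B.b_mem_fix₂))

theorem fix₂_le (B : Base G a b t v) : (fix {t, v} : Set Ω).ncard ≤ (fix {t} : Set Ω).ncard :=
  Set.ncard_le_ncard fun _ hp => mem_fix_singleton.2 (mem_fix_pair.1 hp).1

theorem fix_lt (B : Base G a b t v) : (fix {t} : Set Ω).ncard < Nat.card Ω := by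
  rw [← Set.ncard_univ]
  refine Set.ncard_lt_ncard (Set.ssubset_univ_iff.2 fun h => Invol.ne_one B.ht (eq_one_of_fix_univ (Ω := Ω) fun p => ?_))
  exact mem_fix_singleton.1 (h ▸ Set.mem_univ p)

theorem isT_t (B : Base G a b t v) : IsT G Ω t :=
  ⟨B.ht, a, b, B.toCtx.ne, mem_fix_singleton.1 B.a_mem_fix, mem_fix_singleton.1 B.b_mem_fix⟩

theorem exists_conj_t (B : Base G a b t v) {g : G} (hg : IsT G Ω g) : ∃ k : G, k * t * k⁻¹ = g := by
  obtain ⟨ho, p, q, hne, hp, hq⟩ := hg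
  obtain ⟨k, hka, hkb⟩ := B.toCtx.two hne B.toCtx.ne
  have hm : k * g * k⁻¹ ∈ pairStab G a b :=
    mem_pairStab.2 ⟨by rw [← hka, conj_smul, hp], by rw [← hkb, conj_smul, hq]⟩
  obtain ⟨h, -, hh⟩ := B.toCtx.exists_conj B.htH hm B.ht (by rw [Invol.orderOf_conj_eq, ho])
  refine ⟨k⁻¹ * h, ?_⟩
  rw [show k⁻¹ * h * t * (k⁻¹ * h)⁻¹ = k⁻¹ * (h * t * h⁻¹) * k by group, hh]
  group

theorem fix_isT (B : Base G a b t v) {g : G} (hg : IsT G Ω g) :
    (fix {g} : Set Ω).ncard = (fix {t} : Set Ω).ncard := by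
  obtain ⟨k, rfl⟩ := B.exists_conj_t hg
  rw [fix_conj_singleton, Set.ncard_image_of_injective _ (MulAction.injective k)]

theorem isT_pairStab (B : Base G a b t v) :
    {u | IsT G Ω u ∧ (u • a = a ∧ u • b = b)} = {t, v, t * v} := by
  ext u
  constructor
  · rintro ⟨hu, hua, hub⟩
    rcases B.four_cases (B.toCtx.four_mem_of_orderOf (mem_pairStab.2 ⟨hua, hub⟩) hu.1) with h | h | h | h
    · exact absurd h (Invol.ne_one hu.1)
    · exact Or.inl h
    · exact Or.inr (Or.inl h)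
    · exact Or.inr (Or.inr h)
  · intro h
    have key : ∀ x ∈ B.toCtx.four, x ≠ 1 → x ∈ {u | IsT G Ω u ∧ (u • a = a ∧ u • b = b)} := fun x hx hx1 =>
      ⟨⟨B.toCtx.orderOf_of_mem_four hx hx1, a, b, B.toCtx.ne, hx.1.1, hx.1.2⟩, hx.1.1, hx.1.2⟩
    rcases h with rfl | rfl | rfl
    · exact key _ B.t_mem_four (Invol.ne_one B.ht)
    · exact key _ B.v_mem_four (Invol.ne_one B.hv)
    · exact key _ (mul_mem B.t_mem_four B.v_mem_four) B.tv_ne_one

theorem ncard_three (B : Base G a b t v) : ({t, v, t * v} : Set G).ncard = 3 := by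
  rw [Set.ncard_insert_of_notMem, Set.ncard_pair]
  · exact fun h => Invol.ne_one B.ht (mul_eq_right.1 h.symm)
  · rintro (h | h)
    · exact B.htv h
    · exact Invol.ne_one B.hv (mul_eq_left.1 h.symm)

/-- The first counting equation. -/
theorem count_eq (B : Base G a b t v) :
    3 * (Nat.card Ω - (fix {t} : Set Ω).ncard) =
      {u | IsT G Ω u ∧ Swaps u a b}.ncard * ((fix {t} : Set Ω).ncard * ((fix {t} : Set Ω).ncard - 1)) := by
  set i := (fix {t} : Set Ω).ncard
  have htr : ∀ p ∈ (Set.univ : Set Ω), ∀ q ∈ (Set.univ : Set Ω), p ≠ q →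
      ∃ k ∈ (⊤ : Subgroup G), k • p = a ∧ k • q = b := fun p _ q _ hne => by
    obtain ⟨g, hg⟩ := B.toCtx.two hne B.toCtx.ne
    exact ⟨g, mem_top g, hg⟩
  have hF := pair_count B.toCtx.ne ⊤ Set.univ (Set.mem_univ a) (Set.mem_univ b) (fun _ _ _ _ => Set.mem_univ _) htr
    {u | IsT G Ω u} (fun k _ u hu => IsT.conj hu k) (fun u p q => u • p = p ∧ u • q = q)
    (fun k u p q h => ⟨by rw [conj_smul, h.1], by rw [conj_smul, h.2]⟩) (i * (i - 1)) fun u hu => by
      rw [card_fix_pairs, Set.univ_inter, B.fix_isT hu]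
  have hS := pair_count B.toCtx.ne ⊤ Set.univ (Set.mem_univ a) (Set.mem_univ b) (fun _ _ _ _ => Set.mem_univ _) htr
    {u | IsT G Ω u} (fun k _ u hu => IsT.conj hu k) (fun u p q => Swaps u p q)
    (fun k u p q h => h.conj) (Nat.card Ω - i) fun u hu => by
      show {x : Ω × Ω | x.1 ∈ Set.univ ∧ x.2 ∈ Set.univ ∧ x.1 ≠ x.2 ∧ (u • x.1 = x.2 ∧ u • x.2 = x.1)}.ncard = _
      rw [card_swap_pairs _ (smul_smul_of_sq (Invol.inv_mul_self hu.1)) (fun _ _ => Set.mem_univ _),
        Set.univ_inter, B.fix_isT hu, Set.ncard_univ]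
  simp only [Set.mem_setOf_eq] at hF hS
  rw [B.isT_pairStab, B.ncard_three, Set.ncard_univ] at hF
  rw [Set.ncard_univ] at hS
  have hT : 0 < {u | IsT G Ω u}.ncard := (Set.ncard_pos (Set.toFinite _)).2 ⟨t, B.isT_t⟩
  refine Nat.eq_of_mul_eq_mul_left hT ?_
  rw [mul_left_comm, hS, mul_left_comm {u | IsT G Ω u}.ncard, hF]
  ring

/-- Elements of `C(t)` forming with `t` a four group fixing two points. -/
def Partner (G : Type u) [Group G] (Ω : Type w) [MulAction G Ω] (t u : G) : Prop :=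
  orderOf u = 2 ∧ Commute t u ∧ u ≠ t ∧ ∃ p q : Ω, p ≠ q ∧ (t • p = p ∧ t • q = q) ∧ u • p = p ∧ u • q = q

theorem partner_conj {k u : G} (hk : k ∈ centralizer ({t} : Set G)) (hu : Partner G Ω t u) :
    Partner G Ω t (k * u * k⁻¹) := by
  obtain ⟨ho, hc, hne, p, q, hpq, ⟨h1, h2⟩, h3, h4⟩ := hu
  have hkt : k * t * k⁻¹ = t := by rw [mem_centralizer_singleton_iff.1 hk, mul_inv_cancel_right]
  refine ⟨by rw [Invol.orderOf_conj_eq, ho], ?_, fun h => hne ?_, k • p, k • q,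
    fun h => hpq (MulAction.injective k h), ⟨?_, ?_⟩, by rw [conj_smul, h3], by rw [conj_smul, h4]⟩
  · have := hc.map (MulAut.conj k)
    simpa [hkt] using this
  · exact mul_left_cancel (mul_right_cancel (h.trans hkt.symm))
  · rw [← hkt, conj_smul, h1]
  · rw [← hkt, conj_smul, h2]

theorem partner_pairStab (B : Base G a b t v) :
    {u | Partner G Ω t u ∧ (u • a = a ∧ u • b = b)} = {v, t * v} := by
  ext u
  constructor
  · rintro ⟨⟨ho, -, hne, -⟩, hua, hub⟩
    rcases B.four_cases (B.toCtx.four_mem_of_orderOf (mem_pairStab.2 ⟨hua, hub⟩) ho) with h | h | h | h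
    · exact absurd h (Invol.ne_one ho)
    · exact absurd h hne
    · exact Or.inl h
    · exact Or.inr h
  · intro h
    have key : ∀ x ∈ B.toCtx.four, x ≠ 1 → x ≠ t → x ∈ {u | Partner G Ω t u ∧ (u • a = a ∧ u • b = b)} :=
      fun x hx hx1 hxt => ⟨⟨B.toCtx.orderOf_of_mem_four hx hx1, B.toCtx.commute_four B.t_mem_four hx, hxt, a, b,
        B.toCtx.ne, ⟨(mem_pairStab.1 B.htH).1, (mem_pairStab.1 B.htH).2⟩, hx.1.1, hx.1.2⟩, hx.1.1, hx.1.2⟩
    rcases h with rfl | rfl
    · exact key _ B.v_mem_four (Invol.ne_one B.hv) (Ne.symm B.htv)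
    · exact key _ (mul_mem B.t_mem_four B.v_mem_four) B.tv_ne_one fun h => Invol.ne_one B.hv (mul_eq_left.1 h)

/-- The second counting equation. -/
theorem count₂_eq (B : Base G a b t v) :
    2 * ((fix {t} : Set Ω).ncard - (fix {t, v} : Set Ω).ncard) =
      {u | Partner G Ω t u ∧ Swaps u a b}.ncard *
        ((fix {t, v} : Set Ω).ncard * ((fix {t, v} : Set Ω).ncard - 1)) := by
  set i := (fix {t} : Set Ω).ncard with hi
  set j := (fix {t, v} : Set Ω).ncard
  have hinter : ∀ u : G, (fix {t} : Set Ω) ∩ fix {u} = fix {t, u} := fun u => by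
    ext p; simp [mem_fix_singleton, mem_fix_pair]
  have hj : ∀ u, Partner G Ω t u → (fix {t, u} : Set Ω).ncard = j := by
    intro u hu
    obtain ⟨ho, -, hne, p, q, hpq, ⟨h1, h2⟩, h3, h4⟩ := id hu
    obtain ⟨k, hk, hka, hkb⟩ := B.exists_centralizer_map hpq h1 h2
    have hkt : k * t * k⁻¹ = t := by rw [mem_centralizer_singleton_iff.1 hk, mul_inv_cancel_right]
    have hm : k * u * k⁻¹ ∈ {w | Partner G Ω t w ∧ (w • a = a ∧ w • b = b)} :=
      ⟨partner_conj hk hu, by rw [← hka, conj_smul, h3], by rw [← hkb, conj_smul, h4]⟩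
    rw [B.partner_pairStab] at hm
    have hc : (fix {t, k * u * k⁻¹} : Set Ω).ncard = (fix {t, u} : Set Ω).ncard := by
      conv_lhs => rw [← hkt]
      rw [fix_conj_pair, Set.ncard_image_of_injective _ (MulAction.injective k)]
    rw [← hc]
    rcases hm with h | h
    · rw [h]
    · rw [Set.mem_singleton_iff.1 h, fix_pair_mul]
  have htr : ∀ p ∈ (fix {t} : Set Ω), ∀ q ∈ (fix {t} : Set Ω), p ≠ q →
      ∃ k ∈ centralizer ({t} : Set G), k • p = a ∧ k • q = b := fun p hp q hq hne =>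
    B.exists_centralizer_map hne (mem_fix_singleton.1 hp) (mem_fix_singleton.1 hq)
  have hF := pair_count B.toCtx.ne (centralizer ({t} : Set G)) (fix {t}) B.a_mem_fix B.b_mem_fix
    (fun k hk p hp => fix_smul_centralizer hk hp) htr
    {u | Partner G Ω t u} (fun k hk u hu => partner_conj hk hu) (fun u p q => u • p = p ∧ u • q = q)
    (fun k u p q h => ⟨by rw [conj_smul, h.1], by rw [conj_smul, h.2]⟩) (j * (j - 1)) fun u hu => by
      rw [card_fix_pairs, hinter, hj u hu]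
  have hS := pair_count B.toCtx.ne (centralizer ({t} : Set G)) (fix {t}) B.a_mem_fix B.b_mem_fix
    (fun k hk p hp => fix_smul_centralizer hk hp) htr
    {u | Partner G Ω t u} (fun k hk u hu => partner_conj hk hu) (fun u p q => Swaps u p q)
    (fun k u p q h => h.conj) (i - j) fun u hu => by
      show {x : Ω × Ω | x.1 ∈ fix {t} ∧ x.2 ∈ fix {t} ∧ x.1 ≠ x.2 ∧ (u • x.1 = x.2 ∧ u • x.2 = x.1)}.ncard = _
      rw [card_swap_pairs _ (smul_smul_of_sq (Invol.inv_mul_self hu.1))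
        (fun p hp => fix_smul_centralizer (mem_centralizer_singleton_iff.2 hu.2.1.eq.symm) hp),
        hinter, hj u hu]
  simp only [Set.mem_setOf_eq] at hF hS
  rw [B.partner_pairStab, Set.ncard_pair fun h => Invol.ne_one B.ht (mul_eq_right.1 h.symm), ← hi] at hF
  rw [← hi] at hS
  have hT : 0 < {u | Partner G Ω t u}.ncard := by
    have : v ∈ {u | Partner G Ω t u ∧ (u • a = a ∧ u • b = b)} := by rw [B.partner_pairStab]; exact Or.inl rfl
    exact (Set.ncard_pos (Set.toFinite _)).2 ⟨v, this.1⟩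
  refine Nat.eq_of_mul_eq_mul_left hT ?_
  rw [mul_left_comm, hS, mul_left_comm {u | Partner G Ω t u}.ncard, hF]
  ring

end Base

end Cfsg.Lib.A4Stab
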