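import Cfsg.Agent.Lib.A4Stab.Odd

/-!
# Elements with one fixed point on an invariant set
-/

set_option autoImplicit false
set_option linter.style.haveILetI false
set_option linter.unusedSectionVars false

namespace Cfsg.Lib.A4Stab

open Subgroup MulAction

universe u w

variable {G : Type u} [Group G] [Finite G] {Ω : Type w} [Finite Ω] [MulAction G Ω] [FaithfulSMul G Ω]

/-- Elements acting on an invariant set as involutions with one fixed point: as many per point as per
exchanged pair. -/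
theorem single_count {a b : Ω} (hab : a ≠ b) (K : Subgroup G) (S : Set Ω) (ha : a ∈ S) (hb : b ∈ S)
    (hinv : ∀ k ∈ K, ∀ p ∈ S, k • p ∈ S)
    (htr : ∀ p ∈ S, ∀ q ∈ S, p ≠ q → ∃ k ∈ K, k • p = a ∧ k • q = b)
    (T : Set G) (hTK : T ⊆ K) (hT : ∀ k ∈ K, ∀ u ∈ T, k * u * k⁻¹ ∈ T)
    (hone : ∀ u ∈ T, (∀ p ∈ S, u • u • p = p) ∧ (S ∩ fix {u}).ncard = 1) :
    {u | u ∈ T ∧ u • a = a}.ncard = {u | u ∈ T ∧ Swaps u a b}.ncard := by
  have h2 : 2 ≤ S.ncard := by
    rw [← Set.ncard_pair hab]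
    exact Set.ncard_le_ncard (Set.insert_subset ha (Set.singleton_subset_iff.2 hb))
  have hF := pair_count hab K S ha hb hinv htr T hT (fun u p _ => u • p = p)
    (fun k u p q h => by show (k * u * k⁻¹) • k • p = k • p; rw [conj_smul, h]) (S.ncard - 1) fun u hu => by
      obtain ⟨c, hc⟩ := Set.ncard_eq_one.1 (hone u hu).2
      have hcm : c ∈ S ∩ fix {u} := by rw [hc]; rfl
      have e : {x : Ω × Ω | x.1 ∈ S ∧ x.2 ∈ S ∧ x.1 ≠ x.2 ∧ u • x.1 = x.1} = (fun q => (c, q)) '' (S \ {c}) := by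
        ext ⟨p, q⟩
        constructor
        · rintro ⟨hp1, hq, hne, hp⟩
          have hpc : p = c := by
            have : p ∈ S ∩ fix {u} := ⟨hp1, mem_fix_singleton.2 hp⟩
            rwa [hc, Set.mem_singleton_iff] at this
          subst hpc
          exact ⟨q, ⟨hq, fun h => hne (Set.mem_singleton_iff.1 h).symm⟩, rfl⟩
        · rintro ⟨q', ⟨hq, hq'⟩, h⟩
          obtain ⟨rfl, rfl⟩ := Prod.ext_iff.1 h
          exact ⟨hcm.1, hq, fun h => hq' (Set.mem_singleton_iff.2 h.symm), mem_fix_singleton.1 hcm.2⟩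
      rw [e, Set.ncard_image_of_injective _ (fun x y h => congrArg Prod.snd h),
        Set.ncard_diff_singleton_of_mem hcm.1]
  have hS := pair_count hab K S ha hb hinv htr T hT (fun u p q => Swaps u p q)
    (fun k u p q h => h.conj) (S.ncard - 1) fun u hu => by
      show {x : Ω × Ω | x.1 ∈ S ∧ x.2 ∈ S ∧ x.1 ≠ x.2 ∧ (u • x.1 = x.2 ∧ u • x.2 = x.1)}.ncard = _
      rw [← (hone u hu).2, ← Set.ncard_diff Set.inter_subset_left,
        ← Set.ncard_image_of_injective (S \ (S ∩ fix {u})) (f := fun p => (p, u • p)) fun p q h => congrArg Prod.fst h]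
      congr 1
      ext ⟨p, q⟩
      constructor
      · rintro ⟨hp, hq, hne, h1, h2⟩
        exact ⟨p, ⟨hp, fun h => hne ((mem_fix_singleton.1 h.2).symm.trans h1)⟩, Prod.ext rfl h1⟩
      · rintro ⟨p', ⟨hp, hnf⟩, h⟩
        obtain ⟨rfl, rfl⟩ := Prod.ext_iff.1 h
        exact ⟨hp, hinv u (hTK hu) _ hp, fun e => hnf ⟨hp, mem_fix_singleton.2 e.symm⟩, rfl, (hone u hu).1 _ hp⟩
  rw [hF] at hS
  exact Nat.eq_of_mul_eq_mul_left (Nat.mul_pos (by omega) (by omega)) hS

/-- An involutive map of a set of odd size has a fixed point. -/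
theorem exists_fixed_of_odd {g : G} (S : Set Ω) (hS : S.ncard % 2 = 1) (hinv : ∀ p ∈ S, g • p ∈ S)
    (hg : ∀ p ∈ S, g • g • p = p) : ∃ p ∈ S, g • p = p := by
  classical
  letI := Fintype.ofFinite Ω
  by_contra hc
  push Not at hc
  let σ : Equiv.Perm S := Function.Involutive.toPerm (fun p => ⟨g • (p : Ω), hinv _ p.2⟩)
    (fun p => Subtype.ext (hg _ p.2))
  have hσ : σ ^ 2 ^ 1 = 1 := Equiv.ext fun p => Subtype.ext (by rw [pow_one, pow_two]; exact hg _ p.2)
  haveI : Fact (Nat.Prime 2) := ⟨Nat.prime_two⟩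
  obtain ⟨p, hp⟩ := Equiv.Perm.exists_fixed_point_of_prime (p := 2) (n := 1)
    (by rw [← Nat.card_eq_fintype_card, Nat.card_coe_set_eq]; omega) hσ
  exact hc p p.2 (congrArg Subtype.val hp)

namespace Base

variable {a b : Ω} {t v : G}

/-- Two fixed points of the four group serve as a new base. -/
theorem change (B : Base G a b t v) {p q : Ω} (hne : p ≠ q) (hp : p ∈ (fix {t, v} : Set Ω))
    (hq : q ∈ (fix {t, v} : Set Ω)) : Base G p q t v :=
  ⟨B.toCtx.change hne, mem_pairStab.2 ⟨(mem_fix_pair.1 hp).1, (mem_fix_pair.1 hq).1⟩, B.ht,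
    mem_pairStab.2 ⟨(mem_fix_pair.1 hp).2, (mem_fix_pair.1 hq).2⟩, B.hv, B.htv⟩

theorem mem_four_iff (B : Base G a b t v) {x : G} :
    x ∈ B.toCtx.four ↔ x = 1 ∨ x = t ∨ x = v ∨ x = t * v := by
  refine ⟨B.four_cases, ?_⟩
  rintro (rfl | rfl | rfl | rfl)
  exacts [one_mem _, B.t_mem_four, B.v_mem_four, mul_mem B.t_mem_four B.v_mem_four]

theorem four_change (B : Base G a b t v) {p q : Ω} (hne : p ≠ q) (hp : p ∈ (fix {t, v} : Set Ω))
    (hq : q ∈ (fix {t, v} : Set Ω)) : (B.change hne hp hq).toCtx.four = B.toCtx.four := by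
  ext x
  rw [(B.change hne hp hq).mem_four_iff, B.mem_four_iff]

theorem mem_normalizer_of_commute (B : Base G a b t v) {g : G} (h1 : Commute g t) (h2 : Commute g v) :
    g ∈ normalizer (B.toCtx.four : Set G) :=
  centralizer_le_normalizer _ (mem_centralizer_iff.2 fun _ hx => (B.commute_four_of h1 h2 hx).symm.eq)

theorem fix₂_mod_two (B : Base G a b t v) : (fix {t, v} : Set Ω).ncard % 2 = Nat.card Ω % 2 := by
  haveI : Fact (Nat.Prime 2) := ⟨Nat.prime_two⟩
  haveI := B.toCtx.isKleinFour_four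
  have hp : IsPGroup 2 B.toCtx.four := IsPGroup.of_card (n := 2) (by rw [B.toCtx.card_four]; norm_num)
  have h := hp.card_modEq_card_fixedPoints Ω
  have e : fixedPoints B.toCtx.four Ω = (fix {t, v} : Set Ω) := by
    ext p
    constructor
    · exact fun hp => mem_fix_pair.2 ⟨hp ⟨t, B.t_mem_four⟩, hp ⟨v, B.v_mem_four⟩⟩
    · exact fun hp k => B.four_fix hp k.2
  rw [e, Nat.card_coe_set_eq] at h
  exact h.symm

/-- An element of `C(t)` normalizing the four group and fixing two of its fixed points lies in it if its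
square is one. -/
theorem mem_four_of_fix (B : Base G a b t v) {g : G} (hgc : g ∈ centralizer ({t} : Set G)) {p q : Ω}
    (hne : p ≠ q) (hp : p ∈ (fix {t, v} : Set Ω)) (hq : q ∈ (fix {t, v} : Set Ω)) (hgp : g • p = p)
    (hgq : g • q = q) : g ∈ B.toCtx.four := by
  rw [← B.four_change hne hp hq]
  exact (B.change hne hp hq).mem_four_of_commute (mem_pairStab.2 ⟨hgp, hgq⟩) (mem_centralizer_singleton_iff.1 hgc)

/-- Involutions of the pair of normalizers fixing exactly one common fixed point. -/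
def Single (B : Base G a b t v) : Set G :=
  {g | g ∈ centralizer ({t} : Set G) ⊓ normalizer (B.toCtx.four : Set G) ∧ g * g = 1 ∧
    ((fix {t, v} : Set Ω) ∩ fix {g}).ncard = 1}

/-- Involutions of `C(t)` fixing exactly one common point with `t`. -/
def Lone (G : Type u) [Group G] (Ω : Type w) [MulAction G Ω] (t : G) : Set G :=
  {g | g ∈ centralizer ({t} : Set G) ∧ g * g = 1 ∧ ((fix {t} : Set Ω) ∩ fix {g}).ncard = 1}

theorem ncard_inter_conj (S : Set Ω) {k u : G} (hS : ∀ p ∈ S, k • p ∈ S) :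
    (S ∩ fix {k * u * k⁻¹}).ncard = (S ∩ fix {u}).ncard := by
  have hSe : (fun p => k • p) '' S = S :=
    Set.eq_of_subset_of_ncard_le (by rintro _ ⟨p, hp, rfl⟩; exact hS p hp)
      (by rw [Set.ncard_image_of_injective _ (MulAction.injective k)])
  conv_lhs => rw [← hSe]
  rw [fix_conj_singleton, ← Set.image_inter (MulAction.injective k),
    Set.ncard_image_of_injective _ (MulAction.injective k)]

theorem single_conj (B : Base G a b t v) {k u : G}
    (hk : k ∈ centralizer ({t} : Set G) ⊓ normalizer (B.toCtx.four : Set G)) (hu : u ∈ B.Single) :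
    k * u * k⁻¹ ∈ B.Single :=
  ⟨mul_mem (mul_mem hk hu.1) (inv_mem hk), by
    rw [show k * u * k⁻¹ * (k * u * k⁻¹) = k * (u * u) * k⁻¹ by group, hu.2.1, mul_one, mul_inv_cancel], by
    rw [ncard_inter_conj _ fun p hp => B.fix_smul_normalizer (mem_inf.1 hk).2 hp, hu.2.2]⟩

theorem lone_conj {k u : G} (hk : k ∈ centralizer ({t} : Set G)) (hu : u ∈ Lone G Ω t) :
    k * u * k⁻¹ ∈ Lone G Ω t :=
  ⟨mul_mem (mul_mem hk hu.1) (inv_mem hk), by
    rw [show k * u * k⁻¹ * (k * u * k⁻¹) = k * (u * u) * k⁻¹ by group, hu.2.1, mul_one, mul_inv_cancel], by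
    rw [ncard_inter_conj _ fun p hp => fix_smul_centralizer hk hp, hu.2.2]⟩

theorem single_card (B : Base G a b t v) :
    {g | g ∈ B.Single ∧ g • a = a}.ncard = {g | g ∈ B.Single ∧ Swaps g a b}.ncard :=
  single_count B.toCtx.ne (centralizer ({t} : Set G) ⊓ normalizer (B.toCtx.four : Set G)) (fix {t, v})
    B.a_mem_fix₂ B.b_mem_fix₂ (fun _ hk _ hp => B.fix_smul_normalizer (mem_inf.1 hk).2 hp)
    (fun _ hp _ hq hne => B.exists_normalizer_map hne hp hq) B.Single (fun _ h => h.1)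
    (fun _ hk _ hu => B.single_conj hk hu) fun u hu => ⟨fun p _ => smul_smul_of_sq hu.2.1 p, hu.2.2⟩

theorem lone_card (B : Base G a b t v) :
    {g | g ∈ Lone G Ω t ∧ g • a = a}.ncard = {g | g ∈ Lone G Ω t ∧ Swaps g a b}.ncard :=
  single_count B.toCtx.ne (centralizer ({t} : Set G)) (fix {t}) B.a_mem_fix B.b_mem_fix
    (fun _ hk _ hp => fix_smul_centralizer hk hp)
    (fun _ hp _ hq hne => B.exists_centralizer_map hne (mem_fix_singleton.1 hp) (mem_fix_singleton.1 hq))
    (Lone G Ω t) (fun _ h => h.1) (fun _ hk _ hu => lone_conj hk hu)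
    fun u hu => ⟨fun p _ => smul_smul_of_sq hu.2.1 p, hu.2.2⟩

theorem single_lone_card (B : Base G a b t v) :
    {g | g ∈ B.Single ∩ Lone G Ω t ∧ g • a = a}.ncard = {g | g ∈ B.Single ∩ Lone G Ω t ∧ Swaps g a b}.ncard :=
  single_count B.toCtx.ne (centralizer ({t} : Set G) ⊓ normalizer (B.toCtx.four : Set G)) (fix {t, v})
    B.a_mem_fix₂ B.b_mem_fix₂ (fun _ hk _ hp => B.fix_smul_normalizer (mem_inf.1 hk).2 hp)
    (fun _ hp _ hq hne => B.exists_normalizer_map hne hp hq) (B.Single ∩ Lone G Ω t) (fun _ h => h.1.1)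
    (fun _ hk _ hu => ⟨B.single_conj hk hu.1, lone_conj (mem_inf.1 hk).1 hu.2⟩)
    fun u hu => ⟨fun p _ => smul_smul_of_sq hu.1.2.1 p, hu.1.2.2⟩

theorem fix_inter (t g : G) : (fix {t} : Set Ω) ∩ fix {g} = fix {t, g} := by
  ext p
  simp [mem_fix_singleton, mem_fix_pair]

end Base

end Cfsg.Lib.A4Stab
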