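import Cfsg.Agent.Lib.A4Stab.Fifteen

/-!
# The degree `16`

The fixed point free involutions and the identity form a regular normal subgroup; the lines through a
point are the fixed point sets of four groups.
-/

set_option autoImplicit false
set_option linter.style.haveILetI false
set_option linter.unusedSectionVars false

namespace Cfsg.Lib.A4Stab

open Subgroup MulAction

universe u w

variable {G : Type u} [Group G] [Finite G] {Ω : Type w} [Finite Ω] [MulAction G Ω] [FaithfulSMul G Ω]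

theorem mem_normalizer_of_conj_le {Y : Subgroup G} {g : G} (h : ∀ y ∈ Y, g * y * g⁻¹ ∈ Y) :
    g ∈ normalizer (Y : Set G) := by
  have hsub : Y.map (MulAut.conj g).toMonoidHom ≤ Y := by
    rintro _ ⟨y, hy, rfl⟩
    exact h y hy
  have heq := eq_of_le_of_card_ge hsub (by rw [card_map_of_injective (MulAut.conj g).injective])
  refine mem_normalizer_iff.2 fun x => ⟨h x, fun hx => ?_⟩
  rw [← heq] at hx
  obtain ⟨y, hy, hye⟩ := hx
  rwa [(MulAut.conj g).injective hye] at hy

theorem commute_of_sq {Y : Subgroup G} (h : ∀ x ∈ Y, x * x = 1) {x y : G} (hx : x ∈ Y) (hy : y ∈ Y) :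
    Commute x y := by
  have h' : (x * y)⁻¹ = x * y := inv_eq_of_mul_eq_one_right (h _ (mul_mem hx hy))
  rw [mul_inv_rev, inv_eq_of_mul_eq_one_right (h x hx), inv_eq_of_mul_eq_one_right (h y hy)] at h'
  exact h'.symm

theorem Ctx.sq_or_cube {a b : Ω} (c : Ctx G a b) {x : G} (hx : x ∈ pairStab G a b) :
    x * x = 1 ∨ x * (x * x) = 1 := by
  obtain ⟨e⟩ := c.iso
  have key : ∀ x : alternatingGroup (Fin 4), x * x = 1 ∨ x * (x * x) = 1 := by decide
  rcases key (e ⟨x, hx⟩) with h | h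
  · left
    rw [← map_mul, ← map_one e] at h
    exact congrArg Subtype.val (e.injective h)
  · right
    rw [← map_mul, ← map_mul, ← map_one e] at h
    exact congrArg Subtype.val (e.injective h)

/-- A fixed point free involution. -/
def IsFpf (G : Type u) [Group G] (Ω : Type w) [MulAction G Ω] (g : G) : Prop :=
  orderOf g = 2 ∧ ¬ IsT G Ω g

theorem IsFpf.conj {g : G} (h : IsFpf G Ω g) (k : G) : IsFpf G Ω (k * g * k⁻¹) := by
  refine ⟨by rw [Invol.orderOf_conj_eq, h.1], fun h' => h.2 ?_⟩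
  have := h'.conj k⁻¹
  rwa [show k⁻¹ * (k * g * k⁻¹) * k⁻¹⁻¹ = g by group] at this

/-- The data in degree `16`. -/
structure Deg16 (G : Type u) [Group G] (Ω : Type w) [MulAction G Ω] : Prop where
  card : Nat.card Ω = 16
  ctx : ∀ {p q : Ω}, p ≠ q → Ctx G p q
  fix_one : ∀ {a b : Ω} {t v : G}, Base G a b t v → (fix {t} : Set Ω).ncard = 4
  fix_two : ∀ {a b : Ω} {t v : G}, Base G a b t v → (fix {t, v} : Set Ω).ncard = 4
  swap : ∀ {a b : Ω} {t v : G}, Base G a b t v → ∃ z, CentralSwap G a b z ∧ ¬ IsT G Ω z ∧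
    ∀ x : G, IsFpf G Ω x → Swaps x a b → x = z

namespace Base

variable {a b : Ω} {t v : G}

theorem deg16 (B : Base G a b t v) (hn : Nat.card Ω = 16) (hi : (fix {t} : Set Ω).ncard = 4)
    (hj : (fix {t, v} : Set Ω).ncard = 4) {z : G} (hz : CentralSwap G a b z) (hzT : ¬ IsT G Ω z) :
    Deg16 G Ω := by
  refine ⟨hn, fun h => B.toCtx.change h, fun B' => by rw [B.fix_isT B'.isT_t, hi], ?_, ?_⟩
  · intro p q t' v' B'
    obtain ⟨g, hga, hgb⟩ := B.toCtx.two B.toCtx.ne B'.toCtx.ne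
    have hm : ∀ x, x ∈ pairStab G p q → g⁻¹ * x * g⁻¹⁻¹ ∈ pairStab G a b := fun x hx => mem_pairStab.2
      ⟨by rw [inv_inv, mul_smul, mul_smul, hga, (mem_pairStab.1 hx).1, inv_smul_eq_iff, hga],
        by rw [inv_inv, mul_smul, mul_smul, hgb, (mem_pairStab.1 hx).2, inv_smul_eq_iff, hgb]⟩
    have B'' : Base G a b (g⁻¹ * t' * g⁻¹⁻¹) (g⁻¹ * v' * g⁻¹⁻¹) := ⟨B.toCtx, hm _ B'.htH,
      by rw [Invol.orderOf_conj_eq, B'.ht], hm _ B'.hvH, by rw [Invol.orderOf_conj_eq, B'.hv],
      fun e => B'.htv (mul_left_cancel (mul_right_cancel e))⟩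
    have e : (fix {g⁻¹ * t' * g⁻¹⁻¹, g⁻¹ * v' * g⁻¹⁻¹} : Set Ω) = fix {t, v} := by
      ext x
      constructor
      · exact fun hx => mem_fix_pair.2 ⟨B''.four_fix hx B.t_mem_four, B''.four_fix hx B.v_mem_four⟩
      · exact fun hx => mem_fix_pair.2 ⟨B.four_fix hx B''.t_mem_four, B.four_fix hx B''.v_mem_four⟩
    rw [fix_conj_pair] at e
    rw [← Set.ncard_image_of_injective (fix {t', v'} : Set Ω) (MulAction.injective g⁻¹), e, hj]
  · intro p q t' v' B'
    have hb : {g | IsT G Ω g ∧ Swaps g a b}.ncard = 3 := by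
      have h := B.count_eq
      rw [hn, hi] at h
      omega
    have hb' := B.beta_const B'
    rw [hb] at hb'
    rcases B'.dichotomy with ⟨z', hz'⟩ | ⟨u, hu⟩
    · rcases B'.central_beta hz' with ⟨-, -, h⟩ | ⟨-, -, h⟩ | ⟨h1, h2, -⟩
      · omega
      · omega
      · refine ⟨z', hz', h1, fun x hx hs => ?_⟩
        obtain ⟨y, hy, rfl⟩ := (B'.central_swap_invol hz').1 ⟨hs, Invol.inv_mul_self hx.1⟩
        by_cases hy1 : y = 1
        · rw [hy1, mul_one]
        · exact absurd ((B'.isT_mul_four hz' hy hy1).2 h2) hx.2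
    · rw [B'.outer_beta hu] at hb'
      omega

end Base

namespace Deg16

variable {a b : Ω} {t v : G}

theorem fpf_move (D : Deg16 G Ω) {g : G} (hg : IsFpf G Ω g) (p : Ω) : g • p ≠ p := by
  intro hp
  obtain ⟨q, hq⟩ : ∃ q : Ω, p ≠ q := by
    by_contra h
    push Not at h
    haveI : Subsingleton Ω := ⟨fun x y => (h x).symm.trans (h y)⟩
    have := D.card
    rw [Nat.card_of_subsingleton p] at this
    omega
  obtain ⟨t', v', B'⟩ := exists_base (D.ctx hq)
  exact hg.2 (B'.isT_of_even (by rw [D.card]) (mem_stabilizer_iff.2 hp) hg.1)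

theorem fpf_swaps (D : Deg16 G Ω) {g : G} (hg : IsFpf G Ω g) {p q : Ω} (h : g • p = q) :
    Swaps g p q ∧ p ≠ q :=
  ⟨⟨h, by rw [← h, smul_smul_of_sq (Invol.inv_mul_self hg.1)]⟩, fun e => D.fpf_move hg p (h.trans e.symm)⟩

theorem fpf_ext (D : Deg16 G Ω) {g h : G} (hg : IsFpf G Ω g) (hh : IsFpf G Ω h) {p : Ω}
    (e : g • p = h • p) : g = h := by
  obtain ⟨hs, hne⟩ := D.fpf_swaps hg rfl (p := p)
  obtain ⟨t', v', B'⟩ := exists_base (D.ctx hne)
  obtain ⟨z, -, -, huniq⟩ := D.swap B'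
  exact (huniq g hg hs).trans (huniq h hh (D.fpf_swaps hh e.symm).1).symm

theorem exists_fpf (D : Deg16 G Ω) {p q : Ω} (h : p ≠ q) : ∃ x : G, IsFpf G Ω x ∧ x • p = q := by
  obtain ⟨t', v', B'⟩ := exists_base (D.ctx h)
  obtain ⟨z, hz, hzT, -⟩ := D.swap B'
  exact ⟨z, ⟨hz.ord, hzT⟩, hz.swaps.1⟩

theorem fpf_comm (D : Deg16 G Ω) {x : G} (hx : IsFpf G Ω x) {p q : Ω} (h : x • p = q) {k : G}
    (hk : k ∈ pairStab G p q) : Commute x k := by
  obtain ⟨hs, hne⟩ := D.fpf_swaps hx h
  obtain ⟨t', v', B'⟩ := exists_base (D.ctx hne)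
  obtain ⟨z, hz, -, huniq⟩ := D.swap B'
  rw [huniq x hx hs]
  exact hz.comm k hk

theorem four_free (D : Deg16 G Ω) (B : Base G a b t v) {y : G} (hy : y ∈ B.toCtx.four) (hy1 : y ≠ 1)
    {q : Ω} (hq : y • q = q) : q ∈ (fix {t, v} : Set Ω) := by
  have hT : IsT G Ω y := ⟨B.toCtx.orderOf_of_mem_four hy hy1, a, b, B.toCtx.ne, hy.1.1, hy.1.2⟩
  have e : (fix {t, v} : Set Ω) = fix {y} := Set.eq_of_subset_of_ncard_le
    (fun p hp => mem_fix_singleton.2 (B.four_fix hp hy)) (by rw [B.fix_isT hT, D.fix_one B, D.fix_two B])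
  rw [e]
  exact mem_fix_singleton.2 hq

theorem fourth (D : Deg16 G Ω) (B : Base G a b t v) {c p q : Ω} (hc : c ∈ (fix {t, v} : Set Ω))
    (hca : c ≠ a) (hcb : c ≠ b) (hp : p ∈ (fix {t, v} : Set Ω)) (hpa : p ≠ a) (hpb : p ≠ b) (hpc : p ≠ c)
    (hq : q ∈ (fix {t, v} : Set Ω)) (hqa : q ≠ a) (hqb : q ≠ b) (hqc : q ≠ c) : p = q := by
  by_contra hne
  have h5 : ({a, b, c, p, q} : Set Ω).ncard = 5 := by
    rw [Set.ncard_insert_of_notMem (by simp [B.toCtx.ne, hca.symm, hpa.symm, hqa.symm]),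
      Set.ncard_insert_of_notMem (by simp [hcb.symm, hpb.symm, hqb.symm]),
      Set.ncard_insert_of_notMem (by simp [hpc.symm, hqc.symm]), Set.ncard_pair hne]
  have hsub : ({a, b, c, p, q} : Set Ω) ⊆ fix {t, v} := by
    rintro x (rfl | rfl | rfl | rfl | rfl)
    exacts [B.a_mem_fix₂, B.b_mem_fix₂, hc, hp, hq]
  have := Set.ncard_le_ncard hsub
  rw [h5, D.fix_two B] at this
  omega

theorem exists_third (D : Deg16 G Ω) (B : Base G a b t v) :
    ∃ c ∈ (fix {t, v} : Set Ω), c ≠ a ∧ c ≠ b := by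
  by_contra h
  push Not at h
  have hsub : (fix {t, v} : Set Ω) ⊆ {a, b} := fun x hx => by
    rcases eq_or_ne x a with e | e
    · exact Or.inl e
    · exact Or.inr (h x hx e)
  have := Set.ncard_le_ncard hsub
  rw [D.fix_two B, Set.ncard_pair B.toCtx.ne] at this
  omega

/-- The pair stabilizer fixes the whole line. -/
theorem pairStab_fix (D : Deg16 G Ω) (B : Base G a b t v) {h : G} (hh : h ∈ pairStab G a b) {q : Ω}
    (hq : q ∈ (fix {t, v} : Set Ω)) : h • q = q := by
  rcases B.toCtx.sq_or_cube hh with h2 | h3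
  · exact B.four_fix hq ⟨hh, h2⟩
  have hN := B.pairStab_le_normalizer hh
  have hne : ∀ {h' : G}, h' ∈ pairStab G a b → ∀ {p : Ω}, p ≠ a → p ≠ b → h' • p ≠ a ∧ h' • p ≠ b := by
    intro h' hh' p hpa hpb
    exact ⟨fun e => hpa (MulAction.injective h' (e.trans (mem_pairStab.1 hh').1.symm)),
      fun e => hpb (MulAction.injective h' (e.trans (mem_pairStab.1 hh').2.symm))⟩
  rcases eq_or_ne q a with rfl | hqa
  · exact (mem_pairStab.1 hh).1
  rcases eq_or_ne q b with rfl | hqb
  · exact (mem_pairStab.1 hh).2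
  by_contra hmove
  obtain ⟨h1a, h1b⟩ := hne hh hqa hqb
  obtain ⟨h2a, h2b⟩ := hne hh h1a h1b
  have hF1 := B.fix_smul_normalizer hN hq
  have hF2 := B.fix_smul_normalizer hN hF1
  have e2 : h • h • q = q := D.fourth B hF1 h1a h1b hF2 h2a h2b (fun e => hmove (MulAction.injective h e))
    hq hqa hqb (Ne.symm hmove)
  apply hmove
  calc h • q = h • h • h • q := by rw [e2]
    _ = q := by rw [← mul_smul, ← mul_smul, mul_assoc, h3, one_smul]

theorem pairStab_eq (D : Deg16 G Ω) (B : Base G a b t v) {p q : Ω} (hp : p ∈ (fix {t, v} : Set Ω))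
    (hq : q ∈ (fix {t, v} : Set Ω)) (hne : p ≠ q) : pairStab G p q = pairStab G a b := by
  refine (eq_of_le_of_card_ge (fun h hh => mem_pairStab.2 ⟨D.pairStab_fix B hh hp, D.pairStab_fix B hh hq⟩)
    (le_of_eq ?_)).symm
  rw [(D.ctx hne).card_pairStab, B.toCtx.card_pairStab]

theorem mem_line_comm (D : Deg16 G Ω) (B : Base G a b t v) {x : G} (hx : IsFpf G Ω x)
    (hxa : x • a ∈ (fix {t, v} : Set Ω)) {k : G} (hk : k ∈ pairStab G a b) : Commute x k :=
  D.fpf_comm hx rfl (p := a) (by rw [D.pairStab_eq B B.a_mem_fix₂ hxa (D.fpf_swaps hx rfl).2]; exact hk)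

theorem line_normalizer (D : Deg16 G Ω) (B : Base G a b t v) {x : G} (hx : IsFpf G Ω x)
    (hxa : x • a ∈ (fix {t, v} : Set Ω)) : x ∈ normalizer (B.toCtx.four : Set G) :=
  B.mem_normalizer_of_commute (D.mem_line_comm B hx hxa B.htH) (D.mem_line_comm B hx hxa B.hvH)

/-- The product of two involutions of a line belongs to the line. -/
theorem prod_line (D : Deg16 G Ω) (B : Base G a b t v) {g h : G} (hg : IsFpf G Ω g) (hgb : g • a = b)
    (hh : IsFpf G Ω h) (hhF : h • a ∈ (fix {t, v} : Set Ω)) (hne : g ≠ h) :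
    IsFpf G Ω (g * h) ∧ (g * h) • a ∈ (fix {t, v} : Set Ω) := by
  set c := h • a with hc
  have hca : c ≠ a := D.fpf_move hh a
  have hcb : c ≠ b := fun e => hne (D.fpf_ext hg hh (p := a) (hgb.trans e.symm))
  obtain ⟨⟨-, hgb'⟩, -⟩ := D.fpf_swaps hg hgb
  obtain ⟨⟨-, hhc⟩, -⟩ := D.fpf_swaps hh hc.symm
  have hgN : g ∈ normalizer (B.toCtx.four : Set G) := D.line_normalizer B hg (hgb ▸ B.b_mem_fix₂)
  have hhN := D.line_normalizer B hh hhF
  set d := g • c with hd
  have hdF : d ∈ (fix {t, v} : Set Ω) := B.fix_smul_normalizer hgN hhF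
  have hda : d ≠ a := fun e => hcb (MulAction.injective g (e.trans hgb'.symm))
  have hdb : d ≠ b := fun e => hca (MulAction.injective g (e.trans hgb.symm))
  have hdc : d ≠ c := D.fpf_move hg c
  have hhb : h • b = d := by
    refine D.fourth B hhF hca hcb (B.fix_smul_normalizer hhN B.b_mem_fix₂) ?_ (D.fpf_move hh b) ?_ hdF hda hdb hdc
    · exact fun e => hcb (MulAction.injective h (hhc.trans e.symm))
    · exact fun e => B.toCtx.ne.symm (MulAction.injective h (e.trans hc))
  obtain ⟨zd, hzd, hzda⟩ := D.exists_fpf hda.symm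
  have hzN := D.line_normalizer B hzd (hzda ▸ hdF)
  obtain ⟨⟨-, hzdd⟩, -⟩ := D.fpf_swaps hzd hzda
  have hzb : zd • b = c := by
    refine D.fourth B hdF hda hdb (B.fix_smul_normalizer hzN B.b_mem_fix₂) ?_ (D.fpf_move hzd b) ?_ hhF hca hcb hdc.symm
    · exact fun e => hdb (MulAction.injective zd (hzdd.trans e.symm))
    · exact fun e => B.toCtx.ne.symm (MulAction.injective zd (e.trans hzda.symm))
  have hcomm : ∀ k ∈ pairStab G a b, Commute (zd * (g * h)) k := fun k hk =>
    (D.mem_line_comm B hzd (hzda ▸ hdF) hk).mul_left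
      ((D.mem_line_comm B hg (hgb ▸ B.b_mem_fix₂) hk).mul_left (D.mem_line_comm B hh hhF hk))
  have hwH : zd * (g * h) ∈ pairStab G a b := mem_pairStab.2 ⟨by
      rw [mul_smul, mul_smul, ← hc, ← hd, hzdd],
    by rw [mul_smul, mul_smul, hhb, hd, smul_smul_of_sq (Invol.inv_mul_self hg.1), ← hzb,
      smul_smul_of_sq (Invol.inv_mul_self hzd.1)]⟩
  obtain ⟨x, hx, hxo⟩ := B.exists_three
  have h1 : zd * (g * h) = 1 := B.eq_one_of_commute_three hx hxo
    (B.mem_four_of_commute hwH (hcomm t B.htH)) (hcomm x hx).symm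
  rw [show g * h = zd by rw [← Invol.inv_eq_self hzd.1]; exact (inv_eq_of_mul_eq_one_right h1).symm]
  exact ⟨hzd, hzda ▸ hdF⟩

/-- The four group of fixed point free involutions along the line through `a` and `b`. -/
def line (D : Deg16 G Ω) (B : Base G a b t v) : Subgroup G where
  carrier := {g | g = 1 ∨ (IsFpf G Ω g ∧ g • a ∈ (fix {t, v} : Set Ω))}
  one_mem' := Or.inl rfl
  mul_mem' := by
    rintro g h (rfl | ⟨hg, hga⟩) hh
    · rw [one_mul]; exact hh
    rcases hh with rfl | ⟨hh, hha⟩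
    · rw [mul_one]; exact Or.inr ⟨hg, hga⟩
    rcases eq_or_ne g h with rfl | hne
    · exact Or.inl (Invol.inv_mul_self hg.1)
    exact Or.inr (D.prod_line (B.change (D.fpf_swaps hg rfl).2 B.a_mem_fix₂ hga) hg rfl hh hha hne)
  inv_mem' := by
    rintro g (rfl | ⟨hg, hga⟩)
    · exact Or.inl inv_one
    · rw [Invol.inv_eq_self hg.1]; exact Or.inr ⟨hg, hga⟩

theorem mem_line (D : Deg16 G Ω) (B : Base G a b t v) {g : G} :
    g ∈ D.line B ↔ g = 1 ∨ (IsFpf G Ω g ∧ g • a ∈ (fix {t, v} : Set Ω)) := Iff.rfl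

theorem line_sq (D : Deg16 G Ω) (B : Base G a b t v) : ∀ g ∈ D.line B, g * g = 1 := by
  rintro g (rfl | ⟨hg, -⟩)
  · exact one_mul 1
  · exact Invol.inv_mul_self hg.1

theorem line_smul_inj (D : Deg16 G Ω) (B : Base G a b t v) {g h : G} (hg : g ∈ D.line B) (hh : h ∈ D.line B)
    (e : g • a = h • a) : g = h := by
  rcases hg with rfl | ⟨hg, -⟩ <;> rcases hh with rfl | ⟨hh, -⟩
  · rfl
  · exact absurd (e.symm.trans (one_smul G a)) (D.fpf_move hh a)
  · exact absurd (e.trans (one_smul G a)) (D.fpf_move hg a)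
  · exact D.fpf_ext hg hh e

theorem card_line (D : Deg16 G Ω) (B : Base G a b t v) : Nat.card (D.line B) = 4 := by
  rw [← D.fix_two B, ← Nat.card_coe_set_eq]
  refine Nat.card_eq_of_bijective (fun g => (⟨(g : G) • a, ?_⟩ : (fix {t, v} : Set Ω))) ⟨?_, ?_⟩
  · rcases g.2 with h | h
    · rw [h, one_smul]; exact B.a_mem_fix₂
    · exact h.2
  · exact fun g h e => Subtype.ext (D.line_smul_inj B g.2 h.2 (congrArg Subtype.val e))
  · rintro ⟨q, hq⟩
    rcases eq_or_ne a q with rfl | hne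
    · exact ⟨1, Subtype.ext (one_smul G a)⟩
    obtain ⟨x, hx, hxa⟩ := D.exists_fpf hne
    exact ⟨⟨x, Or.inr ⟨hx, hxa ▸ hq⟩⟩, Subtype.ext hxa⟩

theorem line_comm (D : Deg16 G Ω) (B : Base G a b t v) {x : G} (hx : x ∈ D.line B) {k : G}
    (hk : k ∈ pairStab G a b) : Commute x k := by
  rcases hx with rfl | ⟨hx, hxa⟩
  · exact Commute.one_left k
  · exact D.mem_line_comm B hx hxa hk

theorem centralizer_transitive (D : Deg16 G Ω) (B : Base G a b t v) {z : G} (hz : IsFpf G Ω z)
    (hzb : z • a = b) (p : Ω) : ∃ k ∈ centralizer ({z} : Set G), k • a = p := by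
  obtain ⟨k, hka, hkb⟩ := B.toCtx.two B.toCtx.ne (D.fpf_swaps hz rfl (p := p)).2
  refine ⟨k, mem_centralizer_singleton_iff.2 (mul_inv_eq_iff_eq_mul.1 (D.fpf_ext (hz.conj k) hz (p := p) ?_)), hka⟩
  conv_lhs => rw [← hka]
  rw [conj_smul, hzb, hkb]

theorem card_centralizer (D : Deg16 G Ω) (B : Base G a b t v) {z : G} (hz : IsFpf G Ω z) (hzb : z • a = b) :
    Nat.card (centralizer ({z} : Set G)) = 192 := by
  have hor : MulAction.orbit ↥(centralizer ({z} : Set G)) a = Set.univ := Set.eq_univ_of_forall fun p => by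
    obtain ⟨k, hk, hka⟩ := D.centralizer_transitive B hz hzb p
    exact ⟨⟨k, hk⟩, hka⟩
  have h := (stabilizer ↥(centralizer ({z} : Set G)) a).card_mul_index
  rw [index_stabilizer, hor, Set.ncard_univ, D.card] at h
  have e : Nat.card (stabilizer ↥(centralizer ({z} : Set G)) a) = Nat.card ↥(pairStab G a b) := Nat.card_congr
    { toFun := fun x => ⟨x.1.1, mem_pairStab.2 ⟨x.2, by
        rw [← hzb, ← mul_smul, mem_centralizer_singleton_iff.1 x.1.2, mul_smul]
        exact congrArg (z • ·) x.2⟩⟩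
      invFun := fun x => ⟨⟨x.1, mem_centralizer_singleton_iff.2 (D.fpf_comm hz hzb x.2).eq.symm⟩,
        (mem_pairStab.1 x.2).1⟩
      left_inv := fun x => rfl
      right_inv := fun x => rfl }
  rw [e, B.toCtx.card_pairStab] at h
  omega

theorem centralizer_le_line (D : Deg16 G Ω) (B : Base G a b t v) {z : G} (hz : IsFpf G Ω z)
    (hzb : z • a = b) : centralizer ({z} : Set G) ≤ normalizer (D.line B : Set G) := by
  intro k hk
  obtain ⟨c, hc, hca, hcb⟩ := D.exists_third B
  obtain ⟨zc, hzc, hzca⟩ := D.exists_fpf hca.symm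
  have hzm : z ∈ D.line B := Or.inr ⟨hz, hzb ▸ B.b_mem_fix₂⟩
  have hzcm : zc ∈ D.line B := Or.inr ⟨hzc, hzca ▸ hc⟩
  have hzne : z ≠ zc := fun e => hcb (hzca.symm.trans (e ▸ hzb))
  set Cz := centralizer ({z} : Set G)
  set C' := centralizer ({z, zc} : Set G) with hC'
  have hle : C' ≤ Cz := centralizer_le (by simp)
  have hmem : ∀ (h : pairStab G a b) (y : D.line B), (h : G) * y ∈ C' := fun h y => by
    refine mem_centralizer_iff.2 ?_
    rintro g (rfl | rfl)
    · exact ((D.line_comm B hzm h.2).mul_right (commute_of_sq (D.line_sq B) hzm y.2)).eq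
    · exact ((D.line_comm B hzcm h.2).mul_right (commute_of_sq (D.line_sq B) hzcm y.2)).eq
  have h48 : 48 ≤ Nat.card C' := by
    calc 48 = Nat.card (↥(pairStab G a b) × ↥(D.line B)) := by
          rw [Nat.card_prod, B.toCtx.card_pairStab, D.card_line B]
      _ ≤ _ := Nat.card_le_card_of_injective (fun p => (⟨(p.1 : G) * p.2, hmem p.1 p.2⟩ : C')) ?_
    intro p q e
    have e' : (p.1 : G) * p.2 = q.1 * q.2 := congrArg Subtype.val e
    have h2 : (p.2 : G) = q.2 := by
      refine D.line_smul_inj B p.2.2 q.2.2 ?_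
      have hc1 : Commute (p.2 : G) p.1 := D.line_comm B p.2.2 p.1.2
      have hc2 : Commute (q.2 : G) q.1 := D.line_comm B q.2.2 q.1.2
      have := congrArg (· • a) e'
      rwa [← hc1.eq, ← hc2.eq, mul_smul, mul_smul, (mem_pairStab.1 p.1.2).1, (mem_pairStab.1 q.1.2).1] at this
    refine Prod.ext (Subtype.ext ?_) (Subtype.ext h2)
    rw [h2] at e'
    exact mul_right_cancel e'
  have hidx : (C'.subgroupOf Cz).index ≤ 4 := by
    have h := (C'.subgroupOf Cz).card_mul_index
    rw [Nat.card_congr (subgroupOfEquivOfLe hle).toEquiv, D.card_centralizer B hz hzb] at h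
    by_contra h5
    have : Nat.card C' * 5 ≤ 192 := h ▸ Nat.mul_le_mul_left _ (by omega)
    omega
  have hxF : (k * zc * k⁻¹) • a ∈ (fix {t, v} : Set Ω) := by
    by_contra he
    set x := k * zc * k⁻¹ with hx
    set e := x • a
    have hyC : ∀ y : B.toCtx.four, (y : G) * k ∈ Cz := fun y => mul_mem
      (mem_centralizer_singleton_iff.2 (D.line_comm B hzm y.2.1).eq.symm) hk
    let f : Option B.toCtx.four → ↥Cz ⧸ C'.subgroupOf Cz := fun o =>
      match o with
      | none => QuotientGroup.mk 1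
      | some y => QuotientGroup.mk ⟨(y : G) * k, hyC y⟩
    have hkey : ∀ p q : Cz, (QuotientGroup.mk p : ↥Cz ⧸ C'.subgroupOf Cz) = QuotientGroup.mk q →
        (p : G) * zc * (p : G)⁻¹ = (q : G) * zc * (q : G)⁻¹ := by
      intro p q hpq
      rw [QuotientGroup.eq, mem_subgroupOf, hC', centralizer_pair] at hpq
      exact (Invol.coset_iff_conj.1 (mem_inf.1 hpq).2).symm
    have hval : ∀ y : B.toCtx.four, ((y : G) * k * zc * ((y : G) * k)⁻¹) • a = (y : G) • e := fun y => by
      rw [show (y : G) * k * zc * ((y : G) * k)⁻¹ = (y : G) * x * (y : G)⁻¹ by rw [hx]; group, mul_smul, mul_smul,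
        inv_smul_eq_iff.2 (B.four_fix B.a_mem_fix₂ y.2).symm]
    have hinj : Function.Injective f := by
      intro p q hpq
      cases p with
      | none =>
        cases q with
        | none => rfl
        | some y =>
          exfalso
          have h := congrArg (· • a) (hkey _ _ hpq)
          simp only [OneMemClass.coe_one, one_mul, inv_one, mul_one, hval, hzca] at h
          refine he ?_
          have h' : e = (y : G)⁻¹ • c := by rw [h, inv_smul_smul]
          rw [h', inv_smul_eq_iff.2 (B.four_fix hc y.2).symm]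
          exact hc
      | some y =>
        cases q with
        | none =>
          exfalso
          have h := congrArg (· • a) (hkey _ _ hpq)
          simp only [OneMemClass.coe_one, one_mul, inv_one, mul_one, hval, hzca] at h
          refine he ?_
          have h' : e = (y : G)⁻¹ • c := by rw [← h, inv_smul_smul]
          rw [h', inv_smul_eq_iff.2 (B.four_fix hc y.2).symm]
          exact hc
        | some y' =>
          have h := congrArg (· • a) (hkey _ _ hpq)
          simp only [hval] at h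
          congr 1
          by_contra hne
          refine he (D.four_free B (mul_mem (inv_mem y'.2) y.2) (fun h1 => hne ?_) ?_)
          · exact Subtype.ext (inv_mul_eq_one.1 h1).symm
          · rw [mul_smul, h, inv_smul_smul]
    have hcard := Nat.card_le_card_of_injective f hinj
    rw [Finite.card_option, B.toCtx.card_four, ← index_eq_card] at hcard
    omega
  refine mem_normalizer_of_conj_le fun g hg => ?_
  have hkz : k * z * k⁻¹ = z := by rw [mem_centralizer_singleton_iff.1 hk, mul_inv_cancel_right]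
  have hxm : k * zc * k⁻¹ ∈ D.line B := Or.inr ⟨hzc.conj k, hxF⟩
  rcases hg with rfl | ⟨hg, hga⟩
  · rw [mul_one, mul_inv_cancel]; exact one_mem _
  have hgm : g ∈ D.line B := Or.inr ⟨hg, hga⟩
  rcases eq_or_ne (g • a) b with e | heb
  · rw [D.line_smul_inj B hgm hzm (e.trans hzb.symm), hkz]; exact hzm
  rcases eq_or_ne (g • a) c with e | hec
  · rw [D.line_smul_inj B hgm hzcm (e.trans hzca.symm)]; exact hxm
  obtain ⟨hp, hpF⟩ := D.prod_line B hz hzb hzc (hzca ▸ hc) hzne
  have hpm : z * zc ∈ D.line B := Or.inr ⟨hp, hpF⟩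
  have e : g • a = (z * zc) • a := by
    refine D.fourth B hc hca hcb hga (D.fpf_move hg a) heb hec hpF (D.fpf_move hp a) ?_ ?_
    · intro e
      exact Invol.ne_one hzc.1 (mul_eq_left.1 (D.line_smul_inj B hpm hzm (e.trans hzb.symm)))
    · intro e
      exact Invol.ne_one hz.1 (mul_eq_right.1 (D.line_smul_inj B hpm hzcm (e.trans hzca.symm)))
  rw [D.line_smul_inj B hgm hpm e, show k * (z * zc) * k⁻¹ = (k * z * k⁻¹) * (k * zc * k⁻¹) by group, hkz]
  exact mul_mem hzm hxm

theorem stab_normalizer_le (D : Deg16 G Ω) (B : Base G a b t v) {g : G}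
    (hg : g ∈ normalizer (B.toCtx.four : Set G) ⊓ stabilizer G a) : g ∈ normalizer (D.line B : Set G) := by
  refine mem_normalizer_of_conj_le fun y hy => ?_
  rcases hy with rfl | ⟨hy, hya⟩
  · rw [mul_one, mul_inv_cancel]; exact one_mem _
  refine Or.inr ⟨hy.conj g, ?_⟩
  rw [mul_smul, mul_smul, inv_smul_eq_iff.2 (mem_inf.1 hg).2.symm]
  exact B.fix_smul_normalizer (mem_inf.1 hg).1 hya

theorem index_normalizer_line (D : Deg16 G Ω) (B : Base G a b t v) :
    (normalizer (D.line B : Set G)).index = 5 := by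
  obtain ⟨z, hz, hzb⟩ := D.exists_fpf B.toCtx.ne
  obtain ⟨hG, -, -, -, -, hN, -⟩ := B.cards
  rw [D.fix_two B, show 12 * (4 - 1) = 36 by norm_num] at hN
  rw [D.card, show 12 * (16 * (16 - 1)) = 2880 by norm_num] at hG
  set N := normalizer (D.line B : Set G)
  have h64 : 64 ∣ Nat.card N := by
    refine dvd_trans ?_ (card_dvd_of_le (D.centralizer_le_line B hz hzb))
    rw [D.card_centralizer B hz hzb]; norm_num
  have h9 : 9 ∣ Nat.card N := by
    refine dvd_trans ?_ (card_dvd_of_le fun g hg => D.stab_normalizer_le B hg)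
    rw [hN]; norm_num
  obtain ⟨m, hm⟩ := (show Nat.Coprime 64 9 by norm_num).mul_dvd_of_dvd_of_dvd h64 h9
  have h := N.card_mul_index
  rw [hm, hG] at h
  have h5 : m * N.index = 5 := Nat.eq_of_mul_eq_mul_left (show 0 < 64 * 9 by norm_num) (by
    rw [← mul_assoc, h])
  have hne : N.index ≠ 1 := by
    intro h1
    haveI : (D.line B).Normal := normalizer_eq_top_iff.1 (index_eq_one.1 h1)
    have hne : D.line B ≠ ⊥ := fun e => by
      have := D.card_line B
      rw [e, card_bot] at this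
      omega
    have := B.card_dvd_of_normal (D.line B) hne
    rw [D.card, D.card_line B] at this
    norm_num at this
  exact ((Nat.dvd_prime (show Nat.Prime 5 by norm_num)).1 (h5 ▸ dvd_mul_left _ m)).resolve_left hne

theorem mem_normalizer_of_meet (D : Deg16 G Ω) (B : Base G a b t v) {g y : G} (hy : y ∈ D.line B) (hy1 : y ≠ 1)
    (hgy : g * y * g⁻¹ ∈ D.line B) : g ∈ normalizer (D.line B : Set G) := by
  obtain ⟨hyf, hya⟩ := hy.resolve_left hy1
  obtain ⟨hyf', hya'⟩ := hgy.resolve_left fun e => hy1 (conj_eq_one_iff.1 e)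
  set y' := g * y * g⁻¹ with hy'
  have hyne := (D.fpf_swaps hyf (p := a) rfl).2
  set B1 := B.change hyne B.a_mem_fix₂ hya
  obtain ⟨k, hk, hka, hkb⟩ := B.exists_normalizer_map B.toCtx.ne B.a_mem_fix₂ B.b_mem_fix₂
  obtain ⟨k', hk', hk'a, hk'b⟩ := B1.exists_normalizer_map (D.fpf_swaps hyf' (p := a) rfl).2 B.a_mem_fix₂ hya'
  have hk'N : k' ∈ normalizer (D.line B : Set G) := by
    have := D.stab_normalizer_le B1 (mem_inf.2 ⟨(mem_inf.1 hk').2, mem_stabilizer_iff.2 hk'a⟩)
    exact this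
  have e : k' * y' * k'⁻¹ = y := by
    refine D.fpf_ext (hyf'.conj k') hyf (p := a) ?_
    rw [mul_smul, mul_smul, inv_smul_eq_iff.2 hk'a.symm, hk'b]
  have hc : k' * g ∈ centralizer ({y} : Set G) := mem_centralizer_singleton_iff.2 (by
    calc k' * g * y = k' * (g * y * g⁻¹) * k'⁻¹ * (k' * g) := by group
      _ = y * (k' * g) := by rw [← hy', e])
  have := mul_mem (inv_mem hk'N) (D.centralizer_le_line B1 hyf rfl hc : k' * g ∈ normalizer (D.line B : Set G))
  rwa [inv_mul_cancel_left] at this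

/-- Each fixed point free involution normalizes all conjugates of its line. -/
theorem fpf_mem_core (D : Deg16 G Ω) (B : Base G a b t v) {z : G} (hz : IsFpf G Ω z) (hzb : z • a = b) :
    z ∈ (normalizer (D.line B : Set G)).normalCore := by
  set N := normalizer (D.line B : Set G) with hN
  have hi : Nat.card (G ⧸ N) = 5 := by rw [← index_eq_card, D.index_normalizer_line B]
  have hHN : pairStab G a b ≤ N := fun h hh => mem_normalizer_of_conj_le fun y hy => by
    rw [← (D.line_comm B hy hh).eq, mul_inv_cancel_right]; exact hy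
  have hzm : z ∈ D.line B := Or.inr ⟨hz, hzb ▸ B.b_mem_fix₂⟩
  have hzN : z ∈ N := le_normalizer hzm
  set q₀ : G ⧸ N := QuotientGroup.mk 1
  have hfix0 : ∀ n ∈ N, n • q₀ = q₀ := fun n hn => by
    show (QuotientGroup.mk (n * 1) : G ⧸ N) = QuotientGroup.mk 1
    rw [QuotientGroup.eq, mul_one, mul_one]; exact inv_mem hn
  have hfree : ∀ y ∈ B.toCtx.four, y ≠ 1 → ∀ q : G ⧸ N, y • q = q → q = q₀ := by
    rintro y hy hy1 ⟨g⟩ hq
    change (QuotientGroup.mk (y * g) : G ⧸ N) = QuotientGroup.mk g at hq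
    rw [QuotientGroup.eq] at hq
    show (QuotientGroup.mk g : G ⧸ N) = QuotientGroup.mk 1
    rw [QuotientGroup.eq, mul_one]
    refine inv_mem ?_
    have hm : g⁻¹ * y * g ∈ N := by
      have := inv_mem hq
      simpa [mul_assoc] using this
    have hyy : y * y = 1 := hy.2
    have hconj : ∀ x ∈ D.line B, g⁻¹ * y * g * x * (g⁻¹ * y * g)⁻¹ ∈ D.line B := fun x hx =>
      (mem_normalizer_iff.1 hm x).1 hx
    obtain ⟨x, hxL, hx1, hxc⟩ : ∃ x ∈ D.line B, x ≠ 1 ∧ Commute (g⁻¹ * y * g) x := by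
      obtain ⟨x, hxL, hx1⟩ : ∃ x ∈ D.line B, x ≠ 1 := ⟨z, hzm, Invol.ne_one hz.1⟩
      set w := g⁻¹ * y * g with hw
      have hww : w * w = 1 := by
        rw [hw, show g⁻¹ * y * g * (g⁻¹ * y * g) = g⁻¹ * (y * y) * g by group, hyy, mul_one, inv_mul_cancel]
      by_cases hc : Commute w x
      · exact ⟨x, hxL, hx1, hc⟩
      refine ⟨x * (w * x * w⁻¹), mul_mem hxL (hconj x hxL), fun e => hc ?_, ?_⟩
      · have := (inv_eq_of_mul_eq_one_right e).symm
        rw [inv_eq_of_mul_eq_one_right (D.line_sq B x hxL)] at this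
        exact mul_inv_eq_iff_eq_mul.1 this
      · refine mul_inv_eq_iff_eq_mul.1 (show w * (x * (w * x * w⁻¹)) * w⁻¹ = x * (w * x * w⁻¹) from ?_)
        calc w * (x * (w * x * w⁻¹)) * w⁻¹ = (w * x * w⁻¹) * ((w * w) * x * (w⁻¹ * w⁻¹)) := by group
          _ = (w * x * w⁻¹) * x := by rw [← mul_inv_rev, hww, inv_one, one_mul, mul_one]
          _ = x * (w * x * w⁻¹) := (commute_of_sq (D.line_sq B) (hconj x hxL) hxL).eq
    obtain ⟨hxf, -⟩ := hxL.resolve_left hx1
    have hx'c : Commute y (g * x * g⁻¹) := by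
      have := hxc.map (MulAut.conj g)
      simpa [mul_assoc] using this
    have hxe : (g * x * g⁻¹) • a ∈ (fix {t, v} : Set Ω) := by
      refine D.four_free B hy hy1 ?_
      rw [← mul_smul, hx'c.eq, mul_smul, hy.1.1]
    exact D.mem_normalizer_of_meet B hxL hx1 (Or.inr ⟨hxf.conj g, hxe⟩)
  obtain ⟨x3, hx3, hx3o⟩ := B.exists_three
  haveI : Fact (Nat.Prime 3) := ⟨Nat.prime_three⟩
  have hR : IsPGroup 3 (zpowers x3) := IsPGroup.of_card (n := 1) (by rw [Nat.card_zpowers, hx3o, pow_one])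
  obtain ⟨q₁, hq1, hxq₁⟩ : ∃ q, q ≠ q₀ ∧ x3 • q = q := by
    by_contra hc
    push Not at hc
    have h := hR.card_modEq_card_fixedPoints (G ⧸ N)
    have e : fixedPoints (zpowers x3) (G ⧸ N) = {q₀} := by
      ext q
      constructor
      · exact fun hq => by_contra fun hne => hc q hne (hq ⟨x3, mem_zpowers x3⟩)
      · rintro rfl k
        exact hfix0 _ ((zpowers_le.2 (hHN hx3)) k.2)
    rw [e, hi, Nat.card_coe_set_eq, Set.ncard_singleton] at h
    exact absurd h (by decide)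
  -- the four group is regular on the other cosets
  let f : Option B.toCtx.four → G ⧸ N := fun o =>
    match o with
    | none => q₀
    | some y => (y : G) • q₁
  have hmove : ∀ n ∈ N, ∀ q, q ≠ q₀ → n • q ≠ q₀ := fun n hn q hq e =>
    hq (MulAction.injective n (e.trans (hfix0 n hn).symm))
  have hinj : Function.Injective f := by
    intro p q hpq
    cases p with
    | none =>
      cases q with
      | none => rfl
      | some y => exact absurd hpq.symm (hmove _ (hHN y.2.1) q₁ hq1)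
    | some y =>
      cases q with
      | none => exact absurd hpq (hmove _ (hHN y.2.1) q₁ hq1)
      | some y' =>
        congr 1
        by_contra hne
        refine hq1 (hfree _ (mul_mem (inv_mem y'.2) y.2) (fun h1 => hne (Subtype.ext (inv_mul_eq_one.1 h1).symm)) q₁ ?_)
        have hpq' : (y : G) • q₁ = (y' : G) • q₁ := hpq
        rw [mul_smul, hpq', inv_smul_smul]
  have hsurj : Function.Surjective f := ((Nat.bijective_iff_injective_and_card f).2
    ⟨hinj, by rw [Finite.card_option, B.toCtx.card_four, hi]⟩).2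
  have hother : ∀ q, q ≠ q₀ → ∃ y ∈ B.toCtx.four, y • q₁ = q := by
    intro q hq
    obtain ⟨o, ho⟩ := hsurj q
    cases o with
    | none => exact absurd ho.symm hq
    | some y => exact ⟨y, y.2, ho⟩
  obtain ⟨w, hw, hwq⟩ := hother (z • q₁) (hmove z hzN q₁ hq1)
  have hzc : ∀ h ∈ pairStab G a b, Commute z h := fun h hh => D.line_comm B hzm hh
  have hw1 : w = 1 := by
    refine B.eq_one_of_commute_three hx3 hx3o hw ?_
    have e : (x3 * w * x3⁻¹) • q₁ = w • q₁ := by
      rw [mul_smul, mul_smul, inv_smul_eq_iff.2 hxq₁.symm, hwq, ← mul_smul, ← (hzc x3 hx3).eq, mul_smul, hxq₁]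
    refine mul_inv_eq_iff_eq_mul.1 ?_
    by_contra hne
    refine hq1 (hfree _ (mul_mem (inv_mem hw) (B.conj_mem_four hx3 hw)) (fun h1 => hne (inv_mul_eq_one.1 h1).symm) q₁ ?_)
    rw [mul_smul, e, inv_smul_smul]
  rw [hw1, one_smul] at hwq
  rw [normalCore_eq_ker, MonoidHom.mem_ker]
  refine Equiv.ext fun q => ?_
  show z • q = q
  rcases eq_or_ne q q₀ with rfl | hq
  · exact hfix0 z hzN
  obtain ⟨y, hy, rfl⟩ := hother q hq
  rw [← mul_smul, (hzc y hy.1).eq, mul_smul, ← hwq]

theorem fpf_commute (D : Deg16 G Ω) (p : Ω) {x x' : G} (hx : IsFpf G Ω x) (hx' : IsFpf G Ω x') :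
    Commute x x' := by
  have hne := (D.fpf_swaps hx (p := p) rfl).2
  obtain ⟨t', v', B⟩ := exists_base (D.ctx hne)
  obtain ⟨g, hga, hgb⟩ := B.toCtx.two hne (D.fpf_swaps hx' (p := p) rfl).2
  have e : g * x * g⁻¹ = x' := D.fpf_ext (hx.conj g) hx' (p := p) (by
    conv_lhs => rw [← hga]
    rw [conj_smul, hgb])
  have hxm : x ∈ D.line B := Or.inr ⟨hx, B.b_mem_fix₂⟩
  set N := normalizer (D.line B : Set G)
  by_cases hg : g ∈ N
  · exact commute_of_sq (D.line_sq B) hxm (e ▸ (mem_normalizer_iff.1 hg x).1 hxm)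
  have hcore := D.fpf_mem_core B hx rfl
  have hn : N.normalCore.Normal := inferInstance
  have hx'N : x' ∈ N := normalCore_le N (e ▸ hn.conj_mem x hcore g)
  have hx'' : g⁻¹ * x * g ∈ N := by
    have := normalCore_le N (hn.conj_mem x hcore g⁻¹)
    rwa [inv_inv] at this
  by_contra hc
  have hw : x * (x' * x⁻¹ * x'⁻¹) ∈ D.line B :=
    mul_mem hxm ((mem_normalizer_iff.1 hx'N _).1 (inv_mem hxm))
  refine hg (D.mem_normalizer_of_meet B (y := g⁻¹ * (x * (x' * x⁻¹ * x'⁻¹)) * g) ?_ ?_ ?_)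
  · rw [← e, show g⁻¹ * (x * (g * x * g⁻¹ * x⁻¹ * (g * x * g⁻¹)⁻¹)) * g =
      (g⁻¹ * x * g * x * (g⁻¹ * x * g)⁻¹) * x⁻¹ by group]
    exact mul_mem ((mem_normalizer_iff.1 hx'' x).1 hxm) (inv_mem hxm)
  · intro h1
    refine hc ?_
    have h2 : x * (x' * x⁻¹ * x'⁻¹) = 1 := by
      calc _ = g * (g⁻¹ * (x * (x' * x⁻¹ * x'⁻¹)) * g) * g⁻¹ := by group
        _ = 1 := by rw [h1, mul_one, mul_inv_cancel]
    calc x * x' = (x * (x' * x⁻¹ * x'⁻¹)) * (x' * x) := by group
      _ = x' * x := by rw [h2, one_mul]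
  · rw [show g * (g⁻¹ * (x * (x' * x⁻¹ * x'⁻¹)) * g) * g⁻¹ = x * (x' * x⁻¹ * x'⁻¹) by group]
    exact hw

/-- The regular normal subgroup. -/
def translations (D : Deg16 G Ω) : Subgroup G where
  carrier := {g | g = 1 ∨ IsFpf G Ω g}
  one_mem' := Or.inl rfl
  mul_mem' := by
    rintro g h (rfl | hg) hh
    · rw [one_mul]; exact hh
    rcases hh with rfl | hh
    · rw [mul_one]; exact Or.inr hg
    rcases eq_or_ne g h with rfl | hne
    · exact Or.inl (Invol.inv_mul_self hg.1)
    obtain ⟨p⟩ : Nonempty Ω := (Nat.card_pos_iff.1 (by rw [D.card]; norm_num)).1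
    have hc := D.fpf_commute p hg hh
    refine Or.inr ⟨Invol.orderOf_eq_two_of (fun h1 => hne ?_) ?_, ?_⟩
    · rw [mul_eq_one_iff_eq_inv.1 h1, Invol.inv_eq_self hh.1]
    · rw [hc.symm.mul_mul_mul_comm, Invol.inv_mul_self hg.1, Invol.inv_mul_self hh.1, one_mul]
    · rintro ⟨-, q, -, -, hq, -⟩
      rw [mul_smul] at hq
      refine hne (D.fpf_ext hg hh (p := q) ?_)
      have := congrArg (g • ·) hq
      simp only [smul_smul_of_sq (Invol.inv_mul_self hg.1)] at this
      exact this.symm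
  inv_mem' := by
    rintro g (rfl | hg)
    · exact Or.inl inv_one
    · rw [Invol.inv_eq_self hg.1]; exact Or.inr hg

theorem translations_sq (D : Deg16 G Ω) : ∀ g ∈ D.translations, g * g = 1 := by
  rintro g (rfl | hg)
  · exact one_mul 1
  · exact Invol.inv_mul_self hg.1

theorem translations_normal (D : Deg16 G Ω) : D.translations.Normal := ⟨fun g hg k => by
  rcases hg with rfl | hg
  · exact Or.inl (by rw [mul_one, mul_inv_cancel])
  · exact Or.inr (hg.conj k)⟩

theorem translations_regular (D : Deg16 G Ω) (p q : Ω) :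
    ∃ g ∈ D.translations, g • p = q ∧ ∀ h ∈ D.translations, h • p = q → h = g := by
  rcases eq_or_ne p q with rfl | hne
  · refine ⟨1, Or.inl rfl, one_smul G p, ?_⟩
    rintro h (rfl | hh) e
    · rfl
    · exact absurd e (D.fpf_move hh p)
  obtain ⟨x, hx, hxq⟩ := D.exists_fpf hne
  refine ⟨x, Or.inr hx, hxq, ?_⟩
  rintro h (rfl | hh) e
  · exact absurd ((one_smul G p).symm.trans e) hne
  · exact D.fpf_ext hh hx (e.trans hxq.symm)

/-- The central element of order three of a point stabilizer. -/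
theorem exists_central_three (D : Deg16 G Ω) (B : Base G a b t v) :
    ∃ o : G, o • a = a ∧ o ≠ 1 ∧ o * (o * o) = 1 ∧ (∀ q : Ω, o • q = q → q = a) ∧
      ∀ g : G, g • a = a → Commute g o := by
  classical
  obtain ⟨hG, hH, -⟩ := B.cards
  rw [D.card, show 12 * (16 * (16 - 1)) = 2880 by norm_num] at hG
  obtain ⟨z, hz, hzb⟩ := D.exists_fpf B.toCtx.ne
  set N := normalizer (D.line B : Set G)
  set M := N.normalCore with hM
  have hMn : M.Normal := inferInstance
  have hM24 : 24 ≤ Nat.card M := by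
    have hi : Nat.card (G ⧸ N) = 5 := by rw [← index_eq_card, D.index_normalizer_line B]
    letI := Fintype.ofFinite (G ⧸ N)
    have h1 : Nat.card M * M.index = 2880 := hG ▸ M.card_mul_index
    have h2 : M.index ≤ 120 := by
      rw [hM, normalCore_eq_ker, index_ker]
      refine (Nat.le_of_dvd Nat.card_pos (card_subgroup_dvd_card _)).trans (le_of_eq ?_)
      rw [Nat.card_perm, hi]
      rfl
    by_contra hlt
    have := Nat.mul_le_mul (show Nat.card M ≤ 23 by omega) h2
    omega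
  set K := M ⊓ stabilizer G a with hK
  -- the core is transitive, so `K` is not trivial
  have hcardM : Nat.card M = Nat.card K * 16 := by
    have hMne : M ≠ ⊥ := fun e => by rw [e, card_bot] at hM24; omega
    have hor : MulAction.orbit M a = Set.univ := Set.eq_univ_of_forall fun p => by
      obtain ⟨x, hx, hxa⟩ := B.transitive_of_normal M hMne p
      exact ⟨⟨x, hx⟩, hxa⟩
    have h := (stabilizer M a).card_mul_index
    rw [index_stabilizer, hor, Set.ncard_univ, D.card] at h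
    rw [← h]
    congr 1
    exact Nat.card_congr
      { toFun := fun x => ⟨x.1.1, mem_inf.2 ⟨x.1.2, x.2⟩⟩
        invFun := fun x => ⟨⟨x.1, (mem_inf.1 x.2).1⟩, (mem_inf.1 x.2).2⟩
        left_inv := fun x => rfl
        right_inv := fun x => rfl }
  have hKN : ∀ {k g : G}, k ∈ K → g • a = a → g * k * g⁻¹ ∈ K := fun {k g} hk hg => mem_inf.2
    ⟨hMn.conj_mem k (mem_inf.1 hk).1 g, by
      show (g * k * g⁻¹) • a = a
      rw [mul_smul, mul_smul, inv_smul_eq_iff.2 hg.symm, (mem_inf.1 hk).2, hg]⟩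
  have hfreeM : ∀ y ∈ B.toCtx.four, y ∈ M → y = 1 := by
    intro y hy hyM
    by_contra hy1
    obtain ⟨g, hg⟩ : ∃ g : G, g ∉ N := by
      by_contra hc
      push Not at hc
      have := D.index_normalizer_line B
      rw [index_eq_one.2 (eq_top_iff.2 fun g _ => hc g)] at this
      omega
    have hm : g⁻¹ * y * g ∈ N := by
      have := normalCore_le N (hMn.conj_mem y hyM g⁻¹)
      rwa [inv_inv] at this
    refine hg ?_
    have hyy : y * y = 1 := hy.2
    have hzm : z ∈ D.line B := Or.inr ⟨hz, hzb ▸ B.b_mem_fix₂⟩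
    have hconj : ∀ x ∈ D.line B, g⁻¹ * y * g * x * (g⁻¹ * y * g)⁻¹ ∈ D.line B := fun x hx =>
      (mem_normalizer_iff.1 hm x).1 hx
    obtain ⟨x, hxL, hx1, hxc⟩ : ∃ x ∈ D.line B, x ≠ 1 ∧ Commute (g⁻¹ * y * g) x := by
      set w := g⁻¹ * y * g with hw
      have hww : w * w = 1 := by
        rw [hw, show g⁻¹ * y * g * (g⁻¹ * y * g) = g⁻¹ * (y * y) * g by group, hyy, mul_one, inv_mul_cancel]
      by_cases hc : Commute w z
      · exact ⟨z, hzm, Invol.ne_one hz.1, hc⟩
      refine ⟨z * (w * z * w⁻¹), mul_mem hzm (hconj z hzm), fun e => hc ?_, ?_⟩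
      · have := (inv_eq_of_mul_eq_one_right e).symm
        rw [Invol.inv_eq_self hz.1] at this
        exact mul_inv_eq_iff_eq_mul.1 this
      · refine mul_inv_eq_iff_eq_mul.1 (show w * (z * (w * z * w⁻¹)) * w⁻¹ = z * (w * z * w⁻¹) from ?_)
        calc w * (z * (w * z * w⁻¹)) * w⁻¹ = (w * z * w⁻¹) * ((w * w) * z * (w⁻¹ * w⁻¹)) := by group
          _ = (w * z * w⁻¹) * z := by rw [← mul_inv_rev, hww, inv_one, one_mul, mul_one]
          _ = z * (w * z * w⁻¹) := (commute_of_sq (D.line_sq B) (hconj z hzm) hzm).eq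
    obtain ⟨hxf, -⟩ := hxL.resolve_left hx1
    have hx'c : Commute y (g * x * g⁻¹) := by
      have := hxc.map (MulAut.conj g)
      simpa [mul_assoc] using this
    have hxe : (g * x * g⁻¹) • a ∈ (fix {t, v} : Set Ω) := by
      refine D.four_free B hy hy1 ?_
      rw [← mul_smul, hx'c.eq, mul_smul, hy.1.1]
    exact D.mem_normalizer_of_meet B hxL hx1 (Or.inr ⟨hxf.conj g, hxe⟩)
  have hno2 : ∀ k ∈ K, orderOf k ≠ 2 := by
    intro k hk hk2
    obtain ⟨g, hg, hge⟩ := B.exists_stab_conj (B.isT_of_even (by rw [D.card]) (mem_inf.1 hk).2 hk2) (mem_inf.1 hk).2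
    have htM : t ∈ M := by
      have := hMn.conj_mem k (mem_inf.1 hk).1 g⁻¹
      rwa [← hge, show g⁻¹ * (g * t * g⁻¹) * g⁻¹⁻¹ = t by group] at this
    exact Invol.ne_one B.ht (hfreeM t B.t_mem_four htM)
  have hsq : ∀ k ∈ K, k * k = 1 → k = 1 := fun k hk h => by
    by_contra h1
    exact hno2 k hk (Invol.orderOf_eq_two_of h1 h)
  have hsemi : ∀ k ∈ K, ∀ q : Ω, k • q = q → q ≠ a → k = 1 := by
    intro k hk q hkq hqa
    obtain ⟨t', v', B'⟩ := exists_base (D.ctx hqa.symm)
    have hkH : k ∈ pairStab G a q := mem_pairStab.2 ⟨(mem_inf.1 hk).2, hkq⟩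
    have hy : t' * k * t'⁻¹ * k⁻¹ ∈ B'.toCtx.four := by
      rw [show t' * k * t'⁻¹ * k⁻¹ = t' * (k * t'⁻¹ * k⁻¹) by group]
      exact mul_mem B'.t_mem_four (B'.conj_mem_four hkH (inv_mem B'.t_mem_four))
    have h1 := hsq _ (mul_mem (hKN hk B'.t_mem_stab) (inv_mem hk)) hy.2
    have hc : k * t' = t' * k := (mul_inv_eq_iff_eq_mul.1 (mul_inv_eq_one.1 h1)).symm
    exact hsq k hk (B'.toCtx.sq_of_commute B'.htH hkH B'.ht hc)
  have hKF : ∀ k ∈ K, k • b ∈ (fix {t, v} : Set Ω) ∧ k • b ≠ a := by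
    intro k hk
    have hka : k • a = a := (mem_inf.1 hk).2
    refine ⟨?_, fun e => B.toCtx.ne.symm (MulAction.injective k (e.trans hka.symm))⟩
    have hzm : z ∈ D.line B := Or.inr ⟨hz, hzb ▸ B.b_mem_fix₂⟩
    have hkz := (mem_normalizer_iff.1 (normalCore_le N (mem_inf.1 hk).1) z).1 hzm
    obtain ⟨-, h⟩ := hkz.resolve_left fun e => Invol.ne_one hz.1 (conj_eq_one_iff.1 e)
    rwa [mul_smul, mul_smul, inv_smul_eq_iff.2 hka.symm, hzb] at h
  have hinjK : ∀ k ∈ K, ∀ k' ∈ K, k • b = k' • b → k = k' := fun k hk k' hk' e =>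
    (inv_mul_eq_one.1 (hsemi _ (mul_mem (inv_mem hk') hk) b (by rw [mul_smul, e, inv_smul_smul]) B.toCtx.ne.symm)).symm
  have hK3 : Nat.card K = 3 := by
    have hle : Nat.card K ≤ 3 := by
      calc Nat.card K ≤ Nat.card ↥((fix {t, v} : Set Ω) \ {a}) :=
            Nat.card_le_card_of_injective (fun k => ⟨(k : G) • b, (hKF k k.2).1, (hKF k k.2).2⟩)
              fun k k' e => Subtype.ext (hinjK k k.2 k' k'.2 (congrArg Subtype.val e))
        _ = 3 := by rw [Nat.card_coe_set_eq, Set.ncard_diff_singleton_of_mem B.a_mem_fix₂, D.fix_two B]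
    have h2 : Nat.card K ≠ 2 := fun h => by
      haveI : Fact (Nat.Prime 2) := ⟨Nat.prime_two⟩
      obtain ⟨k, hk⟩ := exists_prime_orderOf_dvd_card' (G := K) 2 (by rw [h])
      exact hno2 k k.2 (by rw [Subgroup.orderOf_coe, hk])
    omega
  haveI : Fact (Nat.Prime 3) := ⟨Nat.prime_three⟩
  obtain ⟨o', ho'⟩ := exists_prime_orderOf_dvd_card' (G := K) 3 (by rw [hK3])
  have hoo : orderOf (o' : G) = 3 := by rw [Subgroup.orderOf_coe, ho']
  set o : G := (o' : G)
  have hoK : o ∈ K := o'.2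
  have ho1 : o ≠ 1 := fun e => by rw [e, orderOf_one] at hoo; omega
  have ho3 : o * (o * o) = 1 := by
    rw [← pow_two, ← pow_succ', show 2 + 1 = orderOf o by rw [hoo], pow_orderOf_eq_one]
  refine ⟨o, (mem_inf.1 hoK).2, ho1, ho3, fun q hq => by_contra fun h => ho1 (hsemi o hoK q hq h), ?_⟩
  have hfour : ∀ y ∈ B.toCtx.four, Commute y o := by
    intro y hy
    refine mul_inv_eq_iff_eq_mul.1 (hinjK _ (hKN hoK hy.1.1) o hoK ?_)
    rw [mul_smul, mul_smul, inv_smul_eq_iff.2 (mem_pairStab.1 hy.1).2.symm]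
    exact B.four_fix (hKF o hoK).1 hy
  intro g hg
  set S := stabilizer G a
  set C := (centralizer ({o} : Set G)).subgroupOf S with hC
  have h4 : 4 ∣ Nat.card C := by
    rw [← B.toCtx.card_four, ← Nat.card_congr (subgroupOfEquivOfLe (fun x hx => hx.1.1 : B.toCtx.four ≤ S)).toEquiv]
    exact card_dvd_of_le fun x hx => mem_subgroupOf.2
      (mem_centralizer_singleton_iff.2 (hfour _ (mem_subgroupOf.1 hx)).eq)
  have hconj : ∀ g : S, (g : G) * o * (g : G)⁻¹ ∈ ({o, o * o} : Set G) := by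
    intro g
    have hm := hKN hoK g.2
    have hgo : orderOf ((g : G) * o * (g : G)⁻¹) = 3 := by rw [Invol.orderOf_conj_eq, hoo]
    have hKz : zpowers o = K := eq_of_le_of_card_ge (zpowers_le.2 hoK) (by rw [Nat.card_zpowers, hoo, hK3])
    rw [← hKz] at hm
    obtain ⟨i, hi⟩ := mem_zpowers_iff.1 hm
    have he : o ^ i = o ^ (i % 3) := by
      rw [show (3 : ℤ) = ((orderOf o : ℕ) : ℤ) by rw [hoo]; rfl, zpow_mod_orderOf]
    rcases (show i % 3 = 0 ∨ i % 3 = 1 ∨ i % 3 = 2 by omega) with e | e | e <;> rw [e] at he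
    · rw [zpow_zero] at he
      rw [← hi, he, orderOf_one] at hgo
      omega
    · exact Or.inl (by rw [← hi, he, zpow_one])
    · exact Or.inr (by rw [Set.mem_singleton_iff, ← hi, he, zpow_two])
  have hidx : C.index ≤ 2 := by
    rw [index_eq_card]
    refine (Nat.card_le_card_of_injective (α := ↥S ⧸ C) (β := ↥({o, o * o} : Set G))
      (fun q => Quotient.liftOn' q (fun g : S => (⟨(g : G) * o * (g : G)⁻¹, hconj g⟩ : ↥({o, o * o} : Set G))) ?_)
      ?_).trans ?_
    · intro p q hpq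
      rw [QuotientGroup.leftRel_apply, mem_subgroupOf] at hpq
      exact Subtype.ext (Invol.coset_iff_conj.1 hpq).symm
    · rintro ⟨p⟩ ⟨q⟩ hpq
      exact QuotientGroup.eq.2 (mem_subgroupOf.2 (Invol.coset_iff_conj.2 (congrArg Subtype.val hpq).symm))
    · rw [Nat.card_coe_set_eq]
      exact (Set.ncard_insert_le _ _).trans (by rw [Set.ncard_singleton])
  have h180 := C.card_mul_index
  rw [hH, D.card] at h180
  have h0 : C.index ≠ 0 := index_ne_zero_of_finite
  have hone : C.index = 1 := by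
    rcases (show C.index = 1 ∨ C.index = 2 by omega) with e | e
    · exact e
    · rw [e] at h180
      obtain ⟨k, hk⟩ := h4
      omega
  have hgC : (⟨g, hg⟩ : S) ∈ C := by rw [index_eq_one.1 hone]; exact mem_top _
  exact mem_centralizer_singleton_iff.1 (mem_subgroupOf.1 hgC)

end Deg16

end Cfsg.Lib.A4Stab
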