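import Cfsg.Agent.Lib.A4Stab.Setting

/-!
# The elements exchanging the two points
-/

set_option autoImplicit false
set_option linter.style.haveILetI false
set_option linter.unusedSectionVars false

namespace Cfsg.Lib.A4Stab

open Subgroup MulAction

universe u w

variable {G : Type u} [Group G] [Finite G] {Ω : Type w} [Finite Ω] [MulAction G Ω] [FaithfulSMul G Ω]

/-- An involution exchanging `a`, `b` and centralizing their stabilizer. -/
structure CentralSwap (G : Type u) [Group G] {Ω : Type w} [MulAction G Ω] (a b : Ω) (z : G) : Prop where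
  ord : orderOf z = 2
  swaps : Swaps z a b
  comm : ∀ h ∈ pairStab G a b, Commute z h

/-- An involution exchanging `a`, `b` and acting as a transposition on the four group. -/
structure OuterSwap (G : Type u) [Group G] {Ω : Type w} [MulAction G Ω] (a b : Ω) (t v u : G) : Prop where
  ord : orderOf u = 2
  swaps : Swaps u a b
  comm : Commute u t
  moves : u * v * u⁻¹ = t * v
  none : ∀ g : G, Swaps g a b → Commute g t → Commute g v → False

theorem Swaps.mul_mem {a b : Ω} {g k : G} (hg : Swaps g a b) (hk : Swaps k a b) : g * k ∈ pairStab G a b :=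
  mem_pairStab.2 ⟨by rw [mul_smul, hk.1, hg.2], by rw [mul_smul, hk.2, hg.1]⟩

theorem Swaps.mul_pairStab {a b : Ω} {g h : G} (hg : Swaps g a b) (hh : h ∈ pairStab G a b) : Swaps (g * h) a b :=
  ⟨by rw [mul_smul, (mem_pairStab.1 hh).1, hg.1], by rw [mul_smul, (mem_pairStab.1 hh).2, hg.2]⟩

theorem Swaps.inv {a b : Ω} {g : G} (hg : Swaps g a b) : Swaps g⁻¹ a b :=
  ⟨by rw [inv_smul_eq_iff, hg.2], by rw [inv_smul_eq_iff, hg.1]⟩

theorem Swaps.conj_pairStab {a b : Ω} {g h : G} (hg : Swaps g a b) (hh : h ∈ pairStab G a b) :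
    Swaps (h * g * h⁻¹) a b := by
  have := hg.conj (k := h)
  rwa [(mem_pairStab.1 hh).1, (mem_pairStab.1 hh).2] at this

namespace Base

variable {a b : Ω} {t v : G}

theorem swaps_conj_pairStab {g h : G} (hg : Swaps g a b) (hh : h ∈ pairStab G a b) :
    g * h * g⁻¹ ∈ pairStab G a b := by
  have := (hg.mul_pairStab hh).mul_mem hg.inv
  exact this

theorem swaps_conj_four (B : Base G a b t v) {g x : G} (hg : Swaps g a b) (hx : x ∈ B.toCtx.four) :
    g * x * g⁻¹ ∈ B.toCtx.four :=
  ⟨swaps_conj_pairStab hg hx.1, by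
    rw [show g * x * g⁻¹ * (g * x * g⁻¹) = g * (x * x) * g⁻¹ by group, hx.2, mul_one, mul_inv_cancel]⟩

theorem not_swaps_of_mem (B : Base G a b t v) {g : G} (hg : g ∈ pairStab G a b) : ¬ Swaps g a b := fun h =>
  B.toCtx.ne ((mem_pairStab.1 hg).1.symm.trans h.1)

theorem commute_four_of (B : Base G a b t v) {g : G} (h1 : Commute g t) (h2 : Commute g v) {x : G}
    (hx : x ∈ B.toCtx.four) : Commute g x := by
  rcases B.four_cases hx with rfl | rfl | rfl | rfl
  exacts [Commute.one_right g, h1, h2, h1.mul_right h2]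

theorem exists_three (B : Base G a b t v) : ∃ x ∈ pairStab G a b, orderOf x = 3 := by
  haveI : Fact (Nat.Prime 3) := ⟨Nat.prime_three⟩
  obtain ⟨x, hx⟩ := exists_prime_orderOf_dvd_card' (G := pairStab G a b) 3 (by rw [B.toCtx.card_pairStab]; norm_num)
  exact ⟨x, x.2, by rw [Subgroup.orderOf_coe, hx]⟩

theorem eq_one_of_commute_three (B : Base G a b t v) {x y : G} (hx : x ∈ pairStab G a b) (hxo : orderOf x = 3)
    (hy : y ∈ B.toCtx.four) (hc : Commute x y) : y = 1 := by
  by_contra h1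
  have h2 := B.toCtx.sq_of_commute hy.1 hx (B.toCtx.orderOf_of_mem_four hy h1) hc.eq
  have := orderOf_dvd_of_pow_eq_one (show x ^ 2 = 1 by rw [pow_two, h2])
  rw [hxo] at this
  norm_num at this

theorem mem_four_of_commute (B : Base G a b t v) {h : G} (hh : h ∈ pairStab G a b) (hc : Commute h t) :
    h ∈ B.toCtx.four := ⟨hh, B.toCtx.sq_of_commute B.htH hh B.ht hc.eq⟩

theorem sq_of_central (B : Base G a b t v) {g : G} (hg : Swaps g a b) (h1 : Commute g t) (h2 : Commute g v) :
    g * g = 1 := by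
  obtain ⟨x, hx, hxo⟩ := B.exists_three
  set g' := x * g * x⁻¹ with hg'
  have hs' : Swaps g' a b := hg.conj_pairStab hx
  have hc : ∀ y ∈ B.toCtx.four, Commute g' y := fun y hy => by
    have h := (B.commute_four_of h1 h2 (B.conj_mem_four (inv_mem hx) hy)).map (MulAut.conj x)
    simpa [mul_assoc, hg'] using h
  set w := g⁻¹ * g' with hw
  have hwH : w ∈ pairStab G a b := hg.inv.mul_mem hs'
  have hw4 : w ∈ B.toCtx.four :=
    B.mem_four_of_commute hwH ((h1.inv_left).mul_left (hc t B.t_mem_four))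
  have hgg : g * g ∈ B.toCtx.four := B.mem_four_of_commute (hg.mul_mem hg) (h1.mul_left h1)
  refine B.eq_one_of_commute_three hx hxo hgg ?_
  have e : x * (g * g) * x⁻¹ = g * g := by
    rw [show x * (g * g) * x⁻¹ = g' * g' by rw [hg']; group, show g' = g * w by rw [hw]; group,
      (B.commute_four_of h1 h2 hw4).symm.mul_mul_mul_comm, hw4.2, mul_one]
  exact mul_inv_eq_iff_eq_mul.1 e

theorem exists_centralSwap (B : Base G a b t v) {g : G} (hg : Swaps g a b) (h1 : Commute g t)
    (h2 : Commute g v) : ∃ z, CentralSwap G a b z := by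
  obtain ⟨x, hx, hxo⟩ := B.exists_three
  have hx3 : x * (x * x) = 1 := by
    rw [← pow_two, ← pow_succ', show 2 + 1 = orderOf x by rw [hxo], pow_orderOf_eq_one]
  have hall : ∀ h ∈ pairStab G a b, Swaps (h * g * h⁻¹) a b ∧ ∀ y ∈ B.toCtx.four, Commute (h * g * h⁻¹) y :=
    fun h hh => ⟨hg.conj_pairStab hh, fun y hy => by
      have h' := (B.commute_four_of h1 h2 (B.conj_mem_four (inv_mem hh) hy)).map (MulAut.conj h)
      simpa [mul_assoc] using h'⟩
  set g2 := x * g * x⁻¹ with hg2
  set g3 := (x * x) * g * (x * x)⁻¹ with hg3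
  obtain ⟨hs2, hc2⟩ := hall x hx
  obtain ⟨hs3, hc3⟩ := hall (x * x) (mul_mem hx hx)
  -- the three conjugates commute
  have hcom : ∀ p q : G, Swaps p a b → Swaps q a b → (∀ y ∈ B.toCtx.four, Commute p y) →
      (∀ y ∈ B.toCtx.four, Commute q y) → Commute p q := by
    intro p q hp hq hcp hcq
    have hw : p⁻¹ * q ∈ B.toCtx.four := B.mem_four_of_commute (hp.inv.mul_mem hq)
      (((hcp t B.t_mem_four).inv_left).mul_left (hcq t B.t_mem_four))
    have := (Commute.refl p).mul_right (hcp _ hw)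
    rwa [mul_inv_cancel_left] at this
  have hc1 : ∀ y ∈ B.toCtx.four, Commute g y := fun y hy => B.commute_four_of h1 h2 hy
  have c12 : Commute g g2 := hcom g g2 hg hs2 hc1 hc2
  have c13 : Commute g g3 := hcom g g3 hg hs3 hc1 hc3
  have c23 : Commute g2 g3 := hcom g2 g3 hs2 hs3 hc2 hc3
  have hw : g2 * g3 ∈ B.toCtx.four :=
    B.mem_four_of_commute (hs2.mul_mem hs3) ((hc2 t B.t_mem_four).mul_left (hc3 t B.t_mem_four))
  set z := g * (g2 * g3) with hz
  have hzs : Swaps z a b := hg.mul_pairStab hw.1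
  have hzz : z * z = 1 := by
    rw [hz, (hc1 _ hw).symm.mul_mul_mul_comm, hw.2, mul_one, B.sq_of_central hg h1 h2]
  have hzc : ∀ y ∈ B.toCtx.four, Commute z y := fun y hy => (hc1 y hy).mul_left (B.toCtx.commute_four hw hy)
  have hxz : Commute z x := by
    have e1 : x * g2 * x⁻¹ = g3 := by rw [hg2, hg3]; group
    have e2 : x * g3 * x⁻¹ = g := by
      rw [hg3, show x * (x * x * g * (x * x)⁻¹) * x⁻¹ = (x * (x * x)) * g * (x * (x * x))⁻¹ by group, hx3, inv_one,
        one_mul, mul_one]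
    have e : x * z * x⁻¹ = z := by
      rw [hz, show x * (g * (g2 * g3)) * x⁻¹ = (x * g * x⁻¹) * ((x * g2 * x⁻¹) * (x * g3 * x⁻¹)) by group,
        ← hg2, e1, e2, ← mul_assoc, ← (c12.mul_right c13).eq]
    exact (mul_inv_eq_iff_eq_mul.1 e).symm
  refine ⟨z, Invol.orderOf_eq_two_of (fun h => B.toCtx.ne ?_) hzz, hzs, fun h hh => ?_⟩
  · rw [← hzs.1, h, one_smul]
  · have hle : pairStab G a b ≤ centralizer ({z} : Set G) := by
      have hsub : centralizer ({z} : Set G) ⊓ pairStab G a b = pairStab G a b := by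
        refine eq_of_le_of_card_ge inf_le_right ?_
        have d4 : 4 ∣ Nat.card ↥(centralizer ({z} : Set G) ⊓ pairStab G a b) := by
          rw [← B.toCtx.card_four]
          exact card_dvd_of_le (le_inf (fun y hy => mem_centralizer_singleton_iff.2 (hzc y hy).symm.eq) B.toCtx.four_le)
        have d3 : 3 ∣ Nat.card ↥(centralizer ({z} : Set G) ⊓ pairStab G a b) := by
          rw [← hxo]
          exact Subgroup.orderOf_dvd_natCard _ (mem_inf.2 ⟨mem_centralizer_singleton_iff.2 hxz.symm.eq, hx⟩)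
        rw [B.toCtx.card_pairStab]
        exact Nat.le_of_dvd Nat.card_pos ((show Nat.Coprime 4 3 by norm_num).mul_dvd_of_dvd_of_dvd d4 d3)
      exact hsub ▸ inf_le_left
    exact (mem_centralizer_singleton_iff.1 (hle hh)).symm

theorem exists_outerSwap (B : Base G a b t v)
    (hno : ∀ g : G, Swaps g a b → Commute g t → Commute g v → False) : ∃ u, OuterSwap G a b t v u := by
  obtain ⟨g, hga, hgb⟩ := B.toCtx.two B.toCtx.ne B.toCtx.ne.symm
  have hg : Swaps g a b := ⟨hga, hgb⟩
  have h2g : 2 ∣ orderOf g := odd_of_swaps_mem (hg.mul_mem hg) fun h => B.not_swaps_of_mem h hg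
  -- a two-element exchanging the points
  obtain ⟨k, m, hm, hord⟩ := Nat.exists_eq_two_pow_mul_odd (orderOf_pos g).ne'
  obtain ⟨r, rfl⟩ := hm
  set g' := g ^ (2 * r + 1) with hg'
  have hgs : Swaps g' a b := by
    rw [hg', pow_succ', pow_mul, pow_two]
    exact hg.mul_pairStab (pow_mem (hg.mul_mem hg) r)
  have hg'o : orderOf g' = 2 ^ k := by
    rw [hg', orderOf_pow_of_dvd (by omega) (hord ▸ dvd_mul_left _ _), hord, Nat.mul_div_cancel _ (by omega)]
  have hgg : g' * g' ∈ B.toCtx.four := by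
    refine ⟨hgs.mul_mem hgs, ?_⟩
    have h12 : orderOf (g' * g') ∣ 12 := B.toCtx.card_pairStab ▸ Subgroup.orderOf_dvd_natCard _ (hgs.mul_mem hgs)
    have h2k : orderOf (g' * g') ∣ 2 ^ k := by
      refine hg'o ▸ ?_
      rw [← pow_two]
      exact orderOf_pow_dvd 2
    obtain ⟨l, -, hl⟩ := (Nat.dvd_prime_pow Nat.prime_two).1 h2k
    rcases Nat.lt_or_ge l 2 with h | h
    · rw [← orderOf_dvd_iff_pow_eq_one.1 (hl ▸ pow_dvd_pow 2 (by omega : l ≤ 1) : orderOf (g' * g') ∣ 2 ^ 1), pow_one,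
        pow_two]
    · exfalso
      haveI := B.toCtx.isKleinFour_four
      -- no element of order four in `A₄`
      have h4 : orderOf (g' * g') ∣ 4 := by
        have := Nat.Coprime.pow_left l (show Nat.Coprime 2 3 by norm_num)
        rw [hl] at h12 ⊢
        exact this.dvd_of_dvd_mul_right (show 2 ^ l ∣ 4 * 3 from h12)
      obtain ⟨y, hy⟩ : ∃ y, y = (g' * g') * (g' * g') := ⟨_, rfl⟩
      have hy1 : y ≠ 1 := fun e => by
        have h1 : orderOf (g' * g') ∣ 2 := orderOf_dvd_of_pow_eq_one (by rw [pow_two, ← hy, e])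
        have h3 := Nat.le_of_dvd two_pos (hl ▸ h1)
        have := Nat.pow_le_pow_right two_pos h
        omega
      have hy2 : orderOf y = 2 := Invol.orderOf_eq_two_of hy1 (by
        rw [hy, ← pow_two, ← pow_two, ← pow_mul]
        exact orderOf_dvd_iff_pow_eq_one.1 h4)
      have := B.toCtx.sq_of_commute (hy ▸ mul_mem (hgs.mul_mem hgs) (hgs.mul_mem hgs)) (hgs.mul_mem hgs) hy2
        (by rw [hy]; group)
      exact hy1 (by rw [hy, this])
  -- an involution exchanging the points
  obtain ⟨u0, hu0, hu0s⟩ : ∃ u0 : G, u0 * u0 = 1 ∧ Swaps u0 a b := by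
    by_cases h1 : g' * g' = 1
    · exact ⟨g', h1, hgs⟩
    obtain ⟨y, hy, hyne⟩ : ∃ y ∈ B.toCtx.four, ¬ Commute g' y := by
      by_contra hc
      push Not at hc
      exact hno g' hgs (hc t B.t_mem_four) (hc v B.v_mem_four)
    set s := g' * g' with hs
    have hsg : g'⁻¹ * s * g' = s := by rw [hs]; group
    have hy' : g'⁻¹ * y * g' ∈ B.toCtx.four := by simpa using B.swaps_conj_four hgs.inv hy
    have hy1 : y ≠ 1 := fun e => hyne (e ▸ Commute.one_right g')
    have hys : s ≠ y := fun e => hyne (by rw [← e, hs]; exact (Commute.refl g').mul_right (Commute.refl g'))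
    haveI := B.toCtx.isKleinFour_four
    have hinj : ∀ p q : G, g'⁻¹ * p * g' = g'⁻¹ * q * g' → p = q := fun p q h => mul_left_cancel (mul_right_cancel h)
    rcases Invol.klein_mem_cases hgg hy h1 hy1 hys hy' (fun e => hy1 (hinj y 1 (by rw [e]; group))) with e | e | e
    · exact absurd (hinj y s (e.trans hsg.symm)) (Ne.symm hys)
    · refine absurd (show g' * y = y * g' from ?_) hyne
      calc g' * y = g' * (g'⁻¹ * y * g') := by rw [e]
        _ = y * g' := by group
    · refine ⟨g' * y, ?_, hgs.mul_pairStab hy.1⟩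
      calc g' * y * (g' * y) = s * (g'⁻¹ * y * g') * y := by rw [hs]; group
        _ = s * (s * y) * y := by rw [e]
        _ = (s * s) * (y * y) := by group
        _ = 1 := by rw [hgg.2, hy.2, mul_one]
  -- a fixed involution of the four group
  obtain ⟨x0, hx0, hx01, hx0c⟩ : ∃ x0 ∈ B.toCtx.four, x0 ≠ 1 ∧ Commute u0 x0 := by
    by_cases hc : Commute u0 v
    · exact ⟨v, B.v_mem_four, Invol.ne_one B.hv, hc⟩
    have hv' := B.swaps_conj_four hu0s B.v_mem_four
    refine ⟨v * (u0 * v * u0⁻¹), mul_mem B.v_mem_four hv', fun e => hc ?_, ?_⟩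
    · have : u0 * v * u0⁻¹ = v := by
        rw [← mul_right_inj v, e, B.hvv]
      exact mul_inv_eq_iff_eq_mul.1 this
    · refine mul_inv_eq_iff_eq_mul.1 (show u0 * (v * (u0 * v * u0⁻¹)) * u0⁻¹ = v * (u0 * v * u0⁻¹) from ?_)
      have hui : u0⁻¹ = u0 := inv_eq_of_mul_eq_one_right hu0
      calc u0 * (v * (u0 * v * u0⁻¹)) * u0⁻¹ = (u0 * v * u0⁻¹) * ((u0 * u0) * v * (u0⁻¹ * u0⁻¹)) := by group
        _ = (u0 * v * u0⁻¹) * v := by rw [← mul_inv_rev, hu0, inv_one, one_mul, mul_one]
        _ = v * (u0 * v * u0⁻¹) := (B.toCtx.commute_four hv' B.v_mem_four).eq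
  obtain ⟨h, hh, hconj⟩ := B.toCtx.exists_conj hx0.1 B.htH (B.toCtx.orderOf_of_mem_four hx0 hx01) B.ht
  set u := h * u0 * h⁻¹ with hu
  have hus : Swaps u a b := hu0s.conj_pairStab hh
  have huu : u * u = 1 := by
    rw [hu, show h * u0 * h⁻¹ * (h * u0 * h⁻¹) = h * (u0 * u0) * h⁻¹ by group, hu0, mul_one, mul_inv_cancel]
  have huc : Commute u t := by
    have := hx0c.map (MulAut.conj h)
    simpa [hconj, hu] using this
  refine ⟨u, Invol.orderOf_eq_two_of (fun e => B.toCtx.ne ?_) huu, hus, huc, ?_, hno⟩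
  · rw [← hus.1, e, one_smul]
  · have hvm := B.swaps_conj_four hus B.v_mem_four
    rcases B.four_cases hvm with e | e | e | e
    · exact absurd (mul_left_cancel (mul_inv_eq_one.1 e |>.trans (mul_one u).symm)) (Invol.ne_one B.hv)
    · exact absurd (mul_right_cancel (show v * u = t * u by
        have h1 := mul_inv_eq_iff_eq_mul.1 e
        have h2 : u * (u * v) = u * (t * u) := by rw [h1]
        rw [← mul_assoc, huu, one_mul, ← mul_assoc, huc.eq, mul_assoc, huu, mul_one] at h2
        rw [h2])) (Ne.symm B.htv)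
    · exact absurd (mul_inv_eq_iff_eq_mul.1 e) fun hc => hno u hus huc hc
    · exact e

theorem dichotomy (B : Base G a b t v) : (∃ z, CentralSwap G a b z) ∨ ∃ u, OuterSwap G a b t v u := by
  by_cases h : ∃ g : G, Swaps g a b ∧ Commute g t ∧ Commute g v
  · obtain ⟨g, hg, h1, h2⟩ := h
    exact Or.inl (B.exists_centralSwap hg h1 h2)
  · push Not at h
    exact Or.inr (B.exists_outerSwap fun g hg h1 h2 => h g hg h1 h2)

end Base

end Cfsg.Lib.A4Stab
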